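import Cfsg.Agent.Lib.Helper35.Fi23Ord.X0.Data

set_option Elab.async false

namespace Cfsg.Agent.Lib.Helper35.Fi23Ord.X0

open Cfsg.Agent.Lib.Helper35

theorem q0c0 : allBelow (fun k => fq0 (Nat.add 0 k)) 793 = true := by decide +kernel
theorem q0u0 : ∀ i, i < 793 → fq0 i = true := below_step fq0 0 793 793 (below_zero fq0) q0c0 rfl
theorem q0c1 : allBelow (fun k => fq0 (Nat.add 793 k)) 793 = true := by decide +kernel
theorem q0u1 : ∀ i, i < 1586 → fq0 i = true := below_step fq0 793 793 1586 q0u0 q0c1 rfl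
theorem q0c2 : allBelow (fun k => fq0 (Nat.add 1586 k)) 793 = true := by decide +kernel
theorem q0u2 : ∀ i, i < 2379 → fq0 i = true := below_step fq0 1586 793 2379 q0u1 q0c2 rfl
theorem q0c3 : allBelow (fun k => fq0 (Nat.add 2379 k)) 793 = true := by decide +kernel
theorem q0u3 : ∀ i, i < 3172 → fq0 i = true := below_step fq0 2379 793 3172 q0u2 q0c3 rfl
theorem q0c4 : allBelow (fun k => fq0 (Nat.add 3172 k)) 793 = true := by decide +kernel
theorem q0u4 : ∀ i, i < 3965 → fq0 i = true := below_step fq0 3172 793 3965 q0u3 q0c4 rfl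
theorem q0c5 : allBelow (fun k => fq0 (Nat.add 3965 k)) 793 = true := by decide +kernel
theorem q0u5 : ∀ i, i < 4758 → fq0 i = true := below_step fq0 3965 793 4758 q0u4 q0c5 rfl
theorem q0c6 : allBelow (fun k => fq0 (Nat.add 4758 k)) 793 = true := by decide +kernel
theorem q0u6 : ∀ i, i < 5551 → fq0 i = true := below_step fq0 4758 793 5551 q0u5 q0c6 rfl
theorem q0c7 : allBelow (fun k => fq0 (Nat.add 5551 k)) 793 = true := by decide +kernel
theorem q0u7 : ∀ i, i < 6344 → fq0 i = true := below_step fq0 5551 793 6344 q0u6 q0c7 rfl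
theorem q0c8 : allBelow (fun k => fq0 (Nat.add 6344 k)) 793 = true := by decide +kernel
theorem q0u8 : ∀ i, i < 7137 → fq0 i = true := below_step fq0 6344 793 7137 q0u7 q0c8 rfl
theorem q0c9 : allBelow (fun k => fq0 (Nat.add 7137 k)) 793 = true := by decide +kernel
theorem q0u9 : ∀ i, i < 7930 → fq0 i = true := below_step fq0 7137 793 7930 q0u8 q0c9 rfl
theorem q0c10 : allBelow (fun k => fq0 (Nat.add 7930 k)) 793 = true := by decide +kernel
theorem q0u10 : ∀ i, i < 8723 → fq0 i = true := below_step fq0 7930 793 8723 q0u9 q0c10 rfl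
theorem q0c11 : allBelow (fun k => fq0 (Nat.add 8723 k)) 793 = true := by decide +kernel
theorem q0u11 : ∀ i, i < 9516 → fq0 i = true := below_step fq0 8723 793 9516 q0u10 q0c11 rfl
theorem q0c12 : allBelow (fun k => fq0 (Nat.add 9516 k)) 793 = true := by decide +kernel
theorem q0u12 : ∀ i, i < 10309 → fq0 i = true := below_step fq0 9516 793 10309 q0u11 q0c12 rfl
theorem q0c13 : allBelow (fun k => fq0 (Nat.add 10309 k)) 793 = true := by decide +kernel
theorem q0u13 : ∀ i, i < 11102 → fq0 i = true := below_step fq0 10309 793 11102 q0u12 q0c13 rfl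
theorem q0c14 : allBelow (fun k => fq0 (Nat.add 11102 k)) 793 = true := by decide +kernel
theorem q0u14 : ∀ i, i < 11895 → fq0 i = true := below_step fq0 11102 793 11895 q0u13 q0c14 rfl
theorem q0c15 : allBelow (fun k => fq0 (Nat.add 11895 k)) 793 = true := by decide +kernel
theorem q0u15 : ∀ i, i < 12688 → fq0 i = true := below_step fq0 11895 793 12688 q0u14 q0c15 rfl
theorem q0c16 : allBelow (fun k => fq0 (Nat.add 12688 k)) 793 = true := by decide +kernel
theorem q0u16 : ∀ i, i < 13481 → fq0 i = true := below_step fq0 12688 793 13481 q0u15 q0c16 rfl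
theorem q0c17 : allBelow (fun k => fq0 (Nat.add 13481 k)) 793 = true := by decide +kernel
theorem q0u17 : ∀ i, i < 14274 → fq0 i = true := below_step fq0 13481 793 14274 q0u16 q0c17 rfl
theorem q0c18 : allBelow (fun k => fq0 (Nat.add 14274 k)) 793 = true := by decide +kernel
theorem q0u18 : ∀ i, i < 15067 → fq0 i = true := below_step fq0 14274 793 15067 q0u17 q0c18 rfl
theorem q0c19 : allBelow (fun k => fq0 (Nat.add 15067 k)) 793 = true := by decide +kernel
theorem q0u19 : ∀ i, i < 15860 → fq0 i = true := below_step fq0 15067 793 15860 q0u18 q0c19 rfl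
theorem q0c20 : allBelow (fun k => fq0 (Nat.add 15860 k)) 793 = true := by decide +kernel
theorem q0u20 : ∀ i, i < 16653 → fq0 i = true := below_step fq0 15860 793 16653 q0u19 q0c20 rfl
theorem q0c21 : allBelow (fun k => fq0 (Nat.add 16653 k)) 793 = true := by decide +kernel
theorem q0u21 : ∀ i, i < 17446 → fq0 i = true := below_step fq0 16653 793 17446 q0u20 q0c21 rfl
theorem q0c22 : allBelow (fun k => fq0 (Nat.add 17446 k)) 793 = true := by decide +kernel
theorem q0u22 : ∀ i, i < 18239 → fq0 i = true := below_step fq0 17446 793 18239 q0u21 q0c22 rfl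
theorem q0c23 : allBelow (fun k => fq0 (Nat.add 18239 k)) 793 = true := by decide +kernel
theorem q0u23 : ∀ i, i < 19032 → fq0 i = true := below_step fq0 18239 793 19032 q0u22 q0c23 rfl
theorem q0c24 : allBelow (fun k => fq0 (Nat.add 19032 k)) 793 = true := by decide +kernel
theorem q0u24 : ∀ i, i < 19825 → fq0 i = true := below_step fq0 19032 793 19825 q0u23 q0c24 rfl
theorem q0c25 : allBelow (fun k => fq0 (Nat.add 19825 k)) 793 = true := by decide +kernel
theorem q0u25 : ∀ i, i < 20618 → fq0 i = true := below_step fq0 19825 793 20618 q0u24 q0c25 rfl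
theorem q0c26 : allBelow (fun k => fq0 (Nat.add 20618 k)) 793 = true := by decide +kernel
theorem q0u26 : ∀ i, i < 21411 → fq0 i = true := below_step fq0 20618 793 21411 q0u25 q0c26 rfl
theorem q0c27 : allBelow (fun k => fq0 (Nat.add 21411 k)) 793 = true := by decide +kernel
theorem q0u27 : ∀ i, i < 22204 → fq0 i = true := below_step fq0 21411 793 22204 q0u26 q0c27 rfl
theorem q0c28 : allBelow (fun k => fq0 (Nat.add 22204 k)) 793 = true := by decide +kernel
theorem q0u28 : ∀ i, i < 22997 → fq0 i = true := below_step fq0 22204 793 22997 q0u27 q0c28 rfl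
theorem q0c29 : allBelow (fun k => fq0 (Nat.add 22997 k)) 793 = true := by decide +kernel
theorem q0u29 : ∀ i, i < 23790 → fq0 i = true := below_step fq0 22997 793 23790 q0u28 q0c29 rfl
theorem q0c30 : allBelow (fun k => fq0 (Nat.add 23790 k)) 793 = true := by decide +kernel
theorem q0u30 : ∀ i, i < 24583 → fq0 i = true := below_step fq0 23790 793 24583 q0u29 q0c30 rfl
theorem q0c31 : allBelow (fun k => fq0 (Nat.add 24583 k)) 793 = true := by decide +kernel
theorem q0u31 : ∀ i, i < 25376 → fq0 i = true := below_step fq0 24583 793 25376 q0u30 q0c31 rfl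
theorem q0c32 : allBelow (fun k => fq0 (Nat.add 25376 k)) 793 = true := by decide +kernel
theorem q0u32 : ∀ i, i < 26169 → fq0 i = true := below_step fq0 25376 793 26169 q0u31 q0c32 rfl
theorem q0c33 : allBelow (fun k => fq0 (Nat.add 26169 k)) 793 = true := by decide +kernel
theorem q0u33 : ∀ i, i < 26962 → fq0 i = true := below_step fq0 26169 793 26962 q0u32 q0c33 rfl
theorem q0c34 : allBelow (fun k => fq0 (Nat.add 26962 k)) 793 = true := by decide +kernel
theorem q0u34 : ∀ i, i < 27755 → fq0 i = true := below_step fq0 26962 793 27755 q0u33 q0c34 rfl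
theorem q0c35 : allBelow (fun k => fq0 (Nat.add 27755 k)) 793 = true := by decide +kernel
theorem q0u35 : ∀ i, i < 28548 → fq0 i = true := below_step fq0 27755 793 28548 q0u34 q0c35 rfl
theorem q0c36 : allBelow (fun k => fq0 (Nat.add 28548 k)) 793 = true := by decide +kernel
theorem q0u36 : ∀ i, i < 29341 → fq0 i = true := below_step fq0 28548 793 29341 q0u35 q0c36 rfl
theorem q0c37 : allBelow (fun k => fq0 (Nat.add 29341 k)) 793 = true := by decide +kernel
theorem q0u37 : ∀ i, i < 30134 → fq0 i = true := below_step fq0 29341 793 30134 q0u36 q0c37 rfl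
theorem q0c38 : allBelow (fun k => fq0 (Nat.add 30134 k)) 793 = true := by decide +kernel
theorem q0u38 : ∀ i, i < 30927 → fq0 i = true := below_step fq0 30134 793 30927 q0u37 q0c38 rfl
theorem q0c39 : allBelow (fun k => fq0 (Nat.add 30927 k)) 744 = true := by decide +kernel
theorem q0u39 : ∀ i, i < 31671 → fq0 i = true := below_step fq0 30927 744 31671 q0u38 q0c39 rfl
theorem m0z : countBelow fm0 0 = 0 := rfl
theorem m0k0 : countBelow (fun k => fm0 (Nat.add 0 k)) 16671 = 16671 := by decide +kernel
theorem m0n0 : countBelow fm0 16671 = 16671 := countBelow_step fm0 0 16671 16671 0 16671 16671 m0z m0k0 rfl rfl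
theorem m0k1 : countBelow (fun k => fm0 (Nat.add 16671 k)) 15000 = 15000 := by decide +kernel
theorem m0n1 : countBelow fm0 31671 = 31671 := countBelow_step fm0 16671 15000 31671 16671 15000 31671 m0n0 m0k1 rfl rfl
theorem y0c0 : allBelow (fun k => fy0 (Nat.add 0 k)) 65 = true := by decide +kernel
theorem y0u0 : ∀ i, i < 65 → fy0 i = true := below_step fy0 0 65 65 (below_zero fy0) y0c0 rfl
theorem y0c1 : allBelow (fun k => fy0 (Nat.add 65 k)) 65 = true := by decide +kernel
theorem y0u1 : ∀ i, i < 130 → fy0 i = true := below_step fy0 65 65 130 y0u0 y0c1 rfl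
theorem y0c2 : allBelow (fun k => fy0 (Nat.add 130 k)) 65 = true := by decide +kernel
theorem y0u2 : ∀ i, i < 195 → fy0 i = true := below_step fy0 130 65 195 y0u1 y0c2 rfl
theorem y0c3 : allBelow (fun k => fy0 (Nat.add 195 k)) 65 = true := by decide +kernel
theorem y0u3 : ∀ i, i < 260 → fy0 i = true := below_step fy0 195 65 260 y0u2 y0c3 rfl
theorem y0c4 : allBelow (fun k => fy0 (Nat.add 260 k)) 65 = true := by decide +kernel
theorem y0u4 : ∀ i, i < 325 → fy0 i = true := below_step fy0 260 65 325 y0u3 y0c4 rfl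
theorem y0c5 : allBelow (fun k => fy0 (Nat.add 325 k)) 65 = true := by decide +kernel
theorem y0u5 : ∀ i, i < 390 → fy0 i = true := below_step fy0 325 65 390 y0u4 y0c5 rfl
theorem y0c6 : allBelow (fun k => fy0 (Nat.add 390 k)) 65 = true := by decide +kernel
theorem y0u6 : ∀ i, i < 455 → fy0 i = true := below_step fy0 390 65 455 y0u5 y0c6 rfl
theorem y0c7 : allBelow (fun k => fy0 (Nat.add 455 k)) 65 = true := by decide +kernel
theorem y0u7 : ∀ i, i < 520 → fy0 i = true := below_step fy0 455 65 520 y0u6 y0c7 rfl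
theorem y0c8 : allBelow (fun k => fy0 (Nat.add 520 k)) 65 = true := by decide +kernel
theorem y0u8 : ∀ i, i < 585 → fy0 i = true := below_step fy0 520 65 585 y0u7 y0c8 rfl
theorem y0c9 : allBelow (fun k => fy0 (Nat.add 585 k)) 65 = true := by decide +kernel
theorem y0u9 : ∀ i, i < 650 → fy0 i = true := below_step fy0 585 65 650 y0u8 y0c9 rfl
theorem y0c10 : allBelow (fun k => fy0 (Nat.add 650 k)) 65 = true := by decide +kernel
theorem y0u10 : ∀ i, i < 715 → fy0 i = true := below_step fy0 650 65 715 y0u9 y0c10 rfl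
theorem y0c11 : allBelow (fun k => fy0 (Nat.add 715 k)) 65 = true := by decide +kernel
theorem y0u11 : ∀ i, i < 780 → fy0 i = true := below_step fy0 715 65 780 y0u10 y0c11 rfl
theorem y0c12 : allBelow (fun k => fy0 (Nat.add 780 k)) 65 = true := by decide +kernel
theorem y0u12 : ∀ i, i < 845 → fy0 i = true := below_step fy0 780 65 845 y0u11 y0c12 rfl
theorem y0c13 : allBelow (fun k => fy0 (Nat.add 845 k)) 65 = true := by decide +kernel
theorem y0u13 : ∀ i, i < 910 → fy0 i = true := below_step fy0 845 65 910 y0u12 y0c13 rfl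
theorem y0c14 : allBelow (fun k => fy0 (Nat.add 910 k)) 65 = true := by decide +kernel
theorem y0u14 : ∀ i, i < 975 → fy0 i = true := below_step fy0 910 65 975 y0u13 y0c14 rfl
theorem y0c15 : allBelow (fun k => fy0 (Nat.add 975 k)) 65 = true := by decide +kernel
theorem y0u15 : ∀ i, i < 1040 → fy0 i = true := below_step fy0 975 65 1040 y0u14 y0c15 rfl
theorem y0c16 : allBelow (fun k => fy0 (Nat.add 1040 k)) 65 = true := by decide +kernel
theorem y0u16 : ∀ i, i < 1105 → fy0 i = true := below_step fy0 1040 65 1105 y0u15 y0c16 rfl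
theorem y0c17 : allBelow (fun k => fy0 (Nat.add 1105 k)) 65 = true := by decide +kernel
theorem y0u17 : ∀ i, i < 1170 → fy0 i = true := below_step fy0 1105 65 1170 y0u16 y0c17 rfl
theorem y0c18 : allBelow (fun k => fy0 (Nat.add 1170 k)) 65 = true := by decide +kernel
theorem y0u18 : ∀ i, i < 1235 → fy0 i = true := below_step fy0 1170 65 1235 y0u17 y0c18 rfl
theorem y0c19 : allBelow (fun k => fy0 (Nat.add 1235 k)) 65 = true := by decide +kernel
theorem y0u19 : ∀ i, i < 1300 → fy0 i = true := below_step fy0 1235 65 1300 y0u18 y0c19 rfl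
theorem y0c20 : allBelow (fun k => fy0 (Nat.add 1300 k)) 65 = true := by decide +kernel
theorem y0u20 : ∀ i, i < 1365 → fy0 i = true := below_step fy0 1300 65 1365 y0u19 y0c20 rfl
theorem y0c21 : allBelow (fun k => fy0 (Nat.add 1365 k)) 65 = true := by decide +kernel
theorem y0u21 : ∀ i, i < 1430 → fy0 i = true := below_step fy0 1365 65 1430 y0u20 y0c21 rfl
theorem y0c22 : allBelow (fun k => fy0 (Nat.add 1430 k)) 65 = true := by decide +kernel
theorem y0u22 : ∀ i, i < 1495 → fy0 i = true := below_step fy0 1430 65 1495 y0u21 y0c22 rfl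
theorem y0c23 : allBelow (fun k => fy0 (Nat.add 1495 k)) 65 = true := by decide +kernel
theorem y0u23 : ∀ i, i < 1560 → fy0 i = true := below_step fy0 1495 65 1560 y0u22 y0c23 rfl
theorem y0c24 : allBelow (fun k => fy0 (Nat.add 1560 k)) 65 = true := by decide +kernel
theorem y0u24 : ∀ i, i < 1625 → fy0 i = true := below_step fy0 1560 65 1625 y0u23 y0c24 rfl
theorem y0c25 : allBelow (fun k => fy0 (Nat.add 1625 k)) 65 = true := by decide +kernel
theorem y0u25 : ∀ i, i < 1690 → fy0 i = true := below_step fy0 1625 65 1690 y0u24 y0c25 rfl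
theorem y0c26 : allBelow (fun k => fy0 (Nat.add 1690 k)) 65 = true := by decide +kernel
theorem y0u26 : ∀ i, i < 1755 → fy0 i = true := below_step fy0 1690 65 1755 y0u25 y0c26 rfl
theorem y0c27 : allBelow (fun k => fy0 (Nat.add 1755 k)) 65 = true := by decide +kernel
theorem y0u27 : ∀ i, i < 1820 → fy0 i = true := below_step fy0 1755 65 1820 y0u26 y0c27 rfl
theorem y0c28 : allBelow (fun k => fy0 (Nat.add 1820 k)) 65 = true := by decide +kernel
theorem y0u28 : ∀ i, i < 1885 → fy0 i = true := below_step fy0 1820 65 1885 y0u27 y0c28 rfl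
theorem y0c29 : allBelow (fun k => fy0 (Nat.add 1885 k)) 65 = true := by decide +kernel
theorem y0u29 : ∀ i, i < 1950 → fy0 i = true := below_step fy0 1885 65 1950 y0u28 y0c29 rfl
theorem y0c30 : allBelow (fun k => fy0 (Nat.add 1950 k)) 65 = true := by decide +kernel
theorem y0u30 : ∀ i, i < 2015 → fy0 i = true := below_step fy0 1950 65 2015 y0u29 y0c30 rfl
theorem y0c31 : allBelow (fun k => fy0 (Nat.add 2015 k)) 65 = true := by decide +kernel
theorem y0u31 : ∀ i, i < 2080 → fy0 i = true := below_step fy0 2015 65 2080 y0u30 y0c31 rfl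
theorem y0c32 : allBelow (fun k => fy0 (Nat.add 2080 k)) 65 = true := by decide +kernel
theorem y0u32 : ∀ i, i < 2145 → fy0 i = true := below_step fy0 2080 65 2145 y0u31 y0c32 rfl
theorem y0c33 : allBelow (fun k => fy0 (Nat.add 2145 k)) 65 = true := by decide +kernel
theorem y0u33 : ∀ i, i < 2210 → fy0 i = true := below_step fy0 2145 65 2210 y0u32 y0c33 rfl
theorem y0c34 : allBelow (fun k => fy0 (Nat.add 2210 k)) 65 = true := by decide +kernel
theorem y0u34 : ∀ i, i < 2275 → fy0 i = true := below_step fy0 2210 65 2275 y0u33 y0c34 rfl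
theorem y0c35 : allBelow (fun k => fy0 (Nat.add 2275 k)) 65 = true := by decide +kernel
theorem y0u35 : ∀ i, i < 2340 → fy0 i = true := below_step fy0 2275 65 2340 y0u34 y0c35 rfl
theorem y0c36 : allBelow (fun k => fy0 (Nat.add 2340 k)) 65 = true := by decide +kernel
theorem y0u36 : ∀ i, i < 2405 → fy0 i = true := below_step fy0 2340 65 2405 y0u35 y0c36 rfl
theorem y0c37 : allBelow (fun k => fy0 (Nat.add 2405 k)) 65 = true := by decide +kernel
theorem y0u37 : ∀ i, i < 2470 → fy0 i = true := below_step fy0 2405 65 2470 y0u36 y0c37 rfl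
theorem y0c38 : allBelow (fun k => fy0 (Nat.add 2470 k)) 65 = true := by decide +kernel
theorem y0u38 : ∀ i, i < 2535 → fy0 i = true := below_step fy0 2470 65 2535 y0u37 y0c38 rfl
theorem y0c39 : allBelow (fun k => fy0 (Nat.add 2535 k)) 65 = true := by decide +kernel
theorem y0u39 : ∀ i, i < 2600 → fy0 i = true := below_step fy0 2535 65 2600 y0u38 y0c39 rfl
theorem y0c40 : allBelow (fun k => fy0 (Nat.add 2600 k)) 65 = true := by decide +kernel
theorem y0u40 : ∀ i, i < 2665 → fy0 i = true := below_step fy0 2600 65 2665 y0u39 y0c40 rfl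
theorem y0c41 : allBelow (fun k => fy0 (Nat.add 2665 k)) 65 = true := by decide +kernel
theorem y0u41 : ∀ i, i < 2730 → fy0 i = true := below_step fy0 2665 65 2730 y0u40 y0c41 rfl
theorem y0c42 : allBelow (fun k => fy0 (Nat.add 2730 k)) 65 = true := by decide +kernel
theorem y0u42 : ∀ i, i < 2795 → fy0 i = true := below_step fy0 2730 65 2795 y0u41 y0c42 rfl
theorem y0c43 : allBelow (fun k => fy0 (Nat.add 2795 k)) 65 = true := by decide +kernel
theorem y0u43 : ∀ i, i < 2860 → fy0 i = true := below_step fy0 2795 65 2860 y0u42 y0c43 rfl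
theorem y0c44 : allBelow (fun k => fy0 (Nat.add 2860 k)) 65 = true := by decide +kernel
theorem y0u44 : ∀ i, i < 2925 → fy0 i = true := below_step fy0 2860 65 2925 y0u43 y0c44 rfl
theorem y0c45 : allBelow (fun k => fy0 (Nat.add 2925 k)) 65 = true := by decide +kernel
theorem y0u45 : ∀ i, i < 2990 → fy0 i = true := below_step fy0 2925 65 2990 y0u44 y0c45 rfl
theorem y0c46 : allBelow (fun k => fy0 (Nat.add 2990 k)) 65 = true := by decide +kernel
theorem y0u46 : ∀ i, i < 3055 → fy0 i = true := below_step fy0 2990 65 3055 y0u45 y0c46 rfl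
theorem y0c47 : allBelow (fun k => fy0 (Nat.add 3055 k)) 65 = true := by decide +kernel
theorem y0u47 : ∀ i, i < 3120 → fy0 i = true := below_step fy0 3055 65 3120 y0u46 y0c47 rfl
theorem y0c48 : allBelow (fun k => fy0 (Nat.add 3120 k)) 65 = true := by decide +kernel
theorem y0u48 : ∀ i, i < 3185 → fy0 i = true := below_step fy0 3120 65 3185 y0u47 y0c48 rfl
theorem y0c49 : allBelow (fun k => fy0 (Nat.add 3185 k)) 65 = true := by decide +kernel
theorem y0u49 : ∀ i, i < 3250 → fy0 i = true := below_step fy0 3185 65 3250 y0u48 y0c49 rfl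
theorem y0c50 : allBelow (fun k => fy0 (Nat.add 3250 k)) 65 = true := by decide +kernel
theorem y0u50 : ∀ i, i < 3315 → fy0 i = true := below_step fy0 3250 65 3315 y0u49 y0c50 rfl
theorem y0c51 : allBelow (fun k => fy0 (Nat.add 3315 k)) 65 = true := by decide +kernel
theorem y0u51 : ∀ i, i < 3380 → fy0 i = true := below_step fy0 3315 65 3380 y0u50 y0c51 rfl
theorem y0c52 : allBelow (fun k => fy0 (Nat.add 3380 k)) 65 = true := by decide +kernel
theorem y0u52 : ∀ i, i < 3445 → fy0 i = true := below_step fy0 3380 65 3445 y0u51 y0c52 rfl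
theorem y0c53 : allBelow (fun k => fy0 (Nat.add 3445 k)) 65 = true := by decide +kernel
theorem y0u53 : ∀ i, i < 3510 → fy0 i = true := below_step fy0 3445 65 3510 y0u52 y0c53 rfl
theorem y0c54 : allBelow (fun k => fy0 (Nat.add 3510 k)) 65 = true := by decide +kernel
theorem y0u54 : ∀ i, i < 3575 → fy0 i = true := below_step fy0 3510 65 3575 y0u53 y0c54 rfl
theorem y0c55 : allBelow (fun k => fy0 (Nat.add 3575 k)) 65 = true := by decide +kernel
theorem y0u55 : ∀ i, i < 3640 → fy0 i = true := below_step fy0 3575 65 3640 y0u54 y0c55 rfl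
theorem y0c56 : allBelow (fun k => fy0 (Nat.add 3640 k)) 65 = true := by decide +kernel
theorem y0u56 : ∀ i, i < 3705 → fy0 i = true := below_step fy0 3640 65 3705 y0u55 y0c56 rfl
theorem y0c57 : allBelow (fun k => fy0 (Nat.add 3705 k)) 65 = true := by decide +kernel
theorem y0u57 : ∀ i, i < 3770 → fy0 i = true := below_step fy0 3705 65 3770 y0u56 y0c57 rfl
theorem y0c58 : allBelow (fun k => fy0 (Nat.add 3770 k)) 65 = true := by decide +kernel
theorem y0u58 : ∀ i, i < 3835 → fy0 i = true := below_step fy0 3770 65 3835 y0u57 y0c58 rfl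
theorem y0c59 : allBelow (fun k => fy0 (Nat.add 3835 k)) 65 = true := by decide +kernel
theorem y0u59 : ∀ i, i < 3900 → fy0 i = true := below_step fy0 3835 65 3900 y0u58 y0c59 rfl
theorem y0c60 : allBelow (fun k => fy0 (Nat.add 3900 k)) 65 = true := by decide +kernel
theorem y0u60 : ∀ i, i < 3965 → fy0 i = true := below_step fy0 3900 65 3965 y0u59 y0c60 rfl
theorem y0c61 : allBelow (fun k => fy0 (Nat.add 3965 k)) 65 = true := by decide +kernel
theorem y0u61 : ∀ i, i < 4030 → fy0 i = true := below_step fy0 3965 65 4030 y0u60 y0c61 rfl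
theorem y0c62 : allBelow (fun k => fy0 (Nat.add 4030 k)) 65 = true := by decide +kernel
theorem y0u62 : ∀ i, i < 4095 → fy0 i = true := below_step fy0 4030 65 4095 y0u61 y0c62 rfl
theorem y0c63 : allBelow (fun k => fy0 (Nat.add 4095 k)) 65 = true := by decide +kernel
theorem y0u63 : ∀ i, i < 4160 → fy0 i = true := below_step fy0 4095 65 4160 y0u62 y0c63 rfl
theorem y0c64 : allBelow (fun k => fy0 (Nat.add 4160 k)) 65 = true := by decide +kernel
theorem y0u64 : ∀ i, i < 4225 → fy0 i = true := below_step fy0 4160 65 4225 y0u63 y0c64 rfl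
theorem y0c65 : allBelow (fun k => fy0 (Nat.add 4225 k)) 65 = true := by decide +kernel
theorem y0u65 : ∀ i, i < 4290 → fy0 i = true := below_step fy0 4225 65 4290 y0u64 y0c65 rfl
theorem y0c66 : allBelow (fun k => fy0 (Nat.add 4290 k)) 65 = true := by decide +kernel
theorem y0u66 : ∀ i, i < 4355 → fy0 i = true := below_step fy0 4290 65 4355 y0u65 y0c66 rfl
theorem y0c67 : allBelow (fun k => fy0 (Nat.add 4355 k)) 65 = true := by decide +kernel
theorem y0u67 : ∀ i, i < 4420 → fy0 i = true := below_step fy0 4355 65 4420 y0u66 y0c67 rfl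
theorem y0c68 : allBelow (fun k => fy0 (Nat.add 4420 k)) 65 = true := by decide +kernel
theorem y0u68 : ∀ i, i < 4485 → fy0 i = true := below_step fy0 4420 65 4485 y0u67 y0c68 rfl
theorem y0c69 : allBelow (fun k => fy0 (Nat.add 4485 k)) 65 = true := by decide +kernel
theorem y0u69 : ∀ i, i < 4550 → fy0 i = true := below_step fy0 4485 65 4550 y0u68 y0c69 rfl
theorem y0c70 : allBelow (fun k => fy0 (Nat.add 4550 k)) 65 = true := by decide +kernel
theorem y0u70 : ∀ i, i < 4615 → fy0 i = true := below_step fy0 4550 65 4615 y0u69 y0c70 rfl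
theorem y0c71 : allBelow (fun k => fy0 (Nat.add 4615 k)) 65 = true := by decide +kernel
theorem y0u71 : ∀ i, i < 4680 → fy0 i = true := below_step fy0 4615 65 4680 y0u70 y0c71 rfl
theorem y0c72 : allBelow (fun k => fy0 (Nat.add 4680 k)) 65 = true := by decide +kernel
theorem y0u72 : ∀ i, i < 4745 → fy0 i = true := below_step fy0 4680 65 4745 y0u71 y0c72 rfl
theorem y0c73 : allBelow (fun k => fy0 (Nat.add 4745 k)) 65 = true := by decide +kernel
theorem y0u73 : ∀ i, i < 4810 → fy0 i = true := below_step fy0 4745 65 4810 y0u72 y0c73 rfl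
theorem y0c74 : allBelow (fun k => fy0 (Nat.add 4810 k)) 65 = true := by decide +kernel
theorem y0u74 : ∀ i, i < 4875 → fy0 i = true := below_step fy0 4810 65 4875 y0u73 y0c74 rfl
theorem y0c75 : allBelow (fun k => fy0 (Nat.add 4875 k)) 65 = true := by decide +kernel
theorem y0u75 : ∀ i, i < 4940 → fy0 i = true := below_step fy0 4875 65 4940 y0u74 y0c75 rfl
theorem y0c76 : allBelow (fun k => fy0 (Nat.add 4940 k)) 65 = true := by decide +kernel
theorem y0u76 : ∀ i, i < 5005 → fy0 i = true := below_step fy0 4940 65 5005 y0u75 y0c76 rfl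
theorem y0c77 : allBelow (fun k => fy0 (Nat.add 5005 k)) 65 = true := by decide +kernel
theorem y0u77 : ∀ i, i < 5070 → fy0 i = true := below_step fy0 5005 65 5070 y0u76 y0c77 rfl
theorem y0c78 : allBelow (fun k => fy0 (Nat.add 5070 k)) 65 = true := by decide +kernel
theorem y0u78 : ∀ i, i < 5135 → fy0 i = true := below_step fy0 5070 65 5135 y0u77 y0c78 rfl
theorem y0c79 : allBelow (fun k => fy0 (Nat.add 5135 k)) 65 = true := by decide +kernel
theorem y0u79 : ∀ i, i < 5200 → fy0 i = true := below_step fy0 5135 65 5200 y0u78 y0c79 rfl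
theorem y0c80 : allBelow (fun k => fy0 (Nat.add 5200 k)) 65 = true := by decide +kernel
theorem y0u80 : ∀ i, i < 5265 → fy0 i = true := below_step fy0 5200 65 5265 y0u79 y0c80 rfl
theorem y0c81 : allBelow (fun k => fy0 (Nat.add 5265 k)) 65 = true := by decide +kernel
theorem y0u81 : ∀ i, i < 5330 → fy0 i = true := below_step fy0 5265 65 5330 y0u80 y0c81 rfl
theorem y0c82 : allBelow (fun k => fy0 (Nat.add 5330 k)) 65 = true := by decide +kernel
theorem y0u82 : ∀ i, i < 5395 → fy0 i = true := below_step fy0 5330 65 5395 y0u81 y0c82 rfl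
theorem y0c83 : allBelow (fun k => fy0 (Nat.add 5395 k)) 65 = true := by decide +kernel
theorem y0u83 : ∀ i, i < 5460 → fy0 i = true := below_step fy0 5395 65 5460 y0u82 y0c83 rfl
theorem y0c84 : allBelow (fun k => fy0 (Nat.add 5460 k)) 65 = true := by decide +kernel
theorem y0u84 : ∀ i, i < 5525 → fy0 i = true := below_step fy0 5460 65 5525 y0u83 y0c84 rfl
theorem y0c85 : allBelow (fun k => fy0 (Nat.add 5525 k)) 65 = true := by decide +kernel
theorem y0u85 : ∀ i, i < 5590 → fy0 i = true := below_step fy0 5525 65 5590 y0u84 y0c85 rfl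
theorem y0c86 : allBelow (fun k => fy0 (Nat.add 5590 k)) 65 = true := by decide +kernel
theorem y0u86 : ∀ i, i < 5655 → fy0 i = true := below_step fy0 5590 65 5655 y0u85 y0c86 rfl
theorem y0c87 : allBelow (fun k => fy0 (Nat.add 5655 k)) 65 = true := by decide +kernel
theorem y0u87 : ∀ i, i < 5720 → fy0 i = true := below_step fy0 5655 65 5720 y0u86 y0c87 rfl
theorem y0c88 : allBelow (fun k => fy0 (Nat.add 5720 k)) 65 = true := by decide +kernel
theorem y0u88 : ∀ i, i < 5785 → fy0 i = true := below_step fy0 5720 65 5785 y0u87 y0c88 rfl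
theorem y0c89 : allBelow (fun k => fy0 (Nat.add 5785 k)) 65 = true := by decide +kernel
theorem y0u89 : ∀ i, i < 5850 → fy0 i = true := below_step fy0 5785 65 5850 y0u88 y0c89 rfl
theorem y0c90 : allBelow (fun k => fy0 (Nat.add 5850 k)) 65 = true := by decide +kernel
theorem y0u90 : ∀ i, i < 5915 → fy0 i = true := below_step fy0 5850 65 5915 y0u89 y0c90 rfl
theorem y0c91 : allBelow (fun k => fy0 (Nat.add 5915 k)) 65 = true := by decide +kernel
theorem y0u91 : ∀ i, i < 5980 → fy0 i = true := below_step fy0 5915 65 5980 y0u90 y0c91 rfl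
theorem y0c92 : allBelow (fun k => fy0 (Nat.add 5980 k)) 65 = true := by decide +kernel
theorem y0u92 : ∀ i, i < 6045 → fy0 i = true := below_step fy0 5980 65 6045 y0u91 y0c92 rfl
theorem y0c93 : allBelow (fun k => fy0 (Nat.add 6045 k)) 65 = true := by decide +kernel
theorem y0u93 : ∀ i, i < 6110 → fy0 i = true := below_step fy0 6045 65 6110 y0u92 y0c93 rfl
theorem y0c94 : allBelow (fun k => fy0 (Nat.add 6110 k)) 65 = true := by decide +kernel
theorem y0u94 : ∀ i, i < 6175 → fy0 i = true := below_step fy0 6110 65 6175 y0u93 y0c94 rfl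
theorem y0c95 : allBelow (fun k => fy0 (Nat.add 6175 k)) 65 = true := by decide +kernel
theorem y0u95 : ∀ i, i < 6240 → fy0 i = true := below_step fy0 6175 65 6240 y0u94 y0c95 rfl
theorem y0c96 : allBelow (fun k => fy0 (Nat.add 6240 k)) 65 = true := by decide +kernel
theorem y0u96 : ∀ i, i < 6305 → fy0 i = true := below_step fy0 6240 65 6305 y0u95 y0c96 rfl
theorem y0c97 : allBelow (fun k => fy0 (Nat.add 6305 k)) 65 = true := by decide +kernel
theorem y0u97 : ∀ i, i < 6370 → fy0 i = true := below_step fy0 6305 65 6370 y0u96 y0c97 rfl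
theorem y0c98 : allBelow (fun k => fy0 (Nat.add 6370 k)) 65 = true := by decide +kernel
theorem y0u98 : ∀ i, i < 6435 → fy0 i = true := below_step fy0 6370 65 6435 y0u97 y0c98 rfl
theorem y0c99 : allBelow (fun k => fy0 (Nat.add 6435 k)) 65 = true := by decide +kernel
theorem y0u99 : ∀ i, i < 6500 → fy0 i = true := below_step fy0 6435 65 6500 y0u98 y0c99 rfl
theorem y0c100 : allBelow (fun k => fy0 (Nat.add 6500 k)) 65 = true := by decide +kernel
theorem y0u100 : ∀ i, i < 6565 → fy0 i = true := below_step fy0 6500 65 6565 y0u99 y0c100 rfl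
theorem y0c101 : allBelow (fun k => fy0 (Nat.add 6565 k)) 65 = true := by decide +kernel
theorem y0u101 : ∀ i, i < 6630 → fy0 i = true := below_step fy0 6565 65 6630 y0u100 y0c101 rfl
theorem y0c102 : allBelow (fun k => fy0 (Nat.add 6630 k)) 65 = true := by decide +kernel
theorem y0u102 : ∀ i, i < 6695 → fy0 i = true := below_step fy0 6630 65 6695 y0u101 y0c102 rfl
theorem y0c103 : allBelow (fun k => fy0 (Nat.add 6695 k)) 65 = true := by decide +kernel
theorem y0u103 : ∀ i, i < 6760 → fy0 i = true := below_step fy0 6695 65 6760 y0u102 y0c103 rfl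
theorem y0c104 : allBelow (fun k => fy0 (Nat.add 6760 k)) 65 = true := by decide +kernel
theorem y0u104 : ∀ i, i < 6825 → fy0 i = true := below_step fy0 6760 65 6825 y0u103 y0c104 rfl
theorem y0c105 : allBelow (fun k => fy0 (Nat.add 6825 k)) 65 = true := by decide +kernel
theorem y0u105 : ∀ i, i < 6890 → fy0 i = true := below_step fy0 6825 65 6890 y0u104 y0c105 rfl
theorem y0c106 : allBelow (fun k => fy0 (Nat.add 6890 k)) 65 = true := by decide +kernel
theorem y0u106 : ∀ i, i < 6955 → fy0 i = true := below_step fy0 6890 65 6955 y0u105 y0c106 rfl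
theorem y0c107 : allBelow (fun k => fy0 (Nat.add 6955 k)) 65 = true := by decide +kernel
theorem y0u107 : ∀ i, i < 7020 → fy0 i = true := below_step fy0 6955 65 7020 y0u106 y0c107 rfl
theorem y0c108 : allBelow (fun k => fy0 (Nat.add 7020 k)) 65 = true := by decide +kernel
theorem y0u108 : ∀ i, i < 7085 → fy0 i = true := below_step fy0 7020 65 7085 y0u107 y0c108 rfl
theorem y0c109 : allBelow (fun k => fy0 (Nat.add 7085 k)) 65 = true := by decide +kernel
theorem y0u109 : ∀ i, i < 7150 → fy0 i = true := below_step fy0 7085 65 7150 y0u108 y0c109 rfl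
theorem y0c110 : allBelow (fun k => fy0 (Nat.add 7150 k)) 65 = true := by decide +kernel
theorem y0u110 : ∀ i, i < 7215 → fy0 i = true := below_step fy0 7150 65 7215 y0u109 y0c110 rfl
theorem y0c111 : allBelow (fun k => fy0 (Nat.add 7215 k)) 65 = true := by decide +kernel
theorem y0u111 : ∀ i, i < 7280 → fy0 i = true := below_step fy0 7215 65 7280 y0u110 y0c111 rfl
theorem y0c112 : allBelow (fun k => fy0 (Nat.add 7280 k)) 65 = true := by decide +kernel
theorem y0u112 : ∀ i, i < 7345 → fy0 i = true := below_step fy0 7280 65 7345 y0u111 y0c112 rfl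
theorem y0c113 : allBelow (fun k => fy0 (Nat.add 7345 k)) 65 = true := by decide +kernel
theorem y0u113 : ∀ i, i < 7410 → fy0 i = true := below_step fy0 7345 65 7410 y0u112 y0c113 rfl
theorem y0c114 : allBelow (fun k => fy0 (Nat.add 7410 k)) 65 = true := by decide +kernel
theorem y0u114 : ∀ i, i < 7475 → fy0 i = true := below_step fy0 7410 65 7475 y0u113 y0c114 rfl
theorem y0c115 : allBelow (fun k => fy0 (Nat.add 7475 k)) 65 = true := by decide +kernel
theorem y0u115 : ∀ i, i < 7540 → fy0 i = true := below_step fy0 7475 65 7540 y0u114 y0c115 rfl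
theorem y0c116 : allBelow (fun k => fy0 (Nat.add 7540 k)) 65 = true := by decide +kernel
theorem y0u116 : ∀ i, i < 7605 → fy0 i = true := below_step fy0 7540 65 7605 y0u115 y0c116 rfl
theorem y0c117 : allBelow (fun k => fy0 (Nat.add 7605 k)) 65 = true := by decide +kernel
theorem y0u117 : ∀ i, i < 7670 → fy0 i = true := below_step fy0 7605 65 7670 y0u116 y0c117 rfl
theorem y0c118 : allBelow (fun k => fy0 (Nat.add 7670 k)) 65 = true := by decide +kernel
theorem y0u118 : ∀ i, i < 7735 → fy0 i = true := below_step fy0 7670 65 7735 y0u117 y0c118 rfl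
theorem y0c119 : allBelow (fun k => fy0 (Nat.add 7735 k)) 65 = true := by decide +kernel
theorem y0u119 : ∀ i, i < 7800 → fy0 i = true := below_step fy0 7735 65 7800 y0u118 y0c119 rfl
theorem y0c120 : allBelow (fun k => fy0 (Nat.add 7800 k)) 65 = true := by decide +kernel
theorem y0u120 : ∀ i, i < 7865 → fy0 i = true := below_step fy0 7800 65 7865 y0u119 y0c120 rfl
theorem y0c121 : allBelow (fun k => fy0 (Nat.add 7865 k)) 65 = true := by decide +kernel
theorem y0u121 : ∀ i, i < 7930 → fy0 i = true := below_step fy0 7865 65 7930 y0u120 y0c121 rfl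
theorem y0c122 : allBelow (fun k => fy0 (Nat.add 7930 k)) 65 = true := by decide +kernel
theorem y0u122 : ∀ i, i < 7995 → fy0 i = true := below_step fy0 7930 65 7995 y0u121 y0c122 rfl
theorem y0c123 : allBelow (fun k => fy0 (Nat.add 7995 k)) 65 = true := by decide +kernel
theorem y0u123 : ∀ i, i < 8060 → fy0 i = true := below_step fy0 7995 65 8060 y0u122 y0c123 rfl
theorem y0c124 : allBelow (fun k => fy0 (Nat.add 8060 k)) 65 = true := by decide +kernel
theorem y0u124 : ∀ i, i < 8125 → fy0 i = true := below_step fy0 8060 65 8125 y0u123 y0c124 rfl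
theorem y0c125 : allBelow (fun k => fy0 (Nat.add 8125 k)) 65 = true := by decide +kernel
theorem y0u125 : ∀ i, i < 8190 → fy0 i = true := below_step fy0 8125 65 8190 y0u124 y0c125 rfl
theorem y0c126 : allBelow (fun k => fy0 (Nat.add 8190 k)) 65 = true := by decide +kernel
theorem y0u126 : ∀ i, i < 8255 → fy0 i = true := below_step fy0 8190 65 8255 y0u125 y0c126 rfl
theorem y0c127 : allBelow (fun k => fy0 (Nat.add 8255 k)) 65 = true := by decide +kernel
theorem y0u127 : ∀ i, i < 8320 → fy0 i = true := below_step fy0 8255 65 8320 y0u126 y0c127 rfl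
theorem y0c128 : allBelow (fun k => fy0 (Nat.add 8320 k)) 65 = true := by decide +kernel
theorem y0u128 : ∀ i, i < 8385 → fy0 i = true := below_step fy0 8320 65 8385 y0u127 y0c128 rfl
theorem y0c129 : allBelow (fun k => fy0 (Nat.add 8385 k)) 65 = true := by decide +kernel
theorem y0u129 : ∀ i, i < 8450 → fy0 i = true := below_step fy0 8385 65 8450 y0u128 y0c129 rfl
theorem y0c130 : allBelow (fun k => fy0 (Nat.add 8450 k)) 65 = true := by decide +kernel
theorem y0u130 : ∀ i, i < 8515 → fy0 i = true := below_step fy0 8450 65 8515 y0u129 y0c130 rfl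
theorem y0c131 : allBelow (fun k => fy0 (Nat.add 8515 k)) 65 = true := by decide +kernel
theorem y0u131 : ∀ i, i < 8580 → fy0 i = true := below_step fy0 8515 65 8580 y0u130 y0c131 rfl
theorem y0c132 : allBelow (fun k => fy0 (Nat.add 8580 k)) 65 = true := by decide +kernel
theorem y0u132 : ∀ i, i < 8645 → fy0 i = true := below_step fy0 8580 65 8645 y0u131 y0c132 rfl
theorem y0c133 : allBelow (fun k => fy0 (Nat.add 8645 k)) 65 = true := by decide +kernel
theorem y0u133 : ∀ i, i < 8710 → fy0 i = true := below_step fy0 8645 65 8710 y0u132 y0c133 rfl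
theorem y0c134 : allBelow (fun k => fy0 (Nat.add 8710 k)) 65 = true := by decide +kernel
theorem y0u134 : ∀ i, i < 8775 → fy0 i = true := below_step fy0 8710 65 8775 y0u133 y0c134 rfl
theorem y0c135 : allBelow (fun k => fy0 (Nat.add 8775 k)) 65 = true := by decide +kernel
theorem y0u135 : ∀ i, i < 8840 → fy0 i = true := below_step fy0 8775 65 8840 y0u134 y0c135 rfl
theorem y0c136 : allBelow (fun k => fy0 (Nat.add 8840 k)) 65 = true := by decide +kernel
theorem y0u136 : ∀ i, i < 8905 → fy0 i = true := below_step fy0 8840 65 8905 y0u135 y0c136 rfl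
theorem y0c137 : allBelow (fun k => fy0 (Nat.add 8905 k)) 65 = true := by decide +kernel
theorem y0u137 : ∀ i, i < 8970 → fy0 i = true := below_step fy0 8905 65 8970 y0u136 y0c137 rfl
theorem y0c138 : allBelow (fun k => fy0 (Nat.add 8970 k)) 65 = true := by decide +kernel
theorem y0u138 : ∀ i, i < 9035 → fy0 i = true := below_step fy0 8970 65 9035 y0u137 y0c138 rfl
theorem y0c139 : allBelow (fun k => fy0 (Nat.add 9035 k)) 65 = true := by decide +kernel
theorem y0u139 : ∀ i, i < 9100 → fy0 i = true := below_step fy0 9035 65 9100 y0u138 y0c139 rfl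
theorem y0c140 : allBelow (fun k => fy0 (Nat.add 9100 k)) 65 = true := by decide +kernel
theorem y0u140 : ∀ i, i < 9165 → fy0 i = true := below_step fy0 9100 65 9165 y0u139 y0c140 rfl
theorem y0c141 : allBelow (fun k => fy0 (Nat.add 9165 k)) 65 = true := by decide +kernel
theorem y0u141 : ∀ i, i < 9230 → fy0 i = true := below_step fy0 9165 65 9230 y0u140 y0c141 rfl
theorem y0c142 : allBelow (fun k => fy0 (Nat.add 9230 k)) 65 = true := by decide +kernel
theorem y0u142 : ∀ i, i < 9295 → fy0 i = true := below_step fy0 9230 65 9295 y0u141 y0c142 rfl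
theorem y0c143 : allBelow (fun k => fy0 (Nat.add 9295 k)) 65 = true := by decide +kernel
theorem y0u143 : ∀ i, i < 9360 → fy0 i = true := below_step fy0 9295 65 9360 y0u142 y0c143 rfl
theorem y0c144 : allBelow (fun k => fy0 (Nat.add 9360 k)) 65 = true := by decide +kernel
theorem y0u144 : ∀ i, i < 9425 → fy0 i = true := below_step fy0 9360 65 9425 y0u143 y0c144 rfl
theorem y0c145 : allBelow (fun k => fy0 (Nat.add 9425 k)) 65 = true := by decide +kernel
theorem y0u145 : ∀ i, i < 9490 → fy0 i = true := below_step fy0 9425 65 9490 y0u144 y0c145 rfl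
theorem y0c146 : allBelow (fun k => fy0 (Nat.add 9490 k)) 65 = true := by decide +kernel
theorem y0u146 : ∀ i, i < 9555 → fy0 i = true := below_step fy0 9490 65 9555 y0u145 y0c146 rfl
theorem y0c147 : allBelow (fun k => fy0 (Nat.add 9555 k)) 65 = true := by decide +kernel
theorem y0u147 : ∀ i, i < 9620 → fy0 i = true := below_step fy0 9555 65 9620 y0u146 y0c147 rfl
theorem y0c148 : allBelow (fun k => fy0 (Nat.add 9620 k)) 65 = true := by decide +kernel
theorem y0u148 : ∀ i, i < 9685 → fy0 i = true := below_step fy0 9620 65 9685 y0u147 y0c148 rfl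
theorem y0c149 : allBelow (fun k => fy0 (Nat.add 9685 k)) 65 = true := by decide +kernel
theorem y0u149 : ∀ i, i < 9750 → fy0 i = true := below_step fy0 9685 65 9750 y0u148 y0c149 rfl
theorem y0c150 : allBelow (fun k => fy0 (Nat.add 9750 k)) 65 = true := by decide +kernel
theorem y0u150 : ∀ i, i < 9815 → fy0 i = true := below_step fy0 9750 65 9815 y0u149 y0c150 rfl
theorem y0c151 : allBelow (fun k => fy0 (Nat.add 9815 k)) 65 = true := by decide +kernel
theorem y0u151 : ∀ i, i < 9880 → fy0 i = true := below_step fy0 9815 65 9880 y0u150 y0c151 rfl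
theorem y0c152 : allBelow (fun k => fy0 (Nat.add 9880 k)) 65 = true := by decide +kernel
theorem y0u152 : ∀ i, i < 9945 → fy0 i = true := below_step fy0 9880 65 9945 y0u151 y0c152 rfl
theorem y0c153 : allBelow (fun k => fy0 (Nat.add 9945 k)) 65 = true := by decide +kernel
theorem y0u153 : ∀ i, i < 10010 → fy0 i = true := below_step fy0 9945 65 10010 y0u152 y0c153 rfl
theorem y0c154 : allBelow (fun k => fy0 (Nat.add 10010 k)) 65 = true := by decide +kernel
theorem y0u154 : ∀ i, i < 10075 → fy0 i = true := below_step fy0 10010 65 10075 y0u153 y0c154 rfl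
theorem y0c155 : allBelow (fun k => fy0 (Nat.add 10075 k)) 65 = true := by decide +kernel
theorem y0u155 : ∀ i, i < 10140 → fy0 i = true := below_step fy0 10075 65 10140 y0u154 y0c155 rfl
theorem y0c156 : allBelow (fun k => fy0 (Nat.add 10140 k)) 65 = true := by decide +kernel
theorem y0u156 : ∀ i, i < 10205 → fy0 i = true := below_step fy0 10140 65 10205 y0u155 y0c156 rfl
theorem y0c157 : allBelow (fun k => fy0 (Nat.add 10205 k)) 65 = true := by decide +kernel
theorem y0u157 : ∀ i, i < 10270 → fy0 i = true := below_step fy0 10205 65 10270 y0u156 y0c157 rfl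
theorem y0c158 : allBelow (fun k => fy0 (Nat.add 10270 k)) 65 = true := by decide +kernel
theorem y0u158 : ∀ i, i < 10335 → fy0 i = true := below_step fy0 10270 65 10335 y0u157 y0c158 rfl
theorem y0c159 : allBelow (fun k => fy0 (Nat.add 10335 k)) 65 = true := by decide +kernel
theorem y0u159 : ∀ i, i < 10400 → fy0 i = true := below_step fy0 10335 65 10400 y0u158 y0c159 rfl
theorem y0c160 : allBelow (fun k => fy0 (Nat.add 10400 k)) 65 = true := by decide +kernel
theorem y0u160 : ∀ i, i < 10465 → fy0 i = true := below_step fy0 10400 65 10465 y0u159 y0c160 rfl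
theorem y0c161 : allBelow (fun k => fy0 (Nat.add 10465 k)) 65 = true := by decide +kernel
theorem y0u161 : ∀ i, i < 10530 → fy0 i = true := below_step fy0 10465 65 10530 y0u160 y0c161 rfl
theorem y0c162 : allBelow (fun k => fy0 (Nat.add 10530 k)) 65 = true := by decide +kernel
theorem y0u162 : ∀ i, i < 10595 → fy0 i = true := below_step fy0 10530 65 10595 y0u161 y0c162 rfl
theorem y0c163 : allBelow (fun k => fy0 (Nat.add 10595 k)) 65 = true := by decide +kernel
theorem y0u163 : ∀ i, i < 10660 → fy0 i = true := below_step fy0 10595 65 10660 y0u162 y0c163 rfl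
theorem y0c164 : allBelow (fun k => fy0 (Nat.add 10660 k)) 65 = true := by decide +kernel
theorem y0u164 : ∀ i, i < 10725 → fy0 i = true := below_step fy0 10660 65 10725 y0u163 y0c164 rfl
theorem y0c165 : allBelow (fun k => fy0 (Nat.add 10725 k)) 65 = true := by decide +kernel
theorem y0u165 : ∀ i, i < 10790 → fy0 i = true := below_step fy0 10725 65 10790 y0u164 y0c165 rfl
theorem y0c166 : allBelow (fun k => fy0 (Nat.add 10790 k)) 65 = true := by decide +kernel
theorem y0u166 : ∀ i, i < 10855 → fy0 i = true := below_step fy0 10790 65 10855 y0u165 y0c166 rfl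
theorem y0c167 : allBelow (fun k => fy0 (Nat.add 10855 k)) 65 = true := by decide +kernel
theorem y0u167 : ∀ i, i < 10920 → fy0 i = true := below_step fy0 10855 65 10920 y0u166 y0c167 rfl
theorem y0c168 : allBelow (fun k => fy0 (Nat.add 10920 k)) 65 = true := by decide +kernel
theorem y0u168 : ∀ i, i < 10985 → fy0 i = true := below_step fy0 10920 65 10985 y0u167 y0c168 rfl
theorem y0c169 : allBelow (fun k => fy0 (Nat.add 10985 k)) 65 = true := by decide +kernel
theorem y0u169 : ∀ i, i < 11050 → fy0 i = true := below_step fy0 10985 65 11050 y0u168 y0c169 rfl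
theorem y0c170 : allBelow (fun k => fy0 (Nat.add 11050 k)) 65 = true := by decide +kernel
theorem y0u170 : ∀ i, i < 11115 → fy0 i = true := below_step fy0 11050 65 11115 y0u169 y0c170 rfl
theorem y0c171 : allBelow (fun k => fy0 (Nat.add 11115 k)) 65 = true := by decide +kernel
theorem y0u171 : ∀ i, i < 11180 → fy0 i = true := below_step fy0 11115 65 11180 y0u170 y0c171 rfl
theorem y0c172 : allBelow (fun k => fy0 (Nat.add 11180 k)) 65 = true := by decide +kernel
theorem y0u172 : ∀ i, i < 11245 → fy0 i = true := below_step fy0 11180 65 11245 y0u171 y0c172 rfl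
theorem y0c173 : allBelow (fun k => fy0 (Nat.add 11245 k)) 65 = true := by decide +kernel
theorem y0u173 : ∀ i, i < 11310 → fy0 i = true := below_step fy0 11245 65 11310 y0u172 y0c173 rfl
theorem y0c174 : allBelow (fun k => fy0 (Nat.add 11310 k)) 65 = true := by decide +kernel
theorem y0u174 : ∀ i, i < 11375 → fy0 i = true := below_step fy0 11310 65 11375 y0u173 y0c174 rfl
theorem y0c175 : allBelow (fun k => fy0 (Nat.add 11375 k)) 65 = true := by decide +kernel
theorem y0u175 : ∀ i, i < 11440 → fy0 i = true := below_step fy0 11375 65 11440 y0u174 y0c175 rfl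
theorem y0c176 : allBelow (fun k => fy0 (Nat.add 11440 k)) 65 = true := by decide +kernel
theorem y0u176 : ∀ i, i < 11505 → fy0 i = true := below_step fy0 11440 65 11505 y0u175 y0c176 rfl
theorem y0c177 : allBelow (fun k => fy0 (Nat.add 11505 k)) 65 = true := by decide +kernel
theorem y0u177 : ∀ i, i < 11570 → fy0 i = true := below_step fy0 11505 65 11570 y0u176 y0c177 rfl
theorem y0c178 : allBelow (fun k => fy0 (Nat.add 11570 k)) 65 = true := by decide +kernel
theorem y0u178 : ∀ i, i < 11635 → fy0 i = true := below_step fy0 11570 65 11635 y0u177 y0c178 rfl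
theorem y0c179 : allBelow (fun k => fy0 (Nat.add 11635 k)) 65 = true := by decide +kernel
theorem y0u179 : ∀ i, i < 11700 → fy0 i = true := below_step fy0 11635 65 11700 y0u178 y0c179 rfl
theorem y0c180 : allBelow (fun k => fy0 (Nat.add 11700 k)) 65 = true := by decide +kernel
theorem y0u180 : ∀ i, i < 11765 → fy0 i = true := below_step fy0 11700 65 11765 y0u179 y0c180 rfl
theorem y0c181 : allBelow (fun k => fy0 (Nat.add 11765 k)) 65 = true := by decide +kernel
theorem y0u181 : ∀ i, i < 11830 → fy0 i = true := below_step fy0 11765 65 11830 y0u180 y0c181 rfl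
theorem y0c182 : allBelow (fun k => fy0 (Nat.add 11830 k)) 65 = true := by decide +kernel
theorem y0u182 : ∀ i, i < 11895 → fy0 i = true := below_step fy0 11830 65 11895 y0u181 y0c182 rfl
theorem y0c183 : allBelow (fun k => fy0 (Nat.add 11895 k)) 65 = true := by decide +kernel
theorem y0u183 : ∀ i, i < 11960 → fy0 i = true := below_step fy0 11895 65 11960 y0u182 y0c183 rfl
theorem y0c184 : allBelow (fun k => fy0 (Nat.add 11960 k)) 65 = true := by decide +kernel
theorem y0u184 : ∀ i, i < 12025 → fy0 i = true := below_step fy0 11960 65 12025 y0u183 y0c184 rfl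
theorem y0c185 : allBelow (fun k => fy0 (Nat.add 12025 k)) 65 = true := by decide +kernel
theorem y0u185 : ∀ i, i < 12090 → fy0 i = true := below_step fy0 12025 65 12090 y0u184 y0c185 rfl
theorem y0c186 : allBelow (fun k => fy0 (Nat.add 12090 k)) 65 = true := by decide +kernel
theorem y0u186 : ∀ i, i < 12155 → fy0 i = true := below_step fy0 12090 65 12155 y0u185 y0c186 rfl
theorem y0c187 : allBelow (fun k => fy0 (Nat.add 12155 k)) 65 = true := by decide +kernel
theorem y0u187 : ∀ i, i < 12220 → fy0 i = true := below_step fy0 12155 65 12220 y0u186 y0c187 rfl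
theorem y0c188 : allBelow (fun k => fy0 (Nat.add 12220 k)) 65 = true := by decide +kernel
theorem y0u188 : ∀ i, i < 12285 → fy0 i = true := below_step fy0 12220 65 12285 y0u187 y0c188 rfl
theorem y0c189 : allBelow (fun k => fy0 (Nat.add 12285 k)) 65 = true := by decide +kernel
theorem y0u189 : ∀ i, i < 12350 → fy0 i = true := below_step fy0 12285 65 12350 y0u188 y0c189 rfl
theorem y0c190 : allBelow (fun k => fy0 (Nat.add 12350 k)) 65 = true := by decide +kernel
theorem y0u190 : ∀ i, i < 12415 → fy0 i = true := below_step fy0 12350 65 12415 y0u189 y0c190 rfl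
theorem y0c191 : allBelow (fun k => fy0 (Nat.add 12415 k)) 65 = true := by decide +kernel
theorem y0u191 : ∀ i, i < 12480 → fy0 i = true := below_step fy0 12415 65 12480 y0u190 y0c191 rfl
theorem y0c192 : allBelow (fun k => fy0 (Nat.add 12480 k)) 65 = true := by decide +kernel
theorem y0u192 : ∀ i, i < 12545 → fy0 i = true := below_step fy0 12480 65 12545 y0u191 y0c192 rfl
theorem y0c193 : allBelow (fun k => fy0 (Nat.add 12545 k)) 65 = true := by decide +kernel
theorem y0u193 : ∀ i, i < 12610 → fy0 i = true := below_step fy0 12545 65 12610 y0u192 y0c193 rfl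
theorem y0c194 : allBelow (fun k => fy0 (Nat.add 12610 k)) 65 = true := by decide +kernel
theorem y0u194 : ∀ i, i < 12675 → fy0 i = true := below_step fy0 12610 65 12675 y0u193 y0c194 rfl
theorem y0c195 : allBelow (fun k => fy0 (Nat.add 12675 k)) 65 = true := by decide +kernel
theorem y0u195 : ∀ i, i < 12740 → fy0 i = true := below_step fy0 12675 65 12740 y0u194 y0c195 rfl
theorem y0c196 : allBelow (fun k => fy0 (Nat.add 12740 k)) 65 = true := by decide +kernel
theorem y0u196 : ∀ i, i < 12805 → fy0 i = true := below_step fy0 12740 65 12805 y0u195 y0c196 rfl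
theorem y0c197 : allBelow (fun k => fy0 (Nat.add 12805 k)) 65 = true := by decide +kernel
theorem y0u197 : ∀ i, i < 12870 → fy0 i = true := below_step fy0 12805 65 12870 y0u196 y0c197 rfl
theorem y0c198 : allBelow (fun k => fy0 (Nat.add 12870 k)) 65 = true := by decide +kernel
theorem y0u198 : ∀ i, i < 12935 → fy0 i = true := below_step fy0 12870 65 12935 y0u197 y0c198 rfl
theorem y0c199 : allBelow (fun k => fy0 (Nat.add 12935 k)) 65 = true := by decide +kernel
theorem y0u199 : ∀ i, i < 13000 → fy0 i = true := below_step fy0 12935 65 13000 y0u198 y0c199 rfl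

end Cfsg.Agent.Lib.Helper35.Fi23Ord.X0
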