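import Cfsg.Agent.Lib.Helper35.Fi23Ord.X0.Chk0

set_option Elab.async false

namespace Cfsg.Agent.Lib.Helper35.Fi23Ord.X0

open Cfsg.Agent.Lib.Helper35

theorem y0c200 : allBelow (fun k => fy0 (Nat.add 13000 k)) 65 = true := by decide +kernel
theorem y0u200 : ∀ i, i < 13065 → fy0 i = true := below_step fy0 13000 65 13065 y0u199 y0c200 rfl
theorem y0c201 : allBelow (fun k => fy0 (Nat.add 13065 k)) 65 = true := by decide +kernel
theorem y0u201 : ∀ i, i < 13130 → fy0 i = true := below_step fy0 13065 65 13130 y0u200 y0c201 rfl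
theorem y0c202 : allBelow (fun k => fy0 (Nat.add 13130 k)) 65 = true := by decide +kernel
theorem y0u202 : ∀ i, i < 13195 → fy0 i = true := below_step fy0 13130 65 13195 y0u201 y0c202 rfl
theorem y0c203 : allBelow (fun k => fy0 (Nat.add 13195 k)) 65 = true := by decide +kernel
theorem y0u203 : ∀ i, i < 13260 → fy0 i = true := below_step fy0 13195 65 13260 y0u202 y0c203 rfl
theorem y0c204 : allBelow (fun k => fy0 (Nat.add 13260 k)) 65 = true := by decide +kernel
theorem y0u204 : ∀ i, i < 13325 → fy0 i = true := below_step fy0 13260 65 13325 y0u203 y0c204 rfl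
theorem y0c205 : allBelow (fun k => fy0 (Nat.add 13325 k)) 65 = true := by decide +kernel
theorem y0u205 : ∀ i, i < 13390 → fy0 i = true := below_step fy0 13325 65 13390 y0u204 y0c205 rfl
theorem y0c206 : allBelow (fun k => fy0 (Nat.add 13390 k)) 65 = true := by decide +kernel
theorem y0u206 : ∀ i, i < 13455 → fy0 i = true := below_step fy0 13390 65 13455 y0u205 y0c206 rfl
theorem y0c207 : allBelow (fun k => fy0 (Nat.add 13455 k)) 65 = true := by decide +kernel
theorem y0u207 : ∀ i, i < 13520 → fy0 i = true := below_step fy0 13455 65 13520 y0u206 y0c207 rfl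
theorem y0c208 : allBelow (fun k => fy0 (Nat.add 13520 k)) 65 = true := by decide +kernel
theorem y0u208 : ∀ i, i < 13585 → fy0 i = true := below_step fy0 13520 65 13585 y0u207 y0c208 rfl
theorem y0c209 : allBelow (fun k => fy0 (Nat.add 13585 k)) 65 = true := by decide +kernel
theorem y0u209 : ∀ i, i < 13650 → fy0 i = true := below_step fy0 13585 65 13650 y0u208 y0c209 rfl
theorem y0c210 : allBelow (fun k => fy0 (Nat.add 13650 k)) 65 = true := by decide +kernel
theorem y0u210 : ∀ i, i < 13715 → fy0 i = true := below_step fy0 13650 65 13715 y0u209 y0c210 rfl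
theorem y0c211 : allBelow (fun k => fy0 (Nat.add 13715 k)) 65 = true := by decide +kernel
theorem y0u211 : ∀ i, i < 13780 → fy0 i = true := below_step fy0 13715 65 13780 y0u210 y0c211 rfl
theorem y0c212 : allBelow (fun k => fy0 (Nat.add 13780 k)) 65 = true := by decide +kernel
theorem y0u212 : ∀ i, i < 13845 → fy0 i = true := below_step fy0 13780 65 13845 y0u211 y0c212 rfl
theorem y0c213 : allBelow (fun k => fy0 (Nat.add 13845 k)) 65 = true := by decide +kernel
theorem y0u213 : ∀ i, i < 13910 → fy0 i = true := below_step fy0 13845 65 13910 y0u212 y0c213 rfl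
theorem y0c214 : allBelow (fun k => fy0 (Nat.add 13910 k)) 65 = true := by decide +kernel
theorem y0u214 : ∀ i, i < 13975 → fy0 i = true := below_step fy0 13910 65 13975 y0u213 y0c214 rfl
theorem y0c215 : allBelow (fun k => fy0 (Nat.add 13975 k)) 65 = true := by decide +kernel
theorem y0u215 : ∀ i, i < 14040 → fy0 i = true := below_step fy0 13975 65 14040 y0u214 y0c215 rfl
theorem y0c216 : allBelow (fun k => fy0 (Nat.add 14040 k)) 65 = true := by decide +kernel
theorem y0u216 : ∀ i, i < 14105 → fy0 i = true := below_step fy0 14040 65 14105 y0u215 y0c216 rfl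
theorem y0c217 : allBelow (fun k => fy0 (Nat.add 14105 k)) 65 = true := by decide +kernel
theorem y0u217 : ∀ i, i < 14170 → fy0 i = true := below_step fy0 14105 65 14170 y0u216 y0c217 rfl
theorem y0c218 : allBelow (fun k => fy0 (Nat.add 14170 k)) 65 = true := by decide +kernel
theorem y0u218 : ∀ i, i < 14235 → fy0 i = true := below_step fy0 14170 65 14235 y0u217 y0c218 rfl
theorem y0c219 : allBelow (fun k => fy0 (Nat.add 14235 k)) 65 = true := by decide +kernel
theorem y0u219 : ∀ i, i < 14300 → fy0 i = true := below_step fy0 14235 65 14300 y0u218 y0c219 rfl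
theorem y0c220 : allBelow (fun k => fy0 (Nat.add 14300 k)) 65 = true := by decide +kernel
theorem y0u220 : ∀ i, i < 14365 → fy0 i = true := below_step fy0 14300 65 14365 y0u219 y0c220 rfl
theorem y0c221 : allBelow (fun k => fy0 (Nat.add 14365 k)) 65 = true := by decide +kernel
theorem y0u221 : ∀ i, i < 14430 → fy0 i = true := below_step fy0 14365 65 14430 y0u220 y0c221 rfl
theorem y0c222 : allBelow (fun k => fy0 (Nat.add 14430 k)) 65 = true := by decide +kernel
theorem y0u222 : ∀ i, i < 14495 → fy0 i = true := below_step fy0 14430 65 14495 y0u221 y0c222 rfl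
theorem y0c223 : allBelow (fun k => fy0 (Nat.add 14495 k)) 65 = true := by decide +kernel
theorem y0u223 : ∀ i, i < 14560 → fy0 i = true := below_step fy0 14495 65 14560 y0u222 y0c223 rfl
theorem y0c224 : allBelow (fun k => fy0 (Nat.add 14560 k)) 65 = true := by decide +kernel
theorem y0u224 : ∀ i, i < 14625 → fy0 i = true := below_step fy0 14560 65 14625 y0u223 y0c224 rfl
theorem y0c225 : allBelow (fun k => fy0 (Nat.add 14625 k)) 65 = true := by decide +kernel
theorem y0u225 : ∀ i, i < 14690 → fy0 i = true := below_step fy0 14625 65 14690 y0u224 y0c225 rfl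
theorem y0c226 : allBelow (fun k => fy0 (Nat.add 14690 k)) 65 = true := by decide +kernel
theorem y0u226 : ∀ i, i < 14755 → fy0 i = true := below_step fy0 14690 65 14755 y0u225 y0c226 rfl
theorem y0c227 : allBelow (fun k => fy0 (Nat.add 14755 k)) 65 = true := by decide +kernel
theorem y0u227 : ∀ i, i < 14820 → fy0 i = true := below_step fy0 14755 65 14820 y0u226 y0c227 rfl
theorem y0c228 : allBelow (fun k => fy0 (Nat.add 14820 k)) 65 = true := by decide +kernel
theorem y0u228 : ∀ i, i < 14885 → fy0 i = true := below_step fy0 14820 65 14885 y0u227 y0c228 rfl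
theorem y0c229 : allBelow (fun k => fy0 (Nat.add 14885 k)) 65 = true := by decide +kernel
theorem y0u229 : ∀ i, i < 14950 → fy0 i = true := below_step fy0 14885 65 14950 y0u228 y0c229 rfl
theorem y0c230 : allBelow (fun k => fy0 (Nat.add 14950 k)) 65 = true := by decide +kernel
theorem y0u230 : ∀ i, i < 15015 → fy0 i = true := below_step fy0 14950 65 15015 y0u229 y0c230 rfl
theorem y0c231 : allBelow (fun k => fy0 (Nat.add 15015 k)) 65 = true := by decide +kernel
theorem y0u231 : ∀ i, i < 15080 → fy0 i = true := below_step fy0 15015 65 15080 y0u230 y0c231 rfl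
theorem y0c232 : allBelow (fun k => fy0 (Nat.add 15080 k)) 65 = true := by decide +kernel
theorem y0u232 : ∀ i, i < 15145 → fy0 i = true := below_step fy0 15080 65 15145 y0u231 y0c232 rfl
theorem y0c233 : allBelow (fun k => fy0 (Nat.add 15145 k)) 65 = true := by decide +kernel
theorem y0u233 : ∀ i, i < 15210 → fy0 i = true := below_step fy0 15145 65 15210 y0u232 y0c233 rfl
theorem y0c234 : allBelow (fun k => fy0 (Nat.add 15210 k)) 65 = true := by decide +kernel
theorem y0u234 : ∀ i, i < 15275 → fy0 i = true := below_step fy0 15210 65 15275 y0u233 y0c234 rfl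
theorem y0c235 : allBelow (fun k => fy0 (Nat.add 15275 k)) 65 = true := by decide +kernel
theorem y0u235 : ∀ i, i < 15340 → fy0 i = true := below_step fy0 15275 65 15340 y0u234 y0c235 rfl
theorem y0c236 : allBelow (fun k => fy0 (Nat.add 15340 k)) 65 = true := by decide +kernel
theorem y0u236 : ∀ i, i < 15405 → fy0 i = true := below_step fy0 15340 65 15405 y0u235 y0c236 rfl
theorem y0c237 : allBelow (fun k => fy0 (Nat.add 15405 k)) 65 = true := by decide +kernel
theorem y0u237 : ∀ i, i < 15470 → fy0 i = true := below_step fy0 15405 65 15470 y0u236 y0c237 rfl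
theorem y0c238 : allBelow (fun k => fy0 (Nat.add 15470 k)) 65 = true := by decide +kernel
theorem y0u238 : ∀ i, i < 15535 → fy0 i = true := below_step fy0 15470 65 15535 y0u237 y0c238 rfl
theorem y0c239 : allBelow (fun k => fy0 (Nat.add 15535 k)) 65 = true := by decide +kernel
theorem y0u239 : ∀ i, i < 15600 → fy0 i = true := below_step fy0 15535 65 15600 y0u238 y0c239 rfl
theorem y0c240 : allBelow (fun k => fy0 (Nat.add 15600 k)) 65 = true := by decide +kernel
theorem y0u240 : ∀ i, i < 15665 → fy0 i = true := below_step fy0 15600 65 15665 y0u239 y0c240 rfl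
theorem y0c241 : allBelow (fun k => fy0 (Nat.add 15665 k)) 65 = true := by decide +kernel
theorem y0u241 : ∀ i, i < 15730 → fy0 i = true := below_step fy0 15665 65 15730 y0u240 y0c241 rfl
theorem y0c242 : allBelow (fun k => fy0 (Nat.add 15730 k)) 65 = true := by decide +kernel
theorem y0u242 : ∀ i, i < 15795 → fy0 i = true := below_step fy0 15730 65 15795 y0u241 y0c242 rfl
theorem y0c243 : allBelow (fun k => fy0 (Nat.add 15795 k)) 65 = true := by decide +kernel
theorem y0u243 : ∀ i, i < 15860 → fy0 i = true := below_step fy0 15795 65 15860 y0u242 y0c243 rfl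
theorem y0c244 : allBelow (fun k => fy0 (Nat.add 15860 k)) 65 = true := by decide +kernel
theorem y0u244 : ∀ i, i < 15925 → fy0 i = true := below_step fy0 15860 65 15925 y0u243 y0c244 rfl
theorem y0c245 : allBelow (fun k => fy0 (Nat.add 15925 k)) 65 = true := by decide +kernel
theorem y0u245 : ∀ i, i < 15990 → fy0 i = true := below_step fy0 15925 65 15990 y0u244 y0c245 rfl
theorem y0c246 : allBelow (fun k => fy0 (Nat.add 15990 k)) 65 = true := by decide +kernel
theorem y0u246 : ∀ i, i < 16055 → fy0 i = true := below_step fy0 15990 65 16055 y0u245 y0c246 rfl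
theorem y0c247 : allBelow (fun k => fy0 (Nat.add 16055 k)) 65 = true := by decide +kernel
theorem y0u247 : ∀ i, i < 16120 → fy0 i = true := below_step fy0 16055 65 16120 y0u246 y0c247 rfl
theorem y0c248 : allBelow (fun k => fy0 (Nat.add 16120 k)) 65 = true := by decide +kernel
theorem y0u248 : ∀ i, i < 16185 → fy0 i = true := below_step fy0 16120 65 16185 y0u247 y0c248 rfl
theorem y0c249 : allBelow (fun k => fy0 (Nat.add 16185 k)) 65 = true := by decide +kernel
theorem y0u249 : ∀ i, i < 16250 → fy0 i = true := below_step fy0 16185 65 16250 y0u248 y0c249 rfl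
theorem y0c250 : allBelow (fun k => fy0 (Nat.add 16250 k)) 65 = true := by decide +kernel
theorem y0u250 : ∀ i, i < 16315 → fy0 i = true := below_step fy0 16250 65 16315 y0u249 y0c250 rfl
theorem y0c251 : allBelow (fun k => fy0 (Nat.add 16315 k)) 65 = true := by decide +kernel
theorem y0u251 : ∀ i, i < 16380 → fy0 i = true := below_step fy0 16315 65 16380 y0u250 y0c251 rfl
theorem y0c252 : allBelow (fun k => fy0 (Nat.add 16380 k)) 65 = true := by decide +kernel
theorem y0u252 : ∀ i, i < 16445 → fy0 i = true := below_step fy0 16380 65 16445 y0u251 y0c252 rfl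
theorem y0c253 : allBelow (fun k => fy0 (Nat.add 16445 k)) 65 = true := by decide +kernel
theorem y0u253 : ∀ i, i < 16510 → fy0 i = true := below_step fy0 16445 65 16510 y0u252 y0c253 rfl
theorem y0c254 : allBelow (fun k => fy0 (Nat.add 16510 k)) 65 = true := by decide +kernel
theorem y0u254 : ∀ i, i < 16575 → fy0 i = true := below_step fy0 16510 65 16575 y0u253 y0c254 rfl
theorem y0c255 : allBelow (fun k => fy0 (Nat.add 16575 k)) 65 = true := by decide +kernel
theorem y0u255 : ∀ i, i < 16640 → fy0 i = true := below_step fy0 16575 65 16640 y0u254 y0c255 rfl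
theorem y0c256 : allBelow (fun k => fy0 (Nat.add 16640 k)) 65 = true := by decide +kernel
theorem y0u256 : ∀ i, i < 16705 → fy0 i = true := below_step fy0 16640 65 16705 y0u255 y0c256 rfl
theorem y0c257 : allBelow (fun k => fy0 (Nat.add 16705 k)) 65 = true := by decide +kernel
theorem y0u257 : ∀ i, i < 16770 → fy0 i = true := below_step fy0 16705 65 16770 y0u256 y0c257 rfl
theorem y0c258 : allBelow (fun k => fy0 (Nat.add 16770 k)) 65 = true := by decide +kernel
theorem y0u258 : ∀ i, i < 16835 → fy0 i = true := below_step fy0 16770 65 16835 y0u257 y0c258 rfl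
theorem y0c259 : allBelow (fun k => fy0 (Nat.add 16835 k)) 65 = true := by decide +kernel
theorem y0u259 : ∀ i, i < 16900 → fy0 i = true := below_step fy0 16835 65 16900 y0u258 y0c259 rfl
theorem y0c260 : allBelow (fun k => fy0 (Nat.add 16900 k)) 65 = true := by decide +kernel
theorem y0u260 : ∀ i, i < 16965 → fy0 i = true := below_step fy0 16900 65 16965 y0u259 y0c260 rfl
theorem y0c261 : allBelow (fun k => fy0 (Nat.add 16965 k)) 65 = true := by decide +kernel
theorem y0u261 : ∀ i, i < 17030 → fy0 i = true := below_step fy0 16965 65 17030 y0u260 y0c261 rfl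
theorem y0c262 : allBelow (fun k => fy0 (Nat.add 17030 k)) 65 = true := by decide +kernel
theorem y0u262 : ∀ i, i < 17095 → fy0 i = true := below_step fy0 17030 65 17095 y0u261 y0c262 rfl
theorem y0c263 : allBelow (fun k => fy0 (Nat.add 17095 k)) 65 = true := by decide +kernel
theorem y0u263 : ∀ i, i < 17160 → fy0 i = true := below_step fy0 17095 65 17160 y0u262 y0c263 rfl
theorem y0c264 : allBelow (fun k => fy0 (Nat.add 17160 k)) 65 = true := by decide +kernel
theorem y0u264 : ∀ i, i < 17225 → fy0 i = true := below_step fy0 17160 65 17225 y0u263 y0c264 rfl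
theorem y0c265 : allBelow (fun k => fy0 (Nat.add 17225 k)) 65 = true := by decide +kernel
theorem y0u265 : ∀ i, i < 17290 → fy0 i = true := below_step fy0 17225 65 17290 y0u264 y0c265 rfl
theorem y0c266 : allBelow (fun k => fy0 (Nat.add 17290 k)) 65 = true := by decide +kernel
theorem y0u266 : ∀ i, i < 17355 → fy0 i = true := below_step fy0 17290 65 17355 y0u265 y0c266 rfl
theorem y0c267 : allBelow (fun k => fy0 (Nat.add 17355 k)) 65 = true := by decide +kernel
theorem y0u267 : ∀ i, i < 17420 → fy0 i = true := below_step fy0 17355 65 17420 y0u266 y0c267 rfl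
theorem y0c268 : allBelow (fun k => fy0 (Nat.add 17420 k)) 65 = true := by decide +kernel
theorem y0u268 : ∀ i, i < 17485 → fy0 i = true := below_step fy0 17420 65 17485 y0u267 y0c268 rfl
theorem y0c269 : allBelow (fun k => fy0 (Nat.add 17485 k)) 65 = true := by decide +kernel
theorem y0u269 : ∀ i, i < 17550 → fy0 i = true := below_step fy0 17485 65 17550 y0u268 y0c269 rfl
theorem y0c270 : allBelow (fun k => fy0 (Nat.add 17550 k)) 65 = true := by decide +kernel
theorem y0u270 : ∀ i, i < 17615 → fy0 i = true := below_step fy0 17550 65 17615 y0u269 y0c270 rfl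
theorem y0c271 : allBelow (fun k => fy0 (Nat.add 17615 k)) 65 = true := by decide +kernel
theorem y0u271 : ∀ i, i < 17680 → fy0 i = true := below_step fy0 17615 65 17680 y0u270 y0c271 rfl
theorem y0c272 : allBelow (fun k => fy0 (Nat.add 17680 k)) 65 = true := by decide +kernel
theorem y0u272 : ∀ i, i < 17745 → fy0 i = true := below_step fy0 17680 65 17745 y0u271 y0c272 rfl
theorem y0c273 : allBelow (fun k => fy0 (Nat.add 17745 k)) 65 = true := by decide +kernel
theorem y0u273 : ∀ i, i < 17810 → fy0 i = true := below_step fy0 17745 65 17810 y0u272 y0c273 rfl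
theorem y0c274 : allBelow (fun k => fy0 (Nat.add 17810 k)) 65 = true := by decide +kernel
theorem y0u274 : ∀ i, i < 17875 → fy0 i = true := below_step fy0 17810 65 17875 y0u273 y0c274 rfl
theorem y0c275 : allBelow (fun k => fy0 (Nat.add 17875 k)) 65 = true := by decide +kernel
theorem y0u275 : ∀ i, i < 17940 → fy0 i = true := below_step fy0 17875 65 17940 y0u274 y0c275 rfl
theorem y0c276 : allBelow (fun k => fy0 (Nat.add 17940 k)) 65 = true := by decide +kernel
theorem y0u276 : ∀ i, i < 18005 → fy0 i = true := below_step fy0 17940 65 18005 y0u275 y0c276 rfl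
theorem y0c277 : allBelow (fun k => fy0 (Nat.add 18005 k)) 65 = true := by decide +kernel
theorem y0u277 : ∀ i, i < 18070 → fy0 i = true := below_step fy0 18005 65 18070 y0u276 y0c277 rfl
theorem y0c278 : allBelow (fun k => fy0 (Nat.add 18070 k)) 65 = true := by decide +kernel
theorem y0u278 : ∀ i, i < 18135 → fy0 i = true := below_step fy0 18070 65 18135 y0u277 y0c278 rfl
theorem y0c279 : allBelow (fun k => fy0 (Nat.add 18135 k)) 65 = true := by decide +kernel
theorem y0u279 : ∀ i, i < 18200 → fy0 i = true := below_step fy0 18135 65 18200 y0u278 y0c279 rfl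
theorem y0c280 : allBelow (fun k => fy0 (Nat.add 18200 k)) 65 = true := by decide +kernel
theorem y0u280 : ∀ i, i < 18265 → fy0 i = true := below_step fy0 18200 65 18265 y0u279 y0c280 rfl
theorem y0c281 : allBelow (fun k => fy0 (Nat.add 18265 k)) 65 = true := by decide +kernel
theorem y0u281 : ∀ i, i < 18330 → fy0 i = true := below_step fy0 18265 65 18330 y0u280 y0c281 rfl
theorem y0c282 : allBelow (fun k => fy0 (Nat.add 18330 k)) 65 = true := by decide +kernel
theorem y0u282 : ∀ i, i < 18395 → fy0 i = true := below_step fy0 18330 65 18395 y0u281 y0c282 rfl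
theorem y0c283 : allBelow (fun k => fy0 (Nat.add 18395 k)) 65 = true := by decide +kernel
theorem y0u283 : ∀ i, i < 18460 → fy0 i = true := below_step fy0 18395 65 18460 y0u282 y0c283 rfl
theorem y0c284 : allBelow (fun k => fy0 (Nat.add 18460 k)) 65 = true := by decide +kernel
theorem y0u284 : ∀ i, i < 18525 → fy0 i = true := below_step fy0 18460 65 18525 y0u283 y0c284 rfl
theorem y0c285 : allBelow (fun k => fy0 (Nat.add 18525 k)) 65 = true := by decide +kernel
theorem y0u285 : ∀ i, i < 18590 → fy0 i = true := below_step fy0 18525 65 18590 y0u284 y0c285 rfl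
theorem y0c286 : allBelow (fun k => fy0 (Nat.add 18590 k)) 65 = true := by decide +kernel
theorem y0u286 : ∀ i, i < 18655 → fy0 i = true := below_step fy0 18590 65 18655 y0u285 y0c286 rfl
theorem y0c287 : allBelow (fun k => fy0 (Nat.add 18655 k)) 65 = true := by decide +kernel
theorem y0u287 : ∀ i, i < 18720 → fy0 i = true := below_step fy0 18655 65 18720 y0u286 y0c287 rfl
theorem y0c288 : allBelow (fun k => fy0 (Nat.add 18720 k)) 65 = true := by decide +kernel
theorem y0u288 : ∀ i, i < 18785 → fy0 i = true := below_step fy0 18720 65 18785 y0u287 y0c288 rfl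
theorem y0c289 : allBelow (fun k => fy0 (Nat.add 18785 k)) 65 = true := by decide +kernel
theorem y0u289 : ∀ i, i < 18850 → fy0 i = true := below_step fy0 18785 65 18850 y0u288 y0c289 rfl
theorem y0c290 : allBelow (fun k => fy0 (Nat.add 18850 k)) 65 = true := by decide +kernel
theorem y0u290 : ∀ i, i < 18915 → fy0 i = true := below_step fy0 18850 65 18915 y0u289 y0c290 rfl
theorem y0c291 : allBelow (fun k => fy0 (Nat.add 18915 k)) 65 = true := by decide +kernel
theorem y0u291 : ∀ i, i < 18980 → fy0 i = true := below_step fy0 18915 65 18980 y0u290 y0c291 rfl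
theorem y0c292 : allBelow (fun k => fy0 (Nat.add 18980 k)) 65 = true := by decide +kernel
theorem y0u292 : ∀ i, i < 19045 → fy0 i = true := below_step fy0 18980 65 19045 y0u291 y0c292 rfl
theorem y0c293 : allBelow (fun k => fy0 (Nat.add 19045 k)) 65 = true := by decide +kernel
theorem y0u293 : ∀ i, i < 19110 → fy0 i = true := below_step fy0 19045 65 19110 y0u292 y0c293 rfl
theorem y0c294 : allBelow (fun k => fy0 (Nat.add 19110 k)) 65 = true := by decide +kernel
theorem y0u294 : ∀ i, i < 19175 → fy0 i = true := below_step fy0 19110 65 19175 y0u293 y0c294 rfl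
theorem y0c295 : allBelow (fun k => fy0 (Nat.add 19175 k)) 65 = true := by decide +kernel
theorem y0u295 : ∀ i, i < 19240 → fy0 i = true := below_step fy0 19175 65 19240 y0u294 y0c295 rfl
theorem y0c296 : allBelow (fun k => fy0 (Nat.add 19240 k)) 65 = true := by decide +kernel
theorem y0u296 : ∀ i, i < 19305 → fy0 i = true := below_step fy0 19240 65 19305 y0u295 y0c296 rfl
theorem y0c297 : allBelow (fun k => fy0 (Nat.add 19305 k)) 65 = true := by decide +kernel
theorem y0u297 : ∀ i, i < 19370 → fy0 i = true := below_step fy0 19305 65 19370 y0u296 y0c297 rfl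
theorem y0c298 : allBelow (fun k => fy0 (Nat.add 19370 k)) 65 = true := by decide +kernel
theorem y0u298 : ∀ i, i < 19435 → fy0 i = true := below_step fy0 19370 65 19435 y0u297 y0c298 rfl
theorem y0c299 : allBelow (fun k => fy0 (Nat.add 19435 k)) 65 = true := by decide +kernel
theorem y0u299 : ∀ i, i < 19500 → fy0 i = true := below_step fy0 19435 65 19500 y0u298 y0c299 rfl
theorem y0c300 : allBelow (fun k => fy0 (Nat.add 19500 k)) 65 = true := by decide +kernel
theorem y0u300 : ∀ i, i < 19565 → fy0 i = true := below_step fy0 19500 65 19565 y0u299 y0c300 rfl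
theorem y0c301 : allBelow (fun k => fy0 (Nat.add 19565 k)) 65 = true := by decide +kernel
theorem y0u301 : ∀ i, i < 19630 → fy0 i = true := below_step fy0 19565 65 19630 y0u300 y0c301 rfl
theorem y0c302 : allBelow (fun k => fy0 (Nat.add 19630 k)) 65 = true := by decide +kernel
theorem y0u302 : ∀ i, i < 19695 → fy0 i = true := below_step fy0 19630 65 19695 y0u301 y0c302 rfl
theorem y0c303 : allBelow (fun k => fy0 (Nat.add 19695 k)) 65 = true := by decide +kernel
theorem y0u303 : ∀ i, i < 19760 → fy0 i = true := below_step fy0 19695 65 19760 y0u302 y0c303 rfl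
theorem y0c304 : allBelow (fun k => fy0 (Nat.add 19760 k)) 65 = true := by decide +kernel
theorem y0u304 : ∀ i, i < 19825 → fy0 i = true := below_step fy0 19760 65 19825 y0u303 y0c304 rfl
theorem y0c305 : allBelow (fun k => fy0 (Nat.add 19825 k)) 65 = true := by decide +kernel
theorem y0u305 : ∀ i, i < 19890 → fy0 i = true := below_step fy0 19825 65 19890 y0u304 y0c305 rfl
theorem y0c306 : allBelow (fun k => fy0 (Nat.add 19890 k)) 65 = true := by decide +kernel
theorem y0u306 : ∀ i, i < 19955 → fy0 i = true := below_step fy0 19890 65 19955 y0u305 y0c306 rfl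
theorem y0c307 : allBelow (fun k => fy0 (Nat.add 19955 k)) 65 = true := by decide +kernel
theorem y0u307 : ∀ i, i < 20020 → fy0 i = true := below_step fy0 19955 65 20020 y0u306 y0c307 rfl
theorem y0c308 : allBelow (fun k => fy0 (Nat.add 20020 k)) 65 = true := by decide +kernel
theorem y0u308 : ∀ i, i < 20085 → fy0 i = true := below_step fy0 20020 65 20085 y0u307 y0c308 rfl
theorem y0c309 : allBelow (fun k => fy0 (Nat.add 20085 k)) 65 = true := by decide +kernel
theorem y0u309 : ∀ i, i < 20150 → fy0 i = true := below_step fy0 20085 65 20150 y0u308 y0c309 rfl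
theorem y0c310 : allBelow (fun k => fy0 (Nat.add 20150 k)) 65 = true := by decide +kernel
theorem y0u310 : ∀ i, i < 20215 → fy0 i = true := below_step fy0 20150 65 20215 y0u309 y0c310 rfl
theorem y0c311 : allBelow (fun k => fy0 (Nat.add 20215 k)) 65 = true := by decide +kernel
theorem y0u311 : ∀ i, i < 20280 → fy0 i = true := below_step fy0 20215 65 20280 y0u310 y0c311 rfl
theorem y0c312 : allBelow (fun k => fy0 (Nat.add 20280 k)) 65 = true := by decide +kernel
theorem y0u312 : ∀ i, i < 20345 → fy0 i = true := below_step fy0 20280 65 20345 y0u311 y0c312 rfl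
theorem y0c313 : allBelow (fun k => fy0 (Nat.add 20345 k)) 65 = true := by decide +kernel
theorem y0u313 : ∀ i, i < 20410 → fy0 i = true := below_step fy0 20345 65 20410 y0u312 y0c313 rfl
theorem y0c314 : allBelow (fun k => fy0 (Nat.add 20410 k)) 65 = true := by decide +kernel
theorem y0u314 : ∀ i, i < 20475 → fy0 i = true := below_step fy0 20410 65 20475 y0u313 y0c314 rfl
theorem y0c315 : allBelow (fun k => fy0 (Nat.add 20475 k)) 65 = true := by decide +kernel
theorem y0u315 : ∀ i, i < 20540 → fy0 i = true := below_step fy0 20475 65 20540 y0u314 y0c315 rfl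
theorem y0c316 : allBelow (fun k => fy0 (Nat.add 20540 k)) 65 = true := by decide +kernel
theorem y0u316 : ∀ i, i < 20605 → fy0 i = true := below_step fy0 20540 65 20605 y0u315 y0c316 rfl
theorem y0c317 : allBelow (fun k => fy0 (Nat.add 20605 k)) 65 = true := by decide +kernel
theorem y0u317 : ∀ i, i < 20670 → fy0 i = true := below_step fy0 20605 65 20670 y0u316 y0c317 rfl
theorem y0c318 : allBelow (fun k => fy0 (Nat.add 20670 k)) 65 = true := by decide +kernel
theorem y0u318 : ∀ i, i < 20735 → fy0 i = true := below_step fy0 20670 65 20735 y0u317 y0c318 rfl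
theorem y0c319 : allBelow (fun k => fy0 (Nat.add 20735 k)) 65 = true := by decide +kernel
theorem y0u319 : ∀ i, i < 20800 → fy0 i = true := below_step fy0 20735 65 20800 y0u318 y0c319 rfl
theorem y0c320 : allBelow (fun k => fy0 (Nat.add 20800 k)) 65 = true := by decide +kernel
theorem y0u320 : ∀ i, i < 20865 → fy0 i = true := below_step fy0 20800 65 20865 y0u319 y0c320 rfl
theorem y0c321 : allBelow (fun k => fy0 (Nat.add 20865 k)) 65 = true := by decide +kernel
theorem y0u321 : ∀ i, i < 20930 → fy0 i = true := below_step fy0 20865 65 20930 y0u320 y0c321 rfl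
theorem y0c322 : allBelow (fun k => fy0 (Nat.add 20930 k)) 65 = true := by decide +kernel
theorem y0u322 : ∀ i, i < 20995 → fy0 i = true := below_step fy0 20930 65 20995 y0u321 y0c322 rfl
theorem y0c323 : allBelow (fun k => fy0 (Nat.add 20995 k)) 65 = true := by decide +kernel
theorem y0u323 : ∀ i, i < 21060 → fy0 i = true := below_step fy0 20995 65 21060 y0u322 y0c323 rfl
theorem y0c324 : allBelow (fun k => fy0 (Nat.add 21060 k)) 65 = true := by decide +kernel
theorem y0u324 : ∀ i, i < 21125 → fy0 i = true := below_step fy0 21060 65 21125 y0u323 y0c324 rfl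
theorem y0c325 : allBelow (fun k => fy0 (Nat.add 21125 k)) 65 = true := by decide +kernel
theorem y0u325 : ∀ i, i < 21190 → fy0 i = true := below_step fy0 21125 65 21190 y0u324 y0c325 rfl
theorem y0c326 : allBelow (fun k => fy0 (Nat.add 21190 k)) 65 = true := by decide +kernel
theorem y0u326 : ∀ i, i < 21255 → fy0 i = true := below_step fy0 21190 65 21255 y0u325 y0c326 rfl
theorem y0c327 : allBelow (fun k => fy0 (Nat.add 21255 k)) 65 = true := by decide +kernel
theorem y0u327 : ∀ i, i < 21320 → fy0 i = true := below_step fy0 21255 65 21320 y0u326 y0c327 rfl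
theorem y0c328 : allBelow (fun k => fy0 (Nat.add 21320 k)) 65 = true := by decide +kernel
theorem y0u328 : ∀ i, i < 21385 → fy0 i = true := below_step fy0 21320 65 21385 y0u327 y0c328 rfl
theorem y0c329 : allBelow (fun k => fy0 (Nat.add 21385 k)) 65 = true := by decide +kernel
theorem y0u329 : ∀ i, i < 21450 → fy0 i = true := below_step fy0 21385 65 21450 y0u328 y0c329 rfl
theorem y0c330 : allBelow (fun k => fy0 (Nat.add 21450 k)) 65 = true := by decide +kernel
theorem y0u330 : ∀ i, i < 21515 → fy0 i = true := below_step fy0 21450 65 21515 y0u329 y0c330 rfl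
theorem y0c331 : allBelow (fun k => fy0 (Nat.add 21515 k)) 65 = true := by decide +kernel
theorem y0u331 : ∀ i, i < 21580 → fy0 i = true := below_step fy0 21515 65 21580 y0u330 y0c331 rfl
theorem y0c332 : allBelow (fun k => fy0 (Nat.add 21580 k)) 65 = true := by decide +kernel
theorem y0u332 : ∀ i, i < 21645 → fy0 i = true := below_step fy0 21580 65 21645 y0u331 y0c332 rfl
theorem y0c333 : allBelow (fun k => fy0 (Nat.add 21645 k)) 65 = true := by decide +kernel
theorem y0u333 : ∀ i, i < 21710 → fy0 i = true := below_step fy0 21645 65 21710 y0u332 y0c333 rfl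
theorem y0c334 : allBelow (fun k => fy0 (Nat.add 21710 k)) 65 = true := by decide +kernel
theorem y0u334 : ∀ i, i < 21775 → fy0 i = true := below_step fy0 21710 65 21775 y0u333 y0c334 rfl
theorem y0c335 : allBelow (fun k => fy0 (Nat.add 21775 k)) 65 = true := by decide +kernel
theorem y0u335 : ∀ i, i < 21840 → fy0 i = true := below_step fy0 21775 65 21840 y0u334 y0c335 rfl
theorem y0c336 : allBelow (fun k => fy0 (Nat.add 21840 k)) 65 = true := by decide +kernel
theorem y0u336 : ∀ i, i < 21905 → fy0 i = true := below_step fy0 21840 65 21905 y0u335 y0c336 rfl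
theorem y0c337 : allBelow (fun k => fy0 (Nat.add 21905 k)) 65 = true := by decide +kernel
theorem y0u337 : ∀ i, i < 21970 → fy0 i = true := below_step fy0 21905 65 21970 y0u336 y0c337 rfl
theorem y0c338 : allBelow (fun k => fy0 (Nat.add 21970 k)) 65 = true := by decide +kernel
theorem y0u338 : ∀ i, i < 22035 → fy0 i = true := below_step fy0 21970 65 22035 y0u337 y0c338 rfl
theorem y0c339 : allBelow (fun k => fy0 (Nat.add 22035 k)) 65 = true := by decide +kernel
theorem y0u339 : ∀ i, i < 22100 → fy0 i = true := below_step fy0 22035 65 22100 y0u338 y0c339 rfl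
theorem y0c340 : allBelow (fun k => fy0 (Nat.add 22100 k)) 65 = true := by decide +kernel
theorem y0u340 : ∀ i, i < 22165 → fy0 i = true := below_step fy0 22100 65 22165 y0u339 y0c340 rfl
theorem y0c341 : allBelow (fun k => fy0 (Nat.add 22165 k)) 65 = true := by decide +kernel
theorem y0u341 : ∀ i, i < 22230 → fy0 i = true := below_step fy0 22165 65 22230 y0u340 y0c341 rfl
theorem y0c342 : allBelow (fun k => fy0 (Nat.add 22230 k)) 65 = true := by decide +kernel
theorem y0u342 : ∀ i, i < 22295 → fy0 i = true := below_step fy0 22230 65 22295 y0u341 y0c342 rfl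
theorem y0c343 : allBelow (fun k => fy0 (Nat.add 22295 k)) 65 = true := by decide +kernel
theorem y0u343 : ∀ i, i < 22360 → fy0 i = true := below_step fy0 22295 65 22360 y0u342 y0c343 rfl
theorem y0c344 : allBelow (fun k => fy0 (Nat.add 22360 k)) 65 = true := by decide +kernel
theorem y0u344 : ∀ i, i < 22425 → fy0 i = true := below_step fy0 22360 65 22425 y0u343 y0c344 rfl
theorem y0c345 : allBelow (fun k => fy0 (Nat.add 22425 k)) 65 = true := by decide +kernel
theorem y0u345 : ∀ i, i < 22490 → fy0 i = true := below_step fy0 22425 65 22490 y0u344 y0c345 rfl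
theorem y0c346 : allBelow (fun k => fy0 (Nat.add 22490 k)) 65 = true := by decide +kernel
theorem y0u346 : ∀ i, i < 22555 → fy0 i = true := below_step fy0 22490 65 22555 y0u345 y0c346 rfl
theorem y0c347 : allBelow (fun k => fy0 (Nat.add 22555 k)) 65 = true := by decide +kernel
theorem y0u347 : ∀ i, i < 22620 → fy0 i = true := below_step fy0 22555 65 22620 y0u346 y0c347 rfl
theorem y0c348 : allBelow (fun k => fy0 (Nat.add 22620 k)) 65 = true := by decide +kernel
theorem y0u348 : ∀ i, i < 22685 → fy0 i = true := below_step fy0 22620 65 22685 y0u347 y0c348 rfl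
theorem y0c349 : allBelow (fun k => fy0 (Nat.add 22685 k)) 65 = true := by decide +kernel
theorem y0u349 : ∀ i, i < 22750 → fy0 i = true := below_step fy0 22685 65 22750 y0u348 y0c349 rfl
theorem y0c350 : allBelow (fun k => fy0 (Nat.add 22750 k)) 65 = true := by decide +kernel
theorem y0u350 : ∀ i, i < 22815 → fy0 i = true := below_step fy0 22750 65 22815 y0u349 y0c350 rfl
theorem y0c351 : allBelow (fun k => fy0 (Nat.add 22815 k)) 65 = true := by decide +kernel
theorem y0u351 : ∀ i, i < 22880 → fy0 i = true := below_step fy0 22815 65 22880 y0u350 y0c351 rfl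
theorem y0c352 : allBelow (fun k => fy0 (Nat.add 22880 k)) 65 = true := by decide +kernel
theorem y0u352 : ∀ i, i < 22945 → fy0 i = true := below_step fy0 22880 65 22945 y0u351 y0c352 rfl
theorem y0c353 : allBelow (fun k => fy0 (Nat.add 22945 k)) 65 = true := by decide +kernel
theorem y0u353 : ∀ i, i < 23010 → fy0 i = true := below_step fy0 22945 65 23010 y0u352 y0c353 rfl
theorem y0c354 : allBelow (fun k => fy0 (Nat.add 23010 k)) 65 = true := by decide +kernel
theorem y0u354 : ∀ i, i < 23075 → fy0 i = true := below_step fy0 23010 65 23075 y0u353 y0c354 rfl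
theorem y0c355 : allBelow (fun k => fy0 (Nat.add 23075 k)) 65 = true := by decide +kernel
theorem y0u355 : ∀ i, i < 23140 → fy0 i = true := below_step fy0 23075 65 23140 y0u354 y0c355 rfl
theorem y0c356 : allBelow (fun k => fy0 (Nat.add 23140 k)) 65 = true := by decide +kernel
theorem y0u356 : ∀ i, i < 23205 → fy0 i = true := below_step fy0 23140 65 23205 y0u355 y0c356 rfl
theorem y0c357 : allBelow (fun k => fy0 (Nat.add 23205 k)) 65 = true := by decide +kernel
theorem y0u357 : ∀ i, i < 23270 → fy0 i = true := below_step fy0 23205 65 23270 y0u356 y0c357 rfl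
theorem y0c358 : allBelow (fun k => fy0 (Nat.add 23270 k)) 65 = true := by decide +kernel
theorem y0u358 : ∀ i, i < 23335 → fy0 i = true := below_step fy0 23270 65 23335 y0u357 y0c358 rfl
theorem y0c359 : allBelow (fun k => fy0 (Nat.add 23335 k)) 65 = true := by decide +kernel
theorem y0u359 : ∀ i, i < 23400 → fy0 i = true := below_step fy0 23335 65 23400 y0u358 y0c359 rfl
theorem y0c360 : allBelow (fun k => fy0 (Nat.add 23400 k)) 65 = true := by decide +kernel
theorem y0u360 : ∀ i, i < 23465 → fy0 i = true := below_step fy0 23400 65 23465 y0u359 y0c360 rfl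
theorem y0c361 : allBelow (fun k => fy0 (Nat.add 23465 k)) 65 = true := by decide +kernel
theorem y0u361 : ∀ i, i < 23530 → fy0 i = true := below_step fy0 23465 65 23530 y0u360 y0c361 rfl
theorem y0c362 : allBelow (fun k => fy0 (Nat.add 23530 k)) 65 = true := by decide +kernel
theorem y0u362 : ∀ i, i < 23595 → fy0 i = true := below_step fy0 23530 65 23595 y0u361 y0c362 rfl
theorem y0c363 : allBelow (fun k => fy0 (Nat.add 23595 k)) 65 = true := by decide +kernel
theorem y0u363 : ∀ i, i < 23660 → fy0 i = true := below_step fy0 23595 65 23660 y0u362 y0c363 rfl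
theorem y0c364 : allBelow (fun k => fy0 (Nat.add 23660 k)) 65 = true := by decide +kernel
theorem y0u364 : ∀ i, i < 23725 → fy0 i = true := below_step fy0 23660 65 23725 y0u363 y0c364 rfl
theorem y0c365 : allBelow (fun k => fy0 (Nat.add 23725 k)) 65 = true := by decide +kernel
theorem y0u365 : ∀ i, i < 23790 → fy0 i = true := below_step fy0 23725 65 23790 y0u364 y0c365 rfl
theorem y0c366 : allBelow (fun k => fy0 (Nat.add 23790 k)) 65 = true := by decide +kernel
theorem y0u366 : ∀ i, i < 23855 → fy0 i = true := below_step fy0 23790 65 23855 y0u365 y0c366 rfl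
theorem y0c367 : allBelow (fun k => fy0 (Nat.add 23855 k)) 65 = true := by decide +kernel
theorem y0u367 : ∀ i, i < 23920 → fy0 i = true := below_step fy0 23855 65 23920 y0u366 y0c367 rfl
theorem y0c368 : allBelow (fun k => fy0 (Nat.add 23920 k)) 65 = true := by decide +kernel
theorem y0u368 : ∀ i, i < 23985 → fy0 i = true := below_step fy0 23920 65 23985 y0u367 y0c368 rfl
theorem y0c369 : allBelow (fun k => fy0 (Nat.add 23985 k)) 65 = true := by decide +kernel
theorem y0u369 : ∀ i, i < 24050 → fy0 i = true := below_step fy0 23985 65 24050 y0u368 y0c369 rfl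
theorem y0c370 : allBelow (fun k => fy0 (Nat.add 24050 k)) 65 = true := by decide +kernel
theorem y0u370 : ∀ i, i < 24115 → fy0 i = true := below_step fy0 24050 65 24115 y0u369 y0c370 rfl
theorem y0c371 : allBelow (fun k => fy0 (Nat.add 24115 k)) 65 = true := by decide +kernel
theorem y0u371 : ∀ i, i < 24180 → fy0 i = true := below_step fy0 24115 65 24180 y0u370 y0c371 rfl
theorem y0c372 : allBelow (fun k => fy0 (Nat.add 24180 k)) 65 = true := by decide +kernel
theorem y0u372 : ∀ i, i < 24245 → fy0 i = true := below_step fy0 24180 65 24245 y0u371 y0c372 rfl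
theorem y0c373 : allBelow (fun k => fy0 (Nat.add 24245 k)) 65 = true := by decide +kernel
theorem y0u373 : ∀ i, i < 24310 → fy0 i = true := below_step fy0 24245 65 24310 y0u372 y0c373 rfl
theorem y0c374 : allBelow (fun k => fy0 (Nat.add 24310 k)) 65 = true := by decide +kernel
theorem y0u374 : ∀ i, i < 24375 → fy0 i = true := below_step fy0 24310 65 24375 y0u373 y0c374 rfl
theorem y0c375 : allBelow (fun k => fy0 (Nat.add 24375 k)) 65 = true := by decide +kernel
theorem y0u375 : ∀ i, i < 24440 → fy0 i = true := below_step fy0 24375 65 24440 y0u374 y0c375 rfl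
theorem y0c376 : allBelow (fun k => fy0 (Nat.add 24440 k)) 65 = true := by decide +kernel
theorem y0u376 : ∀ i, i < 24505 → fy0 i = true := below_step fy0 24440 65 24505 y0u375 y0c376 rfl
theorem y0c377 : allBelow (fun k => fy0 (Nat.add 24505 k)) 65 = true := by decide +kernel
theorem y0u377 : ∀ i, i < 24570 → fy0 i = true := below_step fy0 24505 65 24570 y0u376 y0c377 rfl
theorem y0c378 : allBelow (fun k => fy0 (Nat.add 24570 k)) 65 = true := by decide +kernel
theorem y0u378 : ∀ i, i < 24635 → fy0 i = true := below_step fy0 24570 65 24635 y0u377 y0c378 rfl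
theorem y0c379 : allBelow (fun k => fy0 (Nat.add 24635 k)) 65 = true := by decide +kernel
theorem y0u379 : ∀ i, i < 24700 → fy0 i = true := below_step fy0 24635 65 24700 y0u378 y0c379 rfl
theorem y0c380 : allBelow (fun k => fy0 (Nat.add 24700 k)) 65 = true := by decide +kernel
theorem y0u380 : ∀ i, i < 24765 → fy0 i = true := below_step fy0 24700 65 24765 y0u379 y0c380 rfl
theorem y0c381 : allBelow (fun k => fy0 (Nat.add 24765 k)) 65 = true := by decide +kernel
theorem y0u381 : ∀ i, i < 24830 → fy0 i = true := below_step fy0 24765 65 24830 y0u380 y0c381 rfl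
theorem y0c382 : allBelow (fun k => fy0 (Nat.add 24830 k)) 65 = true := by decide +kernel
theorem y0u382 : ∀ i, i < 24895 → fy0 i = true := below_step fy0 24830 65 24895 y0u381 y0c382 rfl
theorem y0c383 : allBelow (fun k => fy0 (Nat.add 24895 k)) 65 = true := by decide +kernel
theorem y0u383 : ∀ i, i < 24960 → fy0 i = true := below_step fy0 24895 65 24960 y0u382 y0c383 rfl
theorem y0c384 : allBelow (fun k => fy0 (Nat.add 24960 k)) 65 = true := by decide +kernel
theorem y0u384 : ∀ i, i < 25025 → fy0 i = true := below_step fy0 24960 65 25025 y0u383 y0c384 rfl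
theorem y0c385 : allBelow (fun k => fy0 (Nat.add 25025 k)) 65 = true := by decide +kernel
theorem y0u385 : ∀ i, i < 25090 → fy0 i = true := below_step fy0 25025 65 25090 y0u384 y0c385 rfl
theorem y0c386 : allBelow (fun k => fy0 (Nat.add 25090 k)) 65 = true := by decide +kernel
theorem y0u386 : ∀ i, i < 25155 → fy0 i = true := below_step fy0 25090 65 25155 y0u385 y0c386 rfl
theorem y0c387 : allBelow (fun k => fy0 (Nat.add 25155 k)) 65 = true := by decide +kernel
theorem y0u387 : ∀ i, i < 25220 → fy0 i = true := below_step fy0 25155 65 25220 y0u386 y0c387 rfl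
theorem y0c388 : allBelow (fun k => fy0 (Nat.add 25220 k)) 65 = true := by decide +kernel
theorem y0u388 : ∀ i, i < 25285 → fy0 i = true := below_step fy0 25220 65 25285 y0u387 y0c388 rfl
theorem y0c389 : allBelow (fun k => fy0 (Nat.add 25285 k)) 65 = true := by decide +kernel
theorem y0u389 : ∀ i, i < 25350 → fy0 i = true := below_step fy0 25285 65 25350 y0u388 y0c389 rfl
theorem y0c390 : allBelow (fun k => fy0 (Nat.add 25350 k)) 65 = true := by decide +kernel
theorem y0u390 : ∀ i, i < 25415 → fy0 i = true := below_step fy0 25350 65 25415 y0u389 y0c390 rfl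
theorem y0c391 : allBelow (fun k => fy0 (Nat.add 25415 k)) 65 = true := by decide +kernel
theorem y0u391 : ∀ i, i < 25480 → fy0 i = true := below_step fy0 25415 65 25480 y0u390 y0c391 rfl
theorem y0c392 : allBelow (fun k => fy0 (Nat.add 25480 k)) 65 = true := by decide +kernel
theorem y0u392 : ∀ i, i < 25545 → fy0 i = true := below_step fy0 25480 65 25545 y0u391 y0c392 rfl
theorem y0c393 : allBelow (fun k => fy0 (Nat.add 25545 k)) 65 = true := by decide +kernel
theorem y0u393 : ∀ i, i < 25610 → fy0 i = true := below_step fy0 25545 65 25610 y0u392 y0c393 rfl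
theorem y0c394 : allBelow (fun k => fy0 (Nat.add 25610 k)) 65 = true := by decide +kernel
theorem y0u394 : ∀ i, i < 25675 → fy0 i = true := below_step fy0 25610 65 25675 y0u393 y0c394 rfl
theorem y0c395 : allBelow (fun k => fy0 (Nat.add 25675 k)) 65 = true := by decide +kernel
theorem y0u395 : ∀ i, i < 25740 → fy0 i = true := below_step fy0 25675 65 25740 y0u394 y0c395 rfl
theorem y0c396 : allBelow (fun k => fy0 (Nat.add 25740 k)) 65 = true := by decide +kernel
theorem y0u396 : ∀ i, i < 25805 → fy0 i = true := below_step fy0 25740 65 25805 y0u395 y0c396 rfl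
theorem y0c397 : allBelow (fun k => fy0 (Nat.add 25805 k)) 65 = true := by decide +kernel
theorem y0u397 : ∀ i, i < 25870 → fy0 i = true := below_step fy0 25805 65 25870 y0u396 y0c397 rfl
theorem y0c398 : allBelow (fun k => fy0 (Nat.add 25870 k)) 65 = true := by decide +kernel
theorem y0u398 : ∀ i, i < 25935 → fy0 i = true := below_step fy0 25870 65 25935 y0u397 y0c398 rfl
theorem y0c399 : allBelow (fun k => fy0 (Nat.add 25935 k)) 65 = true := by decide +kernel
theorem y0u399 : ∀ i, i < 26000 → fy0 i = true := below_step fy0 25935 65 26000 y0u398 y0c399 rfl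
theorem y0c400 : allBelow (fun k => fy0 (Nat.add 26000 k)) 65 = true := by decide +kernel
theorem y0u400 : ∀ i, i < 26065 → fy0 i = true := below_step fy0 26000 65 26065 y0u399 y0c400 rfl
theorem y0c401 : allBelow (fun k => fy0 (Nat.add 26065 k)) 65 = true := by decide +kernel
theorem y0u401 : ∀ i, i < 26130 → fy0 i = true := below_step fy0 26065 65 26130 y0u400 y0c401 rfl
theorem y0c402 : allBelow (fun k => fy0 (Nat.add 26130 k)) 65 = true := by decide +kernel
theorem y0u402 : ∀ i, i < 26195 → fy0 i = true := below_step fy0 26130 65 26195 y0u401 y0c402 rfl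
theorem y0c403 : allBelow (fun k => fy0 (Nat.add 26195 k)) 65 = true := by decide +kernel
theorem y0u403 : ∀ i, i < 26260 → fy0 i = true := below_step fy0 26195 65 26260 y0u402 y0c403 rfl
theorem y0c404 : allBelow (fun k => fy0 (Nat.add 26260 k)) 65 = true := by decide +kernel
theorem y0u404 : ∀ i, i < 26325 → fy0 i = true := below_step fy0 26260 65 26325 y0u403 y0c404 rfl
theorem y0c405 : allBelow (fun k => fy0 (Nat.add 26325 k)) 65 = true := by decide +kernel
theorem y0u405 : ∀ i, i < 26390 → fy0 i = true := below_step fy0 26325 65 26390 y0u404 y0c405 rfl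
theorem y0c406 : allBelow (fun k => fy0 (Nat.add 26390 k)) 65 = true := by decide +kernel
theorem y0u406 : ∀ i, i < 26455 → fy0 i = true := below_step fy0 26390 65 26455 y0u405 y0c406 rfl
theorem y0c407 : allBelow (fun k => fy0 (Nat.add 26455 k)) 65 = true := by decide +kernel
theorem y0u407 : ∀ i, i < 26520 → fy0 i = true := below_step fy0 26455 65 26520 y0u406 y0c407 rfl
theorem y0c408 : allBelow (fun k => fy0 (Nat.add 26520 k)) 65 = true := by decide +kernel
theorem y0u408 : ∀ i, i < 26585 → fy0 i = true := below_step fy0 26520 65 26585 y0u407 y0c408 rfl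
theorem y0c409 : allBelow (fun k => fy0 (Nat.add 26585 k)) 65 = true := by decide +kernel
theorem y0u409 : ∀ i, i < 26650 → fy0 i = true := below_step fy0 26585 65 26650 y0u408 y0c409 rfl
theorem y0c410 : allBelow (fun k => fy0 (Nat.add 26650 k)) 65 = true := by decide +kernel
theorem y0u410 : ∀ i, i < 26715 → fy0 i = true := below_step fy0 26650 65 26715 y0u409 y0c410 rfl
theorem y0c411 : allBelow (fun k => fy0 (Nat.add 26715 k)) 65 = true := by decide +kernel
theorem y0u411 : ∀ i, i < 26780 → fy0 i = true := below_step fy0 26715 65 26780 y0u410 y0c411 rfl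
theorem y0c412 : allBelow (fun k => fy0 (Nat.add 26780 k)) 65 = true := by decide +kernel
theorem y0u412 : ∀ i, i < 26845 → fy0 i = true := below_step fy0 26780 65 26845 y0u411 y0c412 rfl
theorem y0c413 : allBelow (fun k => fy0 (Nat.add 26845 k)) 65 = true := by decide +kernel
theorem y0u413 : ∀ i, i < 26910 → fy0 i = true := below_step fy0 26845 65 26910 y0u412 y0c413 rfl
theorem y0c414 : allBelow (fun k => fy0 (Nat.add 26910 k)) 65 = true := by decide +kernel
theorem y0u414 : ∀ i, i < 26975 → fy0 i = true := below_step fy0 26910 65 26975 y0u413 y0c414 rfl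
theorem y0c415 : allBelow (fun k => fy0 (Nat.add 26975 k)) 65 = true := by decide +kernel
theorem y0u415 : ∀ i, i < 27040 → fy0 i = true := below_step fy0 26975 65 27040 y0u414 y0c415 rfl
theorem y0c416 : allBelow (fun k => fy0 (Nat.add 27040 k)) 65 = true := by decide +kernel
theorem y0u416 : ∀ i, i < 27105 → fy0 i = true := below_step fy0 27040 65 27105 y0u415 y0c416 rfl
theorem y0c417 : allBelow (fun k => fy0 (Nat.add 27105 k)) 65 = true := by decide +kernel
theorem y0u417 : ∀ i, i < 27170 → fy0 i = true := below_step fy0 27105 65 27170 y0u416 y0c417 rfl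
theorem y0c418 : allBelow (fun k => fy0 (Nat.add 27170 k)) 65 = true := by decide +kernel
theorem y0u418 : ∀ i, i < 27235 → fy0 i = true := below_step fy0 27170 65 27235 y0u417 y0c418 rfl
theorem y0c419 : allBelow (fun k => fy0 (Nat.add 27235 k)) 65 = true := by decide +kernel
theorem y0u419 : ∀ i, i < 27300 → fy0 i = true := below_step fy0 27235 65 27300 y0u418 y0c419 rfl
theorem y0c420 : allBelow (fun k => fy0 (Nat.add 27300 k)) 65 = true := by decide +kernel
theorem y0u420 : ∀ i, i < 27365 → fy0 i = true := below_step fy0 27300 65 27365 y0u419 y0c420 rfl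
theorem y0c421 : allBelow (fun k => fy0 (Nat.add 27365 k)) 65 = true := by decide +kernel
theorem y0u421 : ∀ i, i < 27430 → fy0 i = true := below_step fy0 27365 65 27430 y0u420 y0c421 rfl
theorem y0c422 : allBelow (fun k => fy0 (Nat.add 27430 k)) 65 = true := by decide +kernel
theorem y0u422 : ∀ i, i < 27495 → fy0 i = true := below_step fy0 27430 65 27495 y0u421 y0c422 rfl
theorem y0c423 : allBelow (fun k => fy0 (Nat.add 27495 k)) 65 = true := by decide +kernel
theorem y0u423 : ∀ i, i < 27560 → fy0 i = true := below_step fy0 27495 65 27560 y0u422 y0c423 rfl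
theorem y0c424 : allBelow (fun k => fy0 (Nat.add 27560 k)) 65 = true := by decide +kernel
theorem y0u424 : ∀ i, i < 27625 → fy0 i = true := below_step fy0 27560 65 27625 y0u423 y0c424 rfl
theorem y0c425 : allBelow (fun k => fy0 (Nat.add 27625 k)) 65 = true := by decide +kernel
theorem y0u425 : ∀ i, i < 27690 → fy0 i = true := below_step fy0 27625 65 27690 y0u424 y0c425 rfl
theorem y0c426 : allBelow (fun k => fy0 (Nat.add 27690 k)) 65 = true := by decide +kernel
theorem y0u426 : ∀ i, i < 27755 → fy0 i = true := below_step fy0 27690 65 27755 y0u425 y0c426 rfl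
theorem y0c427 : allBelow (fun k => fy0 (Nat.add 27755 k)) 65 = true := by decide +kernel
theorem y0u427 : ∀ i, i < 27820 → fy0 i = true := below_step fy0 27755 65 27820 y0u426 y0c427 rfl
theorem y0c428 : allBelow (fun k => fy0 (Nat.add 27820 k)) 65 = true := by decide +kernel
theorem y0u428 : ∀ i, i < 27885 → fy0 i = true := below_step fy0 27820 65 27885 y0u427 y0c428 rfl
theorem y0c429 : allBelow (fun k => fy0 (Nat.add 27885 k)) 65 = true := by decide +kernel
theorem y0u429 : ∀ i, i < 27950 → fy0 i = true := below_step fy0 27885 65 27950 y0u428 y0c429 rfl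
theorem y0c430 : allBelow (fun k => fy0 (Nat.add 27950 k)) 65 = true := by decide +kernel
theorem y0u430 : ∀ i, i < 28015 → fy0 i = true := below_step fy0 27950 65 28015 y0u429 y0c430 rfl
theorem y0c431 : allBelow (fun k => fy0 (Nat.add 28015 k)) 65 = true := by decide +kernel
theorem y0u431 : ∀ i, i < 28080 → fy0 i = true := below_step fy0 28015 65 28080 y0u430 y0c431 rfl
theorem y0c432 : allBelow (fun k => fy0 (Nat.add 28080 k)) 65 = true := by decide +kernel
theorem y0u432 : ∀ i, i < 28145 → fy0 i = true := below_step fy0 28080 65 28145 y0u431 y0c432 rfl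
theorem y0c433 : allBelow (fun k => fy0 (Nat.add 28145 k)) 65 = true := by decide +kernel
theorem y0u433 : ∀ i, i < 28210 → fy0 i = true := below_step fy0 28145 65 28210 y0u432 y0c433 rfl
theorem y0c434 : allBelow (fun k => fy0 (Nat.add 28210 k)) 65 = true := by decide +kernel
theorem y0u434 : ∀ i, i < 28275 → fy0 i = true := below_step fy0 28210 65 28275 y0u433 y0c434 rfl
theorem y0c435 : allBelow (fun k => fy0 (Nat.add 28275 k)) 65 = true := by decide +kernel
theorem y0u435 : ∀ i, i < 28340 → fy0 i = true := below_step fy0 28275 65 28340 y0u434 y0c435 rfl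
theorem y0c436 : allBelow (fun k => fy0 (Nat.add 28340 k)) 65 = true := by decide +kernel
theorem y0u436 : ∀ i, i < 28405 → fy0 i = true := below_step fy0 28340 65 28405 y0u435 y0c436 rfl
theorem y0c437 : allBelow (fun k => fy0 (Nat.add 28405 k)) 65 = true := by decide +kernel
theorem y0u437 : ∀ i, i < 28470 → fy0 i = true := below_step fy0 28405 65 28470 y0u436 y0c437 rfl
theorem y0c438 : allBelow (fun k => fy0 (Nat.add 28470 k)) 65 = true := by decide +kernel
theorem y0u438 : ∀ i, i < 28535 → fy0 i = true := below_step fy0 28470 65 28535 y0u437 y0c438 rfl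
theorem y0c439 : allBelow (fun k => fy0 (Nat.add 28535 k)) 65 = true := by decide +kernel
theorem y0u439 : ∀ i, i < 28600 → fy0 i = true := below_step fy0 28535 65 28600 y0u438 y0c439 rfl
theorem y0c440 : allBelow (fun k => fy0 (Nat.add 28600 k)) 65 = true := by decide +kernel
theorem y0u440 : ∀ i, i < 28665 → fy0 i = true := below_step fy0 28600 65 28665 y0u439 y0c440 rfl
theorem y0c441 : allBelow (fun k => fy0 (Nat.add 28665 k)) 65 = true := by decide +kernel
theorem y0u441 : ∀ i, i < 28730 → fy0 i = true := below_step fy0 28665 65 28730 y0u440 y0c441 rfl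

end Cfsg.Agent.Lib.Helper35.Fi23Ord.X0
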