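import Cfsg.Agent.Lib.Helper35.Fi23Ord.X0.Chk9

set_option Elab.async false

namespace Cfsg.Agent.Lib.Helper35.Fi23Ord.X0

open Cfsg.Agent.Lib.Helper35

theorem wc1883 : allBelow (fun k => fw (Nat.add 24479 k)) 13 = true := by decide +kernel
theorem wu1883 : ∀ i, i < 24492 → fw i = true := below_step fw 24479 13 24492 wu1882 wc1883 rfl
theorem wc1884 : allBelow (fun k => fw (Nat.add 24492 k)) 13 = true := by decide +kernel
theorem wu1884 : ∀ i, i < 24505 → fw i = true := below_step fw 24492 13 24505 wu1883 wc1884 rfl
theorem wc1885 : allBelow (fun k => fw (Nat.add 24505 k)) 13 = true := by decide +kernel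
theorem wu1885 : ∀ i, i < 24518 → fw i = true := below_step fw 24505 13 24518 wu1884 wc1885 rfl
theorem wc1886 : allBelow (fun k => fw (Nat.add 24518 k)) 13 = true := by decide +kernel
theorem wu1886 : ∀ i, i < 24531 → fw i = true := below_step fw 24518 13 24531 wu1885 wc1886 rfl
theorem wc1887 : allBelow (fun k => fw (Nat.add 24531 k)) 13 = true := by decide +kernel
theorem wu1887 : ∀ i, i < 24544 → fw i = true := below_step fw 24531 13 24544 wu1886 wc1887 rfl
theorem wc1888 : allBelow (fun k => fw (Nat.add 24544 k)) 13 = true := by decide +kernel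
theorem wu1888 : ∀ i, i < 24557 → fw i = true := below_step fw 24544 13 24557 wu1887 wc1888 rfl
theorem wc1889 : allBelow (fun k => fw (Nat.add 24557 k)) 13 = true := by decide +kernel
theorem wu1889 : ∀ i, i < 24570 → fw i = true := below_step fw 24557 13 24570 wu1888 wc1889 rfl
theorem wc1890 : allBelow (fun k => fw (Nat.add 24570 k)) 13 = true := by decide +kernel
theorem wu1890 : ∀ i, i < 24583 → fw i = true := below_step fw 24570 13 24583 wu1889 wc1890 rfl
theorem wc1891 : allBelow (fun k => fw (Nat.add 24583 k)) 13 = true := by decide +kernel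
theorem wu1891 : ∀ i, i < 24596 → fw i = true := below_step fw 24583 13 24596 wu1890 wc1891 rfl
theorem wc1892 : allBelow (fun k => fw (Nat.add 24596 k)) 13 = true := by decide +kernel
theorem wu1892 : ∀ i, i < 24609 → fw i = true := below_step fw 24596 13 24609 wu1891 wc1892 rfl
theorem wc1893 : allBelow (fun k => fw (Nat.add 24609 k)) 13 = true := by decide +kernel
theorem wu1893 : ∀ i, i < 24622 → fw i = true := below_step fw 24609 13 24622 wu1892 wc1893 rfl
theorem wc1894 : allBelow (fun k => fw (Nat.add 24622 k)) 13 = true := by decide +kernel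
theorem wu1894 : ∀ i, i < 24635 → fw i = true := below_step fw 24622 13 24635 wu1893 wc1894 rfl
theorem wc1895 : allBelow (fun k => fw (Nat.add 24635 k)) 13 = true := by decide +kernel
theorem wu1895 : ∀ i, i < 24648 → fw i = true := below_step fw 24635 13 24648 wu1894 wc1895 rfl
theorem wc1896 : allBelow (fun k => fw (Nat.add 24648 k)) 13 = true := by decide +kernel
theorem wu1896 : ∀ i, i < 24661 → fw i = true := below_step fw 24648 13 24661 wu1895 wc1896 rfl
theorem wc1897 : allBelow (fun k => fw (Nat.add 24661 k)) 13 = true := by decide +kernel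
theorem wu1897 : ∀ i, i < 24674 → fw i = true := below_step fw 24661 13 24674 wu1896 wc1897 rfl
theorem wc1898 : allBelow (fun k => fw (Nat.add 24674 k)) 13 = true := by decide +kernel
theorem wu1898 : ∀ i, i < 24687 → fw i = true := below_step fw 24674 13 24687 wu1897 wc1898 rfl
theorem wc1899 : allBelow (fun k => fw (Nat.add 24687 k)) 13 = true := by decide +kernel
theorem wu1899 : ∀ i, i < 24700 → fw i = true := below_step fw 24687 13 24700 wu1898 wc1899 rfl
theorem wc1900 : allBelow (fun k => fw (Nat.add 24700 k)) 13 = true := by decide +kernel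
theorem wu1900 : ∀ i, i < 24713 → fw i = true := below_step fw 24700 13 24713 wu1899 wc1900 rfl
theorem wc1901 : allBelow (fun k => fw (Nat.add 24713 k)) 13 = true := by decide +kernel
theorem wu1901 : ∀ i, i < 24726 → fw i = true := below_step fw 24713 13 24726 wu1900 wc1901 rfl
theorem wc1902 : allBelow (fun k => fw (Nat.add 24726 k)) 13 = true := by decide +kernel
theorem wu1902 : ∀ i, i < 24739 → fw i = true := below_step fw 24726 13 24739 wu1901 wc1902 rfl
theorem wc1903 : allBelow (fun k => fw (Nat.add 24739 k)) 13 = true := by decide +kernel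
theorem wu1903 : ∀ i, i < 24752 → fw i = true := below_step fw 24739 13 24752 wu1902 wc1903 rfl
theorem wc1904 : allBelow (fun k => fw (Nat.add 24752 k)) 13 = true := by decide +kernel
theorem wu1904 : ∀ i, i < 24765 → fw i = true := below_step fw 24752 13 24765 wu1903 wc1904 rfl
theorem wc1905 : allBelow (fun k => fw (Nat.add 24765 k)) 13 = true := by decide +kernel
theorem wu1905 : ∀ i, i < 24778 → fw i = true := below_step fw 24765 13 24778 wu1904 wc1905 rfl
theorem wc1906 : allBelow (fun k => fw (Nat.add 24778 k)) 13 = true := by decide +kernel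
theorem wu1906 : ∀ i, i < 24791 → fw i = true := below_step fw 24778 13 24791 wu1905 wc1906 rfl
theorem wc1907 : allBelow (fun k => fw (Nat.add 24791 k)) 13 = true := by decide +kernel
theorem wu1907 : ∀ i, i < 24804 → fw i = true := below_step fw 24791 13 24804 wu1906 wc1907 rfl
theorem wc1908 : allBelow (fun k => fw (Nat.add 24804 k)) 13 = true := by decide +kernel
theorem wu1908 : ∀ i, i < 24817 → fw i = true := below_step fw 24804 13 24817 wu1907 wc1908 rfl
theorem wc1909 : allBelow (fun k => fw (Nat.add 24817 k)) 13 = true := by decide +kernel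
theorem wu1909 : ∀ i, i < 24830 → fw i = true := below_step fw 24817 13 24830 wu1908 wc1909 rfl
theorem wc1910 : allBelow (fun k => fw (Nat.add 24830 k)) 13 = true := by decide +kernel
theorem wu1910 : ∀ i, i < 24843 → fw i = true := below_step fw 24830 13 24843 wu1909 wc1910 rfl
theorem wc1911 : allBelow (fun k => fw (Nat.add 24843 k)) 13 = true := by decide +kernel
theorem wu1911 : ∀ i, i < 24856 → fw i = true := below_step fw 24843 13 24856 wu1910 wc1911 rfl
theorem wc1912 : allBelow (fun k => fw (Nat.add 24856 k)) 13 = true := by decide +kernel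
theorem wu1912 : ∀ i, i < 24869 → fw i = true := below_step fw 24856 13 24869 wu1911 wc1912 rfl
theorem wc1913 : allBelow (fun k => fw (Nat.add 24869 k)) 13 = true := by decide +kernel
theorem wu1913 : ∀ i, i < 24882 → fw i = true := below_step fw 24869 13 24882 wu1912 wc1913 rfl
theorem wc1914 : allBelow (fun k => fw (Nat.add 24882 k)) 13 = true := by decide +kernel
theorem wu1914 : ∀ i, i < 24895 → fw i = true := below_step fw 24882 13 24895 wu1913 wc1914 rfl
theorem wc1915 : allBelow (fun k => fw (Nat.add 24895 k)) 13 = true := by decide +kernel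
theorem wu1915 : ∀ i, i < 24908 → fw i = true := below_step fw 24895 13 24908 wu1914 wc1915 rfl
theorem wc1916 : allBelow (fun k => fw (Nat.add 24908 k)) 13 = true := by decide +kernel
theorem wu1916 : ∀ i, i < 24921 → fw i = true := below_step fw 24908 13 24921 wu1915 wc1916 rfl
theorem wc1917 : allBelow (fun k => fw (Nat.add 24921 k)) 13 = true := by decide +kernel
theorem wu1917 : ∀ i, i < 24934 → fw i = true := below_step fw 24921 13 24934 wu1916 wc1917 rfl
theorem wc1918 : allBelow (fun k => fw (Nat.add 24934 k)) 13 = true := by decide +kernel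
theorem wu1918 : ∀ i, i < 24947 → fw i = true := below_step fw 24934 13 24947 wu1917 wc1918 rfl
theorem wc1919 : allBelow (fun k => fw (Nat.add 24947 k)) 13 = true := by decide +kernel
theorem wu1919 : ∀ i, i < 24960 → fw i = true := below_step fw 24947 13 24960 wu1918 wc1919 rfl
theorem wc1920 : allBelow (fun k => fw (Nat.add 24960 k)) 13 = true := by decide +kernel
theorem wu1920 : ∀ i, i < 24973 → fw i = true := below_step fw 24960 13 24973 wu1919 wc1920 rfl
theorem wc1921 : allBelow (fun k => fw (Nat.add 24973 k)) 13 = true := by decide +kernel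
theorem wu1921 : ∀ i, i < 24986 → fw i = true := below_step fw 24973 13 24986 wu1920 wc1921 rfl
theorem wc1922 : allBelow (fun k => fw (Nat.add 24986 k)) 13 = true := by decide +kernel
theorem wu1922 : ∀ i, i < 24999 → fw i = true := below_step fw 24986 13 24999 wu1921 wc1922 rfl
theorem wc1923 : allBelow (fun k => fw (Nat.add 24999 k)) 13 = true := by decide +kernel
theorem wu1923 : ∀ i, i < 25012 → fw i = true := below_step fw 24999 13 25012 wu1922 wc1923 rfl
theorem wc1924 : allBelow (fun k => fw (Nat.add 25012 k)) 13 = true := by decide +kernel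
theorem wu1924 : ∀ i, i < 25025 → fw i = true := below_step fw 25012 13 25025 wu1923 wc1924 rfl
theorem wc1925 : allBelow (fun k => fw (Nat.add 25025 k)) 13 = true := by decide +kernel
theorem wu1925 : ∀ i, i < 25038 → fw i = true := below_step fw 25025 13 25038 wu1924 wc1925 rfl
theorem wc1926 : allBelow (fun k => fw (Nat.add 25038 k)) 13 = true := by decide +kernel
theorem wu1926 : ∀ i, i < 25051 → fw i = true := below_step fw 25038 13 25051 wu1925 wc1926 rfl
theorem wc1927 : allBelow (fun k => fw (Nat.add 25051 k)) 13 = true := by decide +kernel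
theorem wu1927 : ∀ i, i < 25064 → fw i = true := below_step fw 25051 13 25064 wu1926 wc1927 rfl
theorem wc1928 : allBelow (fun k => fw (Nat.add 25064 k)) 13 = true := by decide +kernel
theorem wu1928 : ∀ i, i < 25077 → fw i = true := below_step fw 25064 13 25077 wu1927 wc1928 rfl
theorem wc1929 : allBelow (fun k => fw (Nat.add 25077 k)) 13 = true := by decide +kernel
theorem wu1929 : ∀ i, i < 25090 → fw i = true := below_step fw 25077 13 25090 wu1928 wc1929 rfl
theorem wc1930 : allBelow (fun k => fw (Nat.add 25090 k)) 13 = true := by decide +kernel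
theorem wu1930 : ∀ i, i < 25103 → fw i = true := below_step fw 25090 13 25103 wu1929 wc1930 rfl
theorem wc1931 : allBelow (fun k => fw (Nat.add 25103 k)) 13 = true := by decide +kernel
theorem wu1931 : ∀ i, i < 25116 → fw i = true := below_step fw 25103 13 25116 wu1930 wc1931 rfl
theorem wc1932 : allBelow (fun k => fw (Nat.add 25116 k)) 13 = true := by decide +kernel
theorem wu1932 : ∀ i, i < 25129 → fw i = true := below_step fw 25116 13 25129 wu1931 wc1932 rfl
theorem wc1933 : allBelow (fun k => fw (Nat.add 25129 k)) 13 = true := by decide +kernel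
theorem wu1933 : ∀ i, i < 25142 → fw i = true := below_step fw 25129 13 25142 wu1932 wc1933 rfl
theorem wc1934 : allBelow (fun k => fw (Nat.add 25142 k)) 13 = true := by decide +kernel
theorem wu1934 : ∀ i, i < 25155 → fw i = true := below_step fw 25142 13 25155 wu1933 wc1934 rfl
theorem wc1935 : allBelow (fun k => fw (Nat.add 25155 k)) 13 = true := by decide +kernel
theorem wu1935 : ∀ i, i < 25168 → fw i = true := below_step fw 25155 13 25168 wu1934 wc1935 rfl
theorem wc1936 : allBelow (fun k => fw (Nat.add 25168 k)) 13 = true := by decide +kernel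
theorem wu1936 : ∀ i, i < 25181 → fw i = true := below_step fw 25168 13 25181 wu1935 wc1936 rfl
theorem wc1937 : allBelow (fun k => fw (Nat.add 25181 k)) 13 = true := by decide +kernel
theorem wu1937 : ∀ i, i < 25194 → fw i = true := below_step fw 25181 13 25194 wu1936 wc1937 rfl
theorem wc1938 : allBelow (fun k => fw (Nat.add 25194 k)) 13 = true := by decide +kernel
theorem wu1938 : ∀ i, i < 25207 → fw i = true := below_step fw 25194 13 25207 wu1937 wc1938 rfl
theorem wc1939 : allBelow (fun k => fw (Nat.add 25207 k)) 13 = true := by decide +kernel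
theorem wu1939 : ∀ i, i < 25220 → fw i = true := below_step fw 25207 13 25220 wu1938 wc1939 rfl
theorem wc1940 : allBelow (fun k => fw (Nat.add 25220 k)) 13 = true := by decide +kernel
theorem wu1940 : ∀ i, i < 25233 → fw i = true := below_step fw 25220 13 25233 wu1939 wc1940 rfl
theorem wc1941 : allBelow (fun k => fw (Nat.add 25233 k)) 13 = true := by decide +kernel
theorem wu1941 : ∀ i, i < 25246 → fw i = true := below_step fw 25233 13 25246 wu1940 wc1941 rfl
theorem wc1942 : allBelow (fun k => fw (Nat.add 25246 k)) 13 = true := by decide +kernel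
theorem wu1942 : ∀ i, i < 25259 → fw i = true := below_step fw 25246 13 25259 wu1941 wc1942 rfl
theorem wc1943 : allBelow (fun k => fw (Nat.add 25259 k)) 13 = true := by decide +kernel
theorem wu1943 : ∀ i, i < 25272 → fw i = true := below_step fw 25259 13 25272 wu1942 wc1943 rfl
theorem wc1944 : allBelow (fun k => fw (Nat.add 25272 k)) 13 = true := by decide +kernel
theorem wu1944 : ∀ i, i < 25285 → fw i = true := below_step fw 25272 13 25285 wu1943 wc1944 rfl
theorem wc1945 : allBelow (fun k => fw (Nat.add 25285 k)) 13 = true := by decide +kernel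
theorem wu1945 : ∀ i, i < 25298 → fw i = true := below_step fw 25285 13 25298 wu1944 wc1945 rfl
theorem wc1946 : allBelow (fun k => fw (Nat.add 25298 k)) 13 = true := by decide +kernel
theorem wu1946 : ∀ i, i < 25311 → fw i = true := below_step fw 25298 13 25311 wu1945 wc1946 rfl
theorem wc1947 : allBelow (fun k => fw (Nat.add 25311 k)) 13 = true := by decide +kernel
theorem wu1947 : ∀ i, i < 25324 → fw i = true := below_step fw 25311 13 25324 wu1946 wc1947 rfl
theorem wc1948 : allBelow (fun k => fw (Nat.add 25324 k)) 13 = true := by decide +kernel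
theorem wu1948 : ∀ i, i < 25337 → fw i = true := below_step fw 25324 13 25337 wu1947 wc1948 rfl
theorem wc1949 : allBelow (fun k => fw (Nat.add 25337 k)) 13 = true := by decide +kernel
theorem wu1949 : ∀ i, i < 25350 → fw i = true := below_step fw 25337 13 25350 wu1948 wc1949 rfl
theorem wc1950 : allBelow (fun k => fw (Nat.add 25350 k)) 13 = true := by decide +kernel
theorem wu1950 : ∀ i, i < 25363 → fw i = true := below_step fw 25350 13 25363 wu1949 wc1950 rfl
theorem wc1951 : allBelow (fun k => fw (Nat.add 25363 k)) 13 = true := by decide +kernel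
theorem wu1951 : ∀ i, i < 25376 → fw i = true := below_step fw 25363 13 25376 wu1950 wc1951 rfl
theorem wc1952 : allBelow (fun k => fw (Nat.add 25376 k)) 13 = true := by decide +kernel
theorem wu1952 : ∀ i, i < 25389 → fw i = true := below_step fw 25376 13 25389 wu1951 wc1952 rfl
theorem wc1953 : allBelow (fun k => fw (Nat.add 25389 k)) 13 = true := by decide +kernel
theorem wu1953 : ∀ i, i < 25402 → fw i = true := below_step fw 25389 13 25402 wu1952 wc1953 rfl
theorem wc1954 : allBelow (fun k => fw (Nat.add 25402 k)) 13 = true := by decide +kernel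
theorem wu1954 : ∀ i, i < 25415 → fw i = true := below_step fw 25402 13 25415 wu1953 wc1954 rfl
theorem wc1955 : allBelow (fun k => fw (Nat.add 25415 k)) 13 = true := by decide +kernel
theorem wu1955 : ∀ i, i < 25428 → fw i = true := below_step fw 25415 13 25428 wu1954 wc1955 rfl
theorem wc1956 : allBelow (fun k => fw (Nat.add 25428 k)) 13 = true := by decide +kernel
theorem wu1956 : ∀ i, i < 25441 → fw i = true := below_step fw 25428 13 25441 wu1955 wc1956 rfl
theorem wc1957 : allBelow (fun k => fw (Nat.add 25441 k)) 13 = true := by decide +kernel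
theorem wu1957 : ∀ i, i < 25454 → fw i = true := below_step fw 25441 13 25454 wu1956 wc1957 rfl
theorem wc1958 : allBelow (fun k => fw (Nat.add 25454 k)) 13 = true := by decide +kernel
theorem wu1958 : ∀ i, i < 25467 → fw i = true := below_step fw 25454 13 25467 wu1957 wc1958 rfl
theorem wc1959 : allBelow (fun k => fw (Nat.add 25467 k)) 13 = true := by decide +kernel
theorem wu1959 : ∀ i, i < 25480 → fw i = true := below_step fw 25467 13 25480 wu1958 wc1959 rfl
theorem wc1960 : allBelow (fun k => fw (Nat.add 25480 k)) 13 = true := by decide +kernel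
theorem wu1960 : ∀ i, i < 25493 → fw i = true := below_step fw 25480 13 25493 wu1959 wc1960 rfl
theorem wc1961 : allBelow (fun k => fw (Nat.add 25493 k)) 13 = true := by decide +kernel
theorem wu1961 : ∀ i, i < 25506 → fw i = true := below_step fw 25493 13 25506 wu1960 wc1961 rfl
theorem wc1962 : allBelow (fun k => fw (Nat.add 25506 k)) 13 = true := by decide +kernel
theorem wu1962 : ∀ i, i < 25519 → fw i = true := below_step fw 25506 13 25519 wu1961 wc1962 rfl
theorem wc1963 : allBelow (fun k => fw (Nat.add 25519 k)) 13 = true := by decide +kernel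
theorem wu1963 : ∀ i, i < 25532 → fw i = true := below_step fw 25519 13 25532 wu1962 wc1963 rfl
theorem wc1964 : allBelow (fun k => fw (Nat.add 25532 k)) 13 = true := by decide +kernel
theorem wu1964 : ∀ i, i < 25545 → fw i = true := below_step fw 25532 13 25545 wu1963 wc1964 rfl
theorem wc1965 : allBelow (fun k => fw (Nat.add 25545 k)) 13 = true := by decide +kernel
theorem wu1965 : ∀ i, i < 25558 → fw i = true := below_step fw 25545 13 25558 wu1964 wc1965 rfl
theorem wc1966 : allBelow (fun k => fw (Nat.add 25558 k)) 13 = true := by decide +kernel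
theorem wu1966 : ∀ i, i < 25571 → fw i = true := below_step fw 25558 13 25571 wu1965 wc1966 rfl
theorem wc1967 : allBelow (fun k => fw (Nat.add 25571 k)) 13 = true := by decide +kernel
theorem wu1967 : ∀ i, i < 25584 → fw i = true := below_step fw 25571 13 25584 wu1966 wc1967 rfl
theorem wc1968 : allBelow (fun k => fw (Nat.add 25584 k)) 13 = true := by decide +kernel
theorem wu1968 : ∀ i, i < 25597 → fw i = true := below_step fw 25584 13 25597 wu1967 wc1968 rfl
theorem wc1969 : allBelow (fun k => fw (Nat.add 25597 k)) 13 = true := by decide +kernel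
theorem wu1969 : ∀ i, i < 25610 → fw i = true := below_step fw 25597 13 25610 wu1968 wc1969 rfl
theorem wc1970 : allBelow (fun k => fw (Nat.add 25610 k)) 13 = true := by decide +kernel
theorem wu1970 : ∀ i, i < 25623 → fw i = true := below_step fw 25610 13 25623 wu1969 wc1970 rfl
theorem wc1971 : allBelow (fun k => fw (Nat.add 25623 k)) 13 = true := by decide +kernel
theorem wu1971 : ∀ i, i < 25636 → fw i = true := below_step fw 25623 13 25636 wu1970 wc1971 rfl
theorem wc1972 : allBelow (fun k => fw (Nat.add 25636 k)) 13 = true := by decide +kernel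
theorem wu1972 : ∀ i, i < 25649 → fw i = true := below_step fw 25636 13 25649 wu1971 wc1972 rfl
theorem wc1973 : allBelow (fun k => fw (Nat.add 25649 k)) 13 = true := by decide +kernel
theorem wu1973 : ∀ i, i < 25662 → fw i = true := below_step fw 25649 13 25662 wu1972 wc1973 rfl
theorem wc1974 : allBelow (fun k => fw (Nat.add 25662 k)) 13 = true := by decide +kernel
theorem wu1974 : ∀ i, i < 25675 → fw i = true := below_step fw 25662 13 25675 wu1973 wc1974 rfl
theorem wc1975 : allBelow (fun k => fw (Nat.add 25675 k)) 13 = true := by decide +kernel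
theorem wu1975 : ∀ i, i < 25688 → fw i = true := below_step fw 25675 13 25688 wu1974 wc1975 rfl
theorem wc1976 : allBelow (fun k => fw (Nat.add 25688 k)) 13 = true := by decide +kernel
theorem wu1976 : ∀ i, i < 25701 → fw i = true := below_step fw 25688 13 25701 wu1975 wc1976 rfl
theorem wc1977 : allBelow (fun k => fw (Nat.add 25701 k)) 13 = true := by decide +kernel
theorem wu1977 : ∀ i, i < 25714 → fw i = true := below_step fw 25701 13 25714 wu1976 wc1977 rfl
theorem wc1978 : allBelow (fun k => fw (Nat.add 25714 k)) 13 = true := by decide +kernel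
theorem wu1978 : ∀ i, i < 25727 → fw i = true := below_step fw 25714 13 25727 wu1977 wc1978 rfl
theorem wc1979 : allBelow (fun k => fw (Nat.add 25727 k)) 13 = true := by decide +kernel
theorem wu1979 : ∀ i, i < 25740 → fw i = true := below_step fw 25727 13 25740 wu1978 wc1979 rfl
theorem wc1980 : allBelow (fun k => fw (Nat.add 25740 k)) 13 = true := by decide +kernel
theorem wu1980 : ∀ i, i < 25753 → fw i = true := below_step fw 25740 13 25753 wu1979 wc1980 rfl
theorem wc1981 : allBelow (fun k => fw (Nat.add 25753 k)) 13 = true := by decide +kernel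
theorem wu1981 : ∀ i, i < 25766 → fw i = true := below_step fw 25753 13 25766 wu1980 wc1981 rfl
theorem wc1982 : allBelow (fun k => fw (Nat.add 25766 k)) 13 = true := by decide +kernel
theorem wu1982 : ∀ i, i < 25779 → fw i = true := below_step fw 25766 13 25779 wu1981 wc1982 rfl
theorem wc1983 : allBelow (fun k => fw (Nat.add 25779 k)) 13 = true := by decide +kernel
theorem wu1983 : ∀ i, i < 25792 → fw i = true := below_step fw 25779 13 25792 wu1982 wc1983 rfl
theorem wc1984 : allBelow (fun k => fw (Nat.add 25792 k)) 13 = true := by decide +kernel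
theorem wu1984 : ∀ i, i < 25805 → fw i = true := below_step fw 25792 13 25805 wu1983 wc1984 rfl
theorem wc1985 : allBelow (fun k => fw (Nat.add 25805 k)) 13 = true := by decide +kernel
theorem wu1985 : ∀ i, i < 25818 → fw i = true := below_step fw 25805 13 25818 wu1984 wc1985 rfl
theorem wc1986 : allBelow (fun k => fw (Nat.add 25818 k)) 13 = true := by decide +kernel
theorem wu1986 : ∀ i, i < 25831 → fw i = true := below_step fw 25818 13 25831 wu1985 wc1986 rfl
theorem wc1987 : allBelow (fun k => fw (Nat.add 25831 k)) 13 = true := by decide +kernel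
theorem wu1987 : ∀ i, i < 25844 → fw i = true := below_step fw 25831 13 25844 wu1986 wc1987 rfl
theorem wc1988 : allBelow (fun k => fw (Nat.add 25844 k)) 13 = true := by decide +kernel
theorem wu1988 : ∀ i, i < 25857 → fw i = true := below_step fw 25844 13 25857 wu1987 wc1988 rfl
theorem wc1989 : allBelow (fun k => fw (Nat.add 25857 k)) 13 = true := by decide +kernel
theorem wu1989 : ∀ i, i < 25870 → fw i = true := below_step fw 25857 13 25870 wu1988 wc1989 rfl
theorem wc1990 : allBelow (fun k => fw (Nat.add 25870 k)) 13 = true := by decide +kernel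
theorem wu1990 : ∀ i, i < 25883 → fw i = true := below_step fw 25870 13 25883 wu1989 wc1990 rfl
theorem wc1991 : allBelow (fun k => fw (Nat.add 25883 k)) 13 = true := by decide +kernel
theorem wu1991 : ∀ i, i < 25896 → fw i = true := below_step fw 25883 13 25896 wu1990 wc1991 rfl
theorem wc1992 : allBelow (fun k => fw (Nat.add 25896 k)) 13 = true := by decide +kernel
theorem wu1992 : ∀ i, i < 25909 → fw i = true := below_step fw 25896 13 25909 wu1991 wc1992 rfl
theorem wc1993 : allBelow (fun k => fw (Nat.add 25909 k)) 13 = true := by decide +kernel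
theorem wu1993 : ∀ i, i < 25922 → fw i = true := below_step fw 25909 13 25922 wu1992 wc1993 rfl
theorem wc1994 : allBelow (fun k => fw (Nat.add 25922 k)) 13 = true := by decide +kernel
theorem wu1994 : ∀ i, i < 25935 → fw i = true := below_step fw 25922 13 25935 wu1993 wc1994 rfl
theorem wc1995 : allBelow (fun k => fw (Nat.add 25935 k)) 13 = true := by decide +kernel
theorem wu1995 : ∀ i, i < 25948 → fw i = true := below_step fw 25935 13 25948 wu1994 wc1995 rfl
theorem wc1996 : allBelow (fun k => fw (Nat.add 25948 k)) 13 = true := by decide +kernel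
theorem wu1996 : ∀ i, i < 25961 → fw i = true := below_step fw 25948 13 25961 wu1995 wc1996 rfl
theorem wc1997 : allBelow (fun k => fw (Nat.add 25961 k)) 13 = true := by decide +kernel
theorem wu1997 : ∀ i, i < 25974 → fw i = true := below_step fw 25961 13 25974 wu1996 wc1997 rfl
theorem wc1998 : allBelow (fun k => fw (Nat.add 25974 k)) 13 = true := by decide +kernel
theorem wu1998 : ∀ i, i < 25987 → fw i = true := below_step fw 25974 13 25987 wu1997 wc1998 rfl
theorem wc1999 : allBelow (fun k => fw (Nat.add 25987 k)) 13 = true := by decide +kernel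
theorem wu1999 : ∀ i, i < 26000 → fw i = true := below_step fw 25987 13 26000 wu1998 wc1999 rfl
theorem wc2000 : allBelow (fun k => fw (Nat.add 26000 k)) 13 = true := by decide +kernel
theorem wu2000 : ∀ i, i < 26013 → fw i = true := below_step fw 26000 13 26013 wu1999 wc2000 rfl
theorem wc2001 : allBelow (fun k => fw (Nat.add 26013 k)) 13 = true := by decide +kernel
theorem wu2001 : ∀ i, i < 26026 → fw i = true := below_step fw 26013 13 26026 wu2000 wc2001 rfl
theorem wc2002 : allBelow (fun k => fw (Nat.add 26026 k)) 13 = true := by decide +kernel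
theorem wu2002 : ∀ i, i < 26039 → fw i = true := below_step fw 26026 13 26039 wu2001 wc2002 rfl
theorem wc2003 : allBelow (fun k => fw (Nat.add 26039 k)) 13 = true := by decide +kernel
theorem wu2003 : ∀ i, i < 26052 → fw i = true := below_step fw 26039 13 26052 wu2002 wc2003 rfl
theorem wc2004 : allBelow (fun k => fw (Nat.add 26052 k)) 13 = true := by decide +kernel
theorem wu2004 : ∀ i, i < 26065 → fw i = true := below_step fw 26052 13 26065 wu2003 wc2004 rfl
theorem wc2005 : allBelow (fun k => fw (Nat.add 26065 k)) 13 = true := by decide +kernel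
theorem wu2005 : ∀ i, i < 26078 → fw i = true := below_step fw 26065 13 26078 wu2004 wc2005 rfl
theorem wc2006 : allBelow (fun k => fw (Nat.add 26078 k)) 13 = true := by decide +kernel
theorem wu2006 : ∀ i, i < 26091 → fw i = true := below_step fw 26078 13 26091 wu2005 wc2006 rfl
theorem wc2007 : allBelow (fun k => fw (Nat.add 26091 k)) 13 = true := by decide +kernel
theorem wu2007 : ∀ i, i < 26104 → fw i = true := below_step fw 26091 13 26104 wu2006 wc2007 rfl
theorem wc2008 : allBelow (fun k => fw (Nat.add 26104 k)) 13 = true := by decide +kernel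
theorem wu2008 : ∀ i, i < 26117 → fw i = true := below_step fw 26104 13 26117 wu2007 wc2008 rfl
theorem wc2009 : allBelow (fun k => fw (Nat.add 26117 k)) 13 = true := by decide +kernel
theorem wu2009 : ∀ i, i < 26130 → fw i = true := below_step fw 26117 13 26130 wu2008 wc2009 rfl
theorem wc2010 : allBelow (fun k => fw (Nat.add 26130 k)) 13 = true := by decide +kernel
theorem wu2010 : ∀ i, i < 26143 → fw i = true := below_step fw 26130 13 26143 wu2009 wc2010 rfl
theorem wc2011 : allBelow (fun k => fw (Nat.add 26143 k)) 13 = true := by decide +kernel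
theorem wu2011 : ∀ i, i < 26156 → fw i = true := below_step fw 26143 13 26156 wu2010 wc2011 rfl
theorem wc2012 : allBelow (fun k => fw (Nat.add 26156 k)) 13 = true := by decide +kernel
theorem wu2012 : ∀ i, i < 26169 → fw i = true := below_step fw 26156 13 26169 wu2011 wc2012 rfl
theorem wc2013 : allBelow (fun k => fw (Nat.add 26169 k)) 13 = true := by decide +kernel
theorem wu2013 : ∀ i, i < 26182 → fw i = true := below_step fw 26169 13 26182 wu2012 wc2013 rfl
theorem wc2014 : allBelow (fun k => fw (Nat.add 26182 k)) 13 = true := by decide +kernel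
theorem wu2014 : ∀ i, i < 26195 → fw i = true := below_step fw 26182 13 26195 wu2013 wc2014 rfl
theorem wc2015 : allBelow (fun k => fw (Nat.add 26195 k)) 13 = true := by decide +kernel
theorem wu2015 : ∀ i, i < 26208 → fw i = true := below_step fw 26195 13 26208 wu2014 wc2015 rfl
theorem wc2016 : allBelow (fun k => fw (Nat.add 26208 k)) 13 = true := by decide +kernel
theorem wu2016 : ∀ i, i < 26221 → fw i = true := below_step fw 26208 13 26221 wu2015 wc2016 rfl
theorem wc2017 : allBelow (fun k => fw (Nat.add 26221 k)) 13 = true := by decide +kernel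
theorem wu2017 : ∀ i, i < 26234 → fw i = true := below_step fw 26221 13 26234 wu2016 wc2017 rfl
theorem wc2018 : allBelow (fun k => fw (Nat.add 26234 k)) 13 = true := by decide +kernel
theorem wu2018 : ∀ i, i < 26247 → fw i = true := below_step fw 26234 13 26247 wu2017 wc2018 rfl
theorem wc2019 : allBelow (fun k => fw (Nat.add 26247 k)) 13 = true := by decide +kernel
theorem wu2019 : ∀ i, i < 26260 → fw i = true := below_step fw 26247 13 26260 wu2018 wc2019 rfl
theorem wc2020 : allBelow (fun k => fw (Nat.add 26260 k)) 13 = true := by decide +kernel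
theorem wu2020 : ∀ i, i < 26273 → fw i = true := below_step fw 26260 13 26273 wu2019 wc2020 rfl
theorem wc2021 : allBelow (fun k => fw (Nat.add 26273 k)) 13 = true := by decide +kernel
theorem wu2021 : ∀ i, i < 26286 → fw i = true := below_step fw 26273 13 26286 wu2020 wc2021 rfl
theorem wc2022 : allBelow (fun k => fw (Nat.add 26286 k)) 13 = true := by decide +kernel
theorem wu2022 : ∀ i, i < 26299 → fw i = true := below_step fw 26286 13 26299 wu2021 wc2022 rfl
theorem wc2023 : allBelow (fun k => fw (Nat.add 26299 k)) 13 = true := by decide +kernel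
theorem wu2023 : ∀ i, i < 26312 → fw i = true := below_step fw 26299 13 26312 wu2022 wc2023 rfl
theorem wc2024 : allBelow (fun k => fw (Nat.add 26312 k)) 13 = true := by decide +kernel
theorem wu2024 : ∀ i, i < 26325 → fw i = true := below_step fw 26312 13 26325 wu2023 wc2024 rfl
theorem wc2025 : allBelow (fun k => fw (Nat.add 26325 k)) 13 = true := by decide +kernel
theorem wu2025 : ∀ i, i < 26338 → fw i = true := below_step fw 26325 13 26338 wu2024 wc2025 rfl
theorem wc2026 : allBelow (fun k => fw (Nat.add 26338 k)) 13 = true := by decide +kernel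
theorem wu2026 : ∀ i, i < 26351 → fw i = true := below_step fw 26338 13 26351 wu2025 wc2026 rfl
theorem wc2027 : allBelow (fun k => fw (Nat.add 26351 k)) 13 = true := by decide +kernel
theorem wu2027 : ∀ i, i < 26364 → fw i = true := below_step fw 26351 13 26364 wu2026 wc2027 rfl
theorem wc2028 : allBelow (fun k => fw (Nat.add 26364 k)) 13 = true := by decide +kernel
theorem wu2028 : ∀ i, i < 26377 → fw i = true := below_step fw 26364 13 26377 wu2027 wc2028 rfl
theorem wc2029 : allBelow (fun k => fw (Nat.add 26377 k)) 13 = true := by decide +kernel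
theorem wu2029 : ∀ i, i < 26390 → fw i = true := below_step fw 26377 13 26390 wu2028 wc2029 rfl
theorem wc2030 : allBelow (fun k => fw (Nat.add 26390 k)) 13 = true := by decide +kernel
theorem wu2030 : ∀ i, i < 26403 → fw i = true := below_step fw 26390 13 26403 wu2029 wc2030 rfl
theorem wc2031 : allBelow (fun k => fw (Nat.add 26403 k)) 13 = true := by decide +kernel
theorem wu2031 : ∀ i, i < 26416 → fw i = true := below_step fw 26403 13 26416 wu2030 wc2031 rfl
theorem wc2032 : allBelow (fun k => fw (Nat.add 26416 k)) 13 = true := by decide +kernel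
theorem wu2032 : ∀ i, i < 26429 → fw i = true := below_step fw 26416 13 26429 wu2031 wc2032 rfl
theorem wc2033 : allBelow (fun k => fw (Nat.add 26429 k)) 13 = true := by decide +kernel
theorem wu2033 : ∀ i, i < 26442 → fw i = true := below_step fw 26429 13 26442 wu2032 wc2033 rfl
theorem wc2034 : allBelow (fun k => fw (Nat.add 26442 k)) 13 = true := by decide +kernel
theorem wu2034 : ∀ i, i < 26455 → fw i = true := below_step fw 26442 13 26455 wu2033 wc2034 rfl
theorem wc2035 : allBelow (fun k => fw (Nat.add 26455 k)) 13 = true := by decide +kernel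
theorem wu2035 : ∀ i, i < 26468 → fw i = true := below_step fw 26455 13 26468 wu2034 wc2035 rfl
theorem wc2036 : allBelow (fun k => fw (Nat.add 26468 k)) 13 = true := by decide +kernel
theorem wu2036 : ∀ i, i < 26481 → fw i = true := below_step fw 26468 13 26481 wu2035 wc2036 rfl
theorem wc2037 : allBelow (fun k => fw (Nat.add 26481 k)) 13 = true := by decide +kernel
theorem wu2037 : ∀ i, i < 26494 → fw i = true := below_step fw 26481 13 26494 wu2036 wc2037 rfl
theorem wc2038 : allBelow (fun k => fw (Nat.add 26494 k)) 13 = true := by decide +kernel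
theorem wu2038 : ∀ i, i < 26507 → fw i = true := below_step fw 26494 13 26507 wu2037 wc2038 rfl
theorem wc2039 : allBelow (fun k => fw (Nat.add 26507 k)) 13 = true := by decide +kernel
theorem wu2039 : ∀ i, i < 26520 → fw i = true := below_step fw 26507 13 26520 wu2038 wc2039 rfl
theorem wc2040 : allBelow (fun k => fw (Nat.add 26520 k)) 13 = true := by decide +kernel
theorem wu2040 : ∀ i, i < 26533 → fw i = true := below_step fw 26520 13 26533 wu2039 wc2040 rfl
theorem wc2041 : allBelow (fun k => fw (Nat.add 26533 k)) 13 = true := by decide +kernel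
theorem wu2041 : ∀ i, i < 26546 → fw i = true := below_step fw 26533 13 26546 wu2040 wc2041 rfl
theorem wc2042 : allBelow (fun k => fw (Nat.add 26546 k)) 13 = true := by decide +kernel
theorem wu2042 : ∀ i, i < 26559 → fw i = true := below_step fw 26546 13 26559 wu2041 wc2042 rfl
theorem wc2043 : allBelow (fun k => fw (Nat.add 26559 k)) 13 = true := by decide +kernel
theorem wu2043 : ∀ i, i < 26572 → fw i = true := below_step fw 26559 13 26572 wu2042 wc2043 rfl
theorem wc2044 : allBelow (fun k => fw (Nat.add 26572 k)) 13 = true := by decide +kernel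
theorem wu2044 : ∀ i, i < 26585 → fw i = true := below_step fw 26572 13 26585 wu2043 wc2044 rfl
theorem wc2045 : allBelow (fun k => fw (Nat.add 26585 k)) 13 = true := by decide +kernel
theorem wu2045 : ∀ i, i < 26598 → fw i = true := below_step fw 26585 13 26598 wu2044 wc2045 rfl
theorem wc2046 : allBelow (fun k => fw (Nat.add 26598 k)) 13 = true := by decide +kernel
theorem wu2046 : ∀ i, i < 26611 → fw i = true := below_step fw 26598 13 26611 wu2045 wc2046 rfl
theorem wc2047 : allBelow (fun k => fw (Nat.add 26611 k)) 13 = true := by decide +kernel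
theorem wu2047 : ∀ i, i < 26624 → fw i = true := below_step fw 26611 13 26624 wu2046 wc2047 rfl
theorem wc2048 : allBelow (fun k => fw (Nat.add 26624 k)) 13 = true := by decide +kernel
theorem wu2048 : ∀ i, i < 26637 → fw i = true := below_step fw 26624 13 26637 wu2047 wc2048 rfl
theorem wc2049 : allBelow (fun k => fw (Nat.add 26637 k)) 13 = true := by decide +kernel
theorem wu2049 : ∀ i, i < 26650 → fw i = true := below_step fw 26637 13 26650 wu2048 wc2049 rfl
theorem wc2050 : allBelow (fun k => fw (Nat.add 26650 k)) 13 = true := by decide +kernel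
theorem wu2050 : ∀ i, i < 26663 → fw i = true := below_step fw 26650 13 26663 wu2049 wc2050 rfl
theorem wc2051 : allBelow (fun k => fw (Nat.add 26663 k)) 13 = true := by decide +kernel
theorem wu2051 : ∀ i, i < 26676 → fw i = true := below_step fw 26663 13 26676 wu2050 wc2051 rfl
theorem wc2052 : allBelow (fun k => fw (Nat.add 26676 k)) 13 = true := by decide +kernel
theorem wu2052 : ∀ i, i < 26689 → fw i = true := below_step fw 26676 13 26689 wu2051 wc2052 rfl
theorem wc2053 : allBelow (fun k => fw (Nat.add 26689 k)) 13 = true := by decide +kernel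
theorem wu2053 : ∀ i, i < 26702 → fw i = true := below_step fw 26689 13 26702 wu2052 wc2053 rfl
theorem wc2054 : allBelow (fun k => fw (Nat.add 26702 k)) 13 = true := by decide +kernel
theorem wu2054 : ∀ i, i < 26715 → fw i = true := below_step fw 26702 13 26715 wu2053 wc2054 rfl
theorem wc2055 : allBelow (fun k => fw (Nat.add 26715 k)) 13 = true := by decide +kernel
theorem wu2055 : ∀ i, i < 26728 → fw i = true := below_step fw 26715 13 26728 wu2054 wc2055 rfl
theorem wc2056 : allBelow (fun k => fw (Nat.add 26728 k)) 13 = true := by decide +kernel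
theorem wu2056 : ∀ i, i < 26741 → fw i = true := below_step fw 26728 13 26741 wu2055 wc2056 rfl
theorem wc2057 : allBelow (fun k => fw (Nat.add 26741 k)) 13 = true := by decide +kernel
theorem wu2057 : ∀ i, i < 26754 → fw i = true := below_step fw 26741 13 26754 wu2056 wc2057 rfl
theorem wc2058 : allBelow (fun k => fw (Nat.add 26754 k)) 13 = true := by decide +kernel
theorem wu2058 : ∀ i, i < 26767 → fw i = true := below_step fw 26754 13 26767 wu2057 wc2058 rfl
theorem wc2059 : allBelow (fun k => fw (Nat.add 26767 k)) 13 = true := by decide +kernel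
theorem wu2059 : ∀ i, i < 26780 → fw i = true := below_step fw 26767 13 26780 wu2058 wc2059 rfl
theorem wc2060 : allBelow (fun k => fw (Nat.add 26780 k)) 13 = true := by decide +kernel
theorem wu2060 : ∀ i, i < 26793 → fw i = true := below_step fw 26780 13 26793 wu2059 wc2060 rfl
theorem wc2061 : allBelow (fun k => fw (Nat.add 26793 k)) 13 = true := by decide +kernel
theorem wu2061 : ∀ i, i < 26806 → fw i = true := below_step fw 26793 13 26806 wu2060 wc2061 rfl
theorem wc2062 : allBelow (fun k => fw (Nat.add 26806 k)) 13 = true := by decide +kernel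
theorem wu2062 : ∀ i, i < 26819 → fw i = true := below_step fw 26806 13 26819 wu2061 wc2062 rfl
theorem wc2063 : allBelow (fun k => fw (Nat.add 26819 k)) 13 = true := by decide +kernel
theorem wu2063 : ∀ i, i < 26832 → fw i = true := below_step fw 26819 13 26832 wu2062 wc2063 rfl
theorem wc2064 : allBelow (fun k => fw (Nat.add 26832 k)) 13 = true := by decide +kernel
theorem wu2064 : ∀ i, i < 26845 → fw i = true := below_step fw 26832 13 26845 wu2063 wc2064 rfl
theorem wc2065 : allBelow (fun k => fw (Nat.add 26845 k)) 13 = true := by decide +kernel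
theorem wu2065 : ∀ i, i < 26858 → fw i = true := below_step fw 26845 13 26858 wu2064 wc2065 rfl
theorem wc2066 : allBelow (fun k => fw (Nat.add 26858 k)) 13 = true := by decide +kernel
theorem wu2066 : ∀ i, i < 26871 → fw i = true := below_step fw 26858 13 26871 wu2065 wc2066 rfl
theorem wc2067 : allBelow (fun k => fw (Nat.add 26871 k)) 13 = true := by decide +kernel
theorem wu2067 : ∀ i, i < 26884 → fw i = true := below_step fw 26871 13 26884 wu2066 wc2067 rfl
theorem wc2068 : allBelow (fun k => fw (Nat.add 26884 k)) 13 = true := by decide +kernel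
theorem wu2068 : ∀ i, i < 26897 → fw i = true := below_step fw 26884 13 26897 wu2067 wc2068 rfl
theorem wc2069 : allBelow (fun k => fw (Nat.add 26897 k)) 13 = true := by decide +kernel
theorem wu2069 : ∀ i, i < 26910 → fw i = true := below_step fw 26897 13 26910 wu2068 wc2069 rfl
theorem wc2070 : allBelow (fun k => fw (Nat.add 26910 k)) 13 = true := by decide +kernel
theorem wu2070 : ∀ i, i < 26923 → fw i = true := below_step fw 26910 13 26923 wu2069 wc2070 rfl
theorem wc2071 : allBelow (fun k => fw (Nat.add 26923 k)) 13 = true := by decide +kernel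
theorem wu2071 : ∀ i, i < 26936 → fw i = true := below_step fw 26923 13 26936 wu2070 wc2071 rfl
theorem wc2072 : allBelow (fun k => fw (Nat.add 26936 k)) 13 = true := by decide +kernel
theorem wu2072 : ∀ i, i < 26949 → fw i = true := below_step fw 26936 13 26949 wu2071 wc2072 rfl
theorem wc2073 : allBelow (fun k => fw (Nat.add 26949 k)) 13 = true := by decide +kernel
theorem wu2073 : ∀ i, i < 26962 → fw i = true := below_step fw 26949 13 26962 wu2072 wc2073 rfl
theorem wc2074 : allBelow (fun k => fw (Nat.add 26962 k)) 13 = true := by decide +kernel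
theorem wu2074 : ∀ i, i < 26975 → fw i = true := below_step fw 26962 13 26975 wu2073 wc2074 rfl
theorem wc2075 : allBelow (fun k => fw (Nat.add 26975 k)) 13 = true := by decide +kernel
theorem wu2075 : ∀ i, i < 26988 → fw i = true := below_step fw 26975 13 26988 wu2074 wc2075 rfl
theorem wc2076 : allBelow (fun k => fw (Nat.add 26988 k)) 13 = true := by decide +kernel
theorem wu2076 : ∀ i, i < 27001 → fw i = true := below_step fw 26988 13 27001 wu2075 wc2076 rfl
theorem wc2077 : allBelow (fun k => fw (Nat.add 27001 k)) 13 = true := by decide +kernel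
theorem wu2077 : ∀ i, i < 27014 → fw i = true := below_step fw 27001 13 27014 wu2076 wc2077 rfl
theorem wc2078 : allBelow (fun k => fw (Nat.add 27014 k)) 13 = true := by decide +kernel
theorem wu2078 : ∀ i, i < 27027 → fw i = true := below_step fw 27014 13 27027 wu2077 wc2078 rfl
theorem wc2079 : allBelow (fun k => fw (Nat.add 27027 k)) 13 = true := by decide +kernel
theorem wu2079 : ∀ i, i < 27040 → fw i = true := below_step fw 27027 13 27040 wu2078 wc2079 rfl
theorem wc2080 : allBelow (fun k => fw (Nat.add 27040 k)) 13 = true := by decide +kernel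
theorem wu2080 : ∀ i, i < 27053 → fw i = true := below_step fw 27040 13 27053 wu2079 wc2080 rfl
theorem wc2081 : allBelow (fun k => fw (Nat.add 27053 k)) 13 = true := by decide +kernel
theorem wu2081 : ∀ i, i < 27066 → fw i = true := below_step fw 27053 13 27066 wu2080 wc2081 rfl
theorem wc2082 : allBelow (fun k => fw (Nat.add 27066 k)) 13 = true := by decide +kernel
theorem wu2082 : ∀ i, i < 27079 → fw i = true := below_step fw 27066 13 27079 wu2081 wc2082 rfl
theorem wc2083 : allBelow (fun k => fw (Nat.add 27079 k)) 13 = true := by decide +kernel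
theorem wu2083 : ∀ i, i < 27092 → fw i = true := below_step fw 27079 13 27092 wu2082 wc2083 rfl
theorem wc2084 : allBelow (fun k => fw (Nat.add 27092 k)) 13 = true := by decide +kernel
theorem wu2084 : ∀ i, i < 27105 → fw i = true := below_step fw 27092 13 27105 wu2083 wc2084 rfl
theorem wc2085 : allBelow (fun k => fw (Nat.add 27105 k)) 13 = true := by decide +kernel
theorem wu2085 : ∀ i, i < 27118 → fw i = true := below_step fw 27105 13 27118 wu2084 wc2085 rfl
theorem wc2086 : allBelow (fun k => fw (Nat.add 27118 k)) 13 = true := by decide +kernel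
theorem wu2086 : ∀ i, i < 27131 → fw i = true := below_step fw 27118 13 27131 wu2085 wc2086 rfl
theorem wc2087 : allBelow (fun k => fw (Nat.add 27131 k)) 13 = true := by decide +kernel
theorem wu2087 : ∀ i, i < 27144 → fw i = true := below_step fw 27131 13 27144 wu2086 wc2087 rfl
theorem wc2088 : allBelow (fun k => fw (Nat.add 27144 k)) 13 = true := by decide +kernel
theorem wu2088 : ∀ i, i < 27157 → fw i = true := below_step fw 27144 13 27157 wu2087 wc2088 rfl
theorem wc2089 : allBelow (fun k => fw (Nat.add 27157 k)) 13 = true := by decide +kernel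
theorem wu2089 : ∀ i, i < 27170 → fw i = true := below_step fw 27157 13 27170 wu2088 wc2089 rfl
theorem wc2090 : allBelow (fun k => fw (Nat.add 27170 k)) 13 = true := by decide +kernel
theorem wu2090 : ∀ i, i < 27183 → fw i = true := below_step fw 27170 13 27183 wu2089 wc2090 rfl
theorem wc2091 : allBelow (fun k => fw (Nat.add 27183 k)) 13 = true := by decide +kernel
theorem wu2091 : ∀ i, i < 27196 → fw i = true := below_step fw 27183 13 27196 wu2090 wc2091 rfl
theorem wc2092 : allBelow (fun k => fw (Nat.add 27196 k)) 13 = true := by decide +kernel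
theorem wu2092 : ∀ i, i < 27209 → fw i = true := below_step fw 27196 13 27209 wu2091 wc2092 rfl
theorem wc2093 : allBelow (fun k => fw (Nat.add 27209 k)) 13 = true := by decide +kernel
theorem wu2093 : ∀ i, i < 27222 → fw i = true := below_step fw 27209 13 27222 wu2092 wc2093 rfl
theorem wc2094 : allBelow (fun k => fw (Nat.add 27222 k)) 13 = true := by decide +kernel
theorem wu2094 : ∀ i, i < 27235 → fw i = true := below_step fw 27222 13 27235 wu2093 wc2094 rfl
theorem wc2095 : allBelow (fun k => fw (Nat.add 27235 k)) 13 = true := by decide +kernel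
theorem wu2095 : ∀ i, i < 27248 → fw i = true := below_step fw 27235 13 27248 wu2094 wc2095 rfl
theorem wc2096 : allBelow (fun k => fw (Nat.add 27248 k)) 13 = true := by decide +kernel
theorem wu2096 : ∀ i, i < 27261 → fw i = true := below_step fw 27248 13 27261 wu2095 wc2096 rfl
theorem wc2097 : allBelow (fun k => fw (Nat.add 27261 k)) 13 = true := by decide +kernel
theorem wu2097 : ∀ i, i < 27274 → fw i = true := below_step fw 27261 13 27274 wu2096 wc2097 rfl
theorem wc2098 : allBelow (fun k => fw (Nat.add 27274 k)) 13 = true := by decide +kernel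
theorem wu2098 : ∀ i, i < 27287 → fw i = true := below_step fw 27274 13 27287 wu2097 wc2098 rfl
theorem wc2099 : allBelow (fun k => fw (Nat.add 27287 k)) 13 = true := by decide +kernel
theorem wu2099 : ∀ i, i < 27300 → fw i = true := below_step fw 27287 13 27300 wu2098 wc2099 rfl
theorem wc2100 : allBelow (fun k => fw (Nat.add 27300 k)) 13 = true := by decide +kernel
theorem wu2100 : ∀ i, i < 27313 → fw i = true := below_step fw 27300 13 27313 wu2099 wc2100 rfl
theorem wc2101 : allBelow (fun k => fw (Nat.add 27313 k)) 13 = true := by decide +kernel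
theorem wu2101 : ∀ i, i < 27326 → fw i = true := below_step fw 27313 13 27326 wu2100 wc2101 rfl
theorem wc2102 : allBelow (fun k => fw (Nat.add 27326 k)) 13 = true := by decide +kernel
theorem wu2102 : ∀ i, i < 27339 → fw i = true := below_step fw 27326 13 27339 wu2101 wc2102 rfl
theorem wc2103 : allBelow (fun k => fw (Nat.add 27339 k)) 13 = true := by decide +kernel
theorem wu2103 : ∀ i, i < 27352 → fw i = true := below_step fw 27339 13 27352 wu2102 wc2103 rfl
theorem wc2104 : allBelow (fun k => fw (Nat.add 27352 k)) 13 = true := by decide +kernel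
theorem wu2104 : ∀ i, i < 27365 → fw i = true := below_step fw 27352 13 27365 wu2103 wc2104 rfl
theorem wc2105 : allBelow (fun k => fw (Nat.add 27365 k)) 13 = true := by decide +kernel
theorem wu2105 : ∀ i, i < 27378 → fw i = true := below_step fw 27365 13 27378 wu2104 wc2105 rfl
theorem wc2106 : allBelow (fun k => fw (Nat.add 27378 k)) 13 = true := by decide +kernel
theorem wu2106 : ∀ i, i < 27391 → fw i = true := below_step fw 27378 13 27391 wu2105 wc2106 rfl
theorem wc2107 : allBelow (fun k => fw (Nat.add 27391 k)) 13 = true := by decide +kernel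
theorem wu2107 : ∀ i, i < 27404 → fw i = true := below_step fw 27391 13 27404 wu2106 wc2107 rfl
theorem wc2108 : allBelow (fun k => fw (Nat.add 27404 k)) 13 = true := by decide +kernel
theorem wu2108 : ∀ i, i < 27417 → fw i = true := below_step fw 27404 13 27417 wu2107 wc2108 rfl
theorem wc2109 : allBelow (fun k => fw (Nat.add 27417 k)) 13 = true := by decide +kernel
theorem wu2109 : ∀ i, i < 27430 → fw i = true := below_step fw 27417 13 27430 wu2108 wc2109 rfl
theorem wc2110 : allBelow (fun k => fw (Nat.add 27430 k)) 13 = true := by decide +kernel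
theorem wu2110 : ∀ i, i < 27443 → fw i = true := below_step fw 27430 13 27443 wu2109 wc2110 rfl
theorem wc2111 : allBelow (fun k => fw (Nat.add 27443 k)) 13 = true := by decide +kernel
theorem wu2111 : ∀ i, i < 27456 → fw i = true := below_step fw 27443 13 27456 wu2110 wc2111 rfl
theorem wc2112 : allBelow (fun k => fw (Nat.add 27456 k)) 13 = true := by decide +kernel
theorem wu2112 : ∀ i, i < 27469 → fw i = true := below_step fw 27456 13 27469 wu2111 wc2112 rfl
theorem wc2113 : allBelow (fun k => fw (Nat.add 27469 k)) 13 = true := by decide +kernel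
theorem wu2113 : ∀ i, i < 27482 → fw i = true := below_step fw 27469 13 27482 wu2112 wc2113 rfl
theorem wc2114 : allBelow (fun k => fw (Nat.add 27482 k)) 13 = true := by decide +kernel
theorem wu2114 : ∀ i, i < 27495 → fw i = true := below_step fw 27482 13 27495 wu2113 wc2114 rfl
theorem wc2115 : allBelow (fun k => fw (Nat.add 27495 k)) 13 = true := by decide +kernel
theorem wu2115 : ∀ i, i < 27508 → fw i = true := below_step fw 27495 13 27508 wu2114 wc2115 rfl
theorem wc2116 : allBelow (fun k => fw (Nat.add 27508 k)) 13 = true := by decide +kernel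
theorem wu2116 : ∀ i, i < 27521 → fw i = true := below_step fw 27508 13 27521 wu2115 wc2116 rfl
theorem wc2117 : allBelow (fun k => fw (Nat.add 27521 k)) 13 = true := by decide +kernel
theorem wu2117 : ∀ i, i < 27534 → fw i = true := below_step fw 27521 13 27534 wu2116 wc2117 rfl
theorem wc2118 : allBelow (fun k => fw (Nat.add 27534 k)) 13 = true := by decide +kernel
theorem wu2118 : ∀ i, i < 27547 → fw i = true := below_step fw 27534 13 27547 wu2117 wc2118 rfl
theorem wc2119 : allBelow (fun k => fw (Nat.add 27547 k)) 13 = true := by decide +kernel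
theorem wu2119 : ∀ i, i < 27560 → fw i = true := below_step fw 27547 13 27560 wu2118 wc2119 rfl
theorem wc2120 : allBelow (fun k => fw (Nat.add 27560 k)) 13 = true := by decide +kernel
theorem wu2120 : ∀ i, i < 27573 → fw i = true := below_step fw 27560 13 27573 wu2119 wc2120 rfl
theorem wc2121 : allBelow (fun k => fw (Nat.add 27573 k)) 13 = true := by decide +kernel
theorem wu2121 : ∀ i, i < 27586 → fw i = true := below_step fw 27573 13 27586 wu2120 wc2121 rfl
theorem wc2122 : allBelow (fun k => fw (Nat.add 27586 k)) 13 = true := by decide +kernel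
theorem wu2122 : ∀ i, i < 27599 → fw i = true := below_step fw 27586 13 27599 wu2121 wc2122 rfl
theorem wc2123 : allBelow (fun k => fw (Nat.add 27599 k)) 13 = true := by decide +kernel
theorem wu2123 : ∀ i, i < 27612 → fw i = true := below_step fw 27599 13 27612 wu2122 wc2123 rfl

end Cfsg.Agent.Lib.Helper35.Fi23Ord.X0
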