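import Cfsg.Agent.Lib.Helper35.Fi23Ord.X0.Chk10

set_option Elab.async false

namespace Cfsg.Agent.Lib.Helper35.Fi23Ord.X0

open Cfsg.Agent.Lib.Helper35

theorem wc2124 : allBelow (fun k => fw (Nat.add 27612 k)) 13 = true := by decide +kernel
theorem wu2124 : ∀ i, i < 27625 → fw i = true := below_step fw 27612 13 27625 wu2123 wc2124 rfl
theorem wc2125 : allBelow (fun k => fw (Nat.add 27625 k)) 13 = true := by decide +kernel
theorem wu2125 : ∀ i, i < 27638 → fw i = true := below_step fw 27625 13 27638 wu2124 wc2125 rfl
theorem wc2126 : allBelow (fun k => fw (Nat.add 27638 k)) 13 = true := by decide +kernel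
theorem wu2126 : ∀ i, i < 27651 → fw i = true := below_step fw 27638 13 27651 wu2125 wc2126 rfl
theorem wc2127 : allBelow (fun k => fw (Nat.add 27651 k)) 13 = true := by decide +kernel
theorem wu2127 : ∀ i, i < 27664 → fw i = true := below_step fw 27651 13 27664 wu2126 wc2127 rfl
theorem wc2128 : allBelow (fun k => fw (Nat.add 27664 k)) 13 = true := by decide +kernel
theorem wu2128 : ∀ i, i < 27677 → fw i = true := below_step fw 27664 13 27677 wu2127 wc2128 rfl
theorem wc2129 : allBelow (fun k => fw (Nat.add 27677 k)) 13 = true := by decide +kernel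
theorem wu2129 : ∀ i, i < 27690 → fw i = true := below_step fw 27677 13 27690 wu2128 wc2129 rfl
theorem wc2130 : allBelow (fun k => fw (Nat.add 27690 k)) 13 = true := by decide +kernel
theorem wu2130 : ∀ i, i < 27703 → fw i = true := below_step fw 27690 13 27703 wu2129 wc2130 rfl
theorem wc2131 : allBelow (fun k => fw (Nat.add 27703 k)) 13 = true := by decide +kernel
theorem wu2131 : ∀ i, i < 27716 → fw i = true := below_step fw 27703 13 27716 wu2130 wc2131 rfl
theorem wc2132 : allBelow (fun k => fw (Nat.add 27716 k)) 13 = true := by decide +kernel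
theorem wu2132 : ∀ i, i < 27729 → fw i = true := below_step fw 27716 13 27729 wu2131 wc2132 rfl
theorem wc2133 : allBelow (fun k => fw (Nat.add 27729 k)) 13 = true := by decide +kernel
theorem wu2133 : ∀ i, i < 27742 → fw i = true := below_step fw 27729 13 27742 wu2132 wc2133 rfl
theorem wc2134 : allBelow (fun k => fw (Nat.add 27742 k)) 13 = true := by decide +kernel
theorem wu2134 : ∀ i, i < 27755 → fw i = true := below_step fw 27742 13 27755 wu2133 wc2134 rfl
theorem wc2135 : allBelow (fun k => fw (Nat.add 27755 k)) 13 = true := by decide +kernel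
theorem wu2135 : ∀ i, i < 27768 → fw i = true := below_step fw 27755 13 27768 wu2134 wc2135 rfl
theorem wc2136 : allBelow (fun k => fw (Nat.add 27768 k)) 13 = true := by decide +kernel
theorem wu2136 : ∀ i, i < 27781 → fw i = true := below_step fw 27768 13 27781 wu2135 wc2136 rfl
theorem wc2137 : allBelow (fun k => fw (Nat.add 27781 k)) 13 = true := by decide +kernel
theorem wu2137 : ∀ i, i < 27794 → fw i = true := below_step fw 27781 13 27794 wu2136 wc2137 rfl
theorem wc2138 : allBelow (fun k => fw (Nat.add 27794 k)) 13 = true := by decide +kernel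
theorem wu2138 : ∀ i, i < 27807 → fw i = true := below_step fw 27794 13 27807 wu2137 wc2138 rfl
theorem wc2139 : allBelow (fun k => fw (Nat.add 27807 k)) 13 = true := by decide +kernel
theorem wu2139 : ∀ i, i < 27820 → fw i = true := below_step fw 27807 13 27820 wu2138 wc2139 rfl
theorem wc2140 : allBelow (fun k => fw (Nat.add 27820 k)) 13 = true := by decide +kernel
theorem wu2140 : ∀ i, i < 27833 → fw i = true := below_step fw 27820 13 27833 wu2139 wc2140 rfl
theorem wc2141 : allBelow (fun k => fw (Nat.add 27833 k)) 13 = true := by decide +kernel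
theorem wu2141 : ∀ i, i < 27846 → fw i = true := below_step fw 27833 13 27846 wu2140 wc2141 rfl
theorem wc2142 : allBelow (fun k => fw (Nat.add 27846 k)) 13 = true := by decide +kernel
theorem wu2142 : ∀ i, i < 27859 → fw i = true := below_step fw 27846 13 27859 wu2141 wc2142 rfl
theorem wc2143 : allBelow (fun k => fw (Nat.add 27859 k)) 13 = true := by decide +kernel
theorem wu2143 : ∀ i, i < 27872 → fw i = true := below_step fw 27859 13 27872 wu2142 wc2143 rfl
theorem wc2144 : allBelow (fun k => fw (Nat.add 27872 k)) 13 = true := by decide +kernel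
theorem wu2144 : ∀ i, i < 27885 → fw i = true := below_step fw 27872 13 27885 wu2143 wc2144 rfl
theorem wc2145 : allBelow (fun k => fw (Nat.add 27885 k)) 13 = true := by decide +kernel
theorem wu2145 : ∀ i, i < 27898 → fw i = true := below_step fw 27885 13 27898 wu2144 wc2145 rfl
theorem wc2146 : allBelow (fun k => fw (Nat.add 27898 k)) 13 = true := by decide +kernel
theorem wu2146 : ∀ i, i < 27911 → fw i = true := below_step fw 27898 13 27911 wu2145 wc2146 rfl
theorem wc2147 : allBelow (fun k => fw (Nat.add 27911 k)) 13 = true := by decide +kernel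
theorem wu2147 : ∀ i, i < 27924 → fw i = true := below_step fw 27911 13 27924 wu2146 wc2147 rfl
theorem wc2148 : allBelow (fun k => fw (Nat.add 27924 k)) 13 = true := by decide +kernel
theorem wu2148 : ∀ i, i < 27937 → fw i = true := below_step fw 27924 13 27937 wu2147 wc2148 rfl
theorem wc2149 : allBelow (fun k => fw (Nat.add 27937 k)) 13 = true := by decide +kernel
theorem wu2149 : ∀ i, i < 27950 → fw i = true := below_step fw 27937 13 27950 wu2148 wc2149 rfl
theorem wc2150 : allBelow (fun k => fw (Nat.add 27950 k)) 13 = true := by decide +kernel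
theorem wu2150 : ∀ i, i < 27963 → fw i = true := below_step fw 27950 13 27963 wu2149 wc2150 rfl
theorem wc2151 : allBelow (fun k => fw (Nat.add 27963 k)) 13 = true := by decide +kernel
theorem wu2151 : ∀ i, i < 27976 → fw i = true := below_step fw 27963 13 27976 wu2150 wc2151 rfl
theorem wc2152 : allBelow (fun k => fw (Nat.add 27976 k)) 13 = true := by decide +kernel
theorem wu2152 : ∀ i, i < 27989 → fw i = true := below_step fw 27976 13 27989 wu2151 wc2152 rfl
theorem wc2153 : allBelow (fun k => fw (Nat.add 27989 k)) 13 = true := by decide +kernel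
theorem wu2153 : ∀ i, i < 28002 → fw i = true := below_step fw 27989 13 28002 wu2152 wc2153 rfl
theorem wc2154 : allBelow (fun k => fw (Nat.add 28002 k)) 13 = true := by decide +kernel
theorem wu2154 : ∀ i, i < 28015 → fw i = true := below_step fw 28002 13 28015 wu2153 wc2154 rfl
theorem wc2155 : allBelow (fun k => fw (Nat.add 28015 k)) 13 = true := by decide +kernel
theorem wu2155 : ∀ i, i < 28028 → fw i = true := below_step fw 28015 13 28028 wu2154 wc2155 rfl
theorem wc2156 : allBelow (fun k => fw (Nat.add 28028 k)) 13 = true := by decide +kernel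
theorem wu2156 : ∀ i, i < 28041 → fw i = true := below_step fw 28028 13 28041 wu2155 wc2156 rfl
theorem wc2157 : allBelow (fun k => fw (Nat.add 28041 k)) 13 = true := by decide +kernel
theorem wu2157 : ∀ i, i < 28054 → fw i = true := below_step fw 28041 13 28054 wu2156 wc2157 rfl
theorem wc2158 : allBelow (fun k => fw (Nat.add 28054 k)) 13 = true := by decide +kernel
theorem wu2158 : ∀ i, i < 28067 → fw i = true := below_step fw 28054 13 28067 wu2157 wc2158 rfl
theorem wc2159 : allBelow (fun k => fw (Nat.add 28067 k)) 13 = true := by decide +kernel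
theorem wu2159 : ∀ i, i < 28080 → fw i = true := below_step fw 28067 13 28080 wu2158 wc2159 rfl
theorem wc2160 : allBelow (fun k => fw (Nat.add 28080 k)) 13 = true := by decide +kernel
theorem wu2160 : ∀ i, i < 28093 → fw i = true := below_step fw 28080 13 28093 wu2159 wc2160 rfl
theorem wc2161 : allBelow (fun k => fw (Nat.add 28093 k)) 13 = true := by decide +kernel
theorem wu2161 : ∀ i, i < 28106 → fw i = true := below_step fw 28093 13 28106 wu2160 wc2161 rfl
theorem wc2162 : allBelow (fun k => fw (Nat.add 28106 k)) 13 = true := by decide +kernel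
theorem wu2162 : ∀ i, i < 28119 → fw i = true := below_step fw 28106 13 28119 wu2161 wc2162 rfl
theorem wc2163 : allBelow (fun k => fw (Nat.add 28119 k)) 13 = true := by decide +kernel
theorem wu2163 : ∀ i, i < 28132 → fw i = true := below_step fw 28119 13 28132 wu2162 wc2163 rfl
theorem wc2164 : allBelow (fun k => fw (Nat.add 28132 k)) 13 = true := by decide +kernel
theorem wu2164 : ∀ i, i < 28145 → fw i = true := below_step fw 28132 13 28145 wu2163 wc2164 rfl
theorem wc2165 : allBelow (fun k => fw (Nat.add 28145 k)) 13 = true := by decide +kernel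
theorem wu2165 : ∀ i, i < 28158 → fw i = true := below_step fw 28145 13 28158 wu2164 wc2165 rfl
theorem wc2166 : allBelow (fun k => fw (Nat.add 28158 k)) 13 = true := by decide +kernel
theorem wu2166 : ∀ i, i < 28171 → fw i = true := below_step fw 28158 13 28171 wu2165 wc2166 rfl
theorem wc2167 : allBelow (fun k => fw (Nat.add 28171 k)) 13 = true := by decide +kernel
theorem wu2167 : ∀ i, i < 28184 → fw i = true := below_step fw 28171 13 28184 wu2166 wc2167 rfl
theorem wc2168 : allBelow (fun k => fw (Nat.add 28184 k)) 13 = true := by decide +kernel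
theorem wu2168 : ∀ i, i < 28197 → fw i = true := below_step fw 28184 13 28197 wu2167 wc2168 rfl
theorem wc2169 : allBelow (fun k => fw (Nat.add 28197 k)) 13 = true := by decide +kernel
theorem wu2169 : ∀ i, i < 28210 → fw i = true := below_step fw 28197 13 28210 wu2168 wc2169 rfl
theorem wc2170 : allBelow (fun k => fw (Nat.add 28210 k)) 13 = true := by decide +kernel
theorem wu2170 : ∀ i, i < 28223 → fw i = true := below_step fw 28210 13 28223 wu2169 wc2170 rfl
theorem wc2171 : allBelow (fun k => fw (Nat.add 28223 k)) 13 = true := by decide +kernel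
theorem wu2171 : ∀ i, i < 28236 → fw i = true := below_step fw 28223 13 28236 wu2170 wc2171 rfl
theorem wc2172 : allBelow (fun k => fw (Nat.add 28236 k)) 13 = true := by decide +kernel
theorem wu2172 : ∀ i, i < 28249 → fw i = true := below_step fw 28236 13 28249 wu2171 wc2172 rfl
theorem wc2173 : allBelow (fun k => fw (Nat.add 28249 k)) 13 = true := by decide +kernel
theorem wu2173 : ∀ i, i < 28262 → fw i = true := below_step fw 28249 13 28262 wu2172 wc2173 rfl
theorem wc2174 : allBelow (fun k => fw (Nat.add 28262 k)) 13 = true := by decide +kernel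
theorem wu2174 : ∀ i, i < 28275 → fw i = true := below_step fw 28262 13 28275 wu2173 wc2174 rfl
theorem wc2175 : allBelow (fun k => fw (Nat.add 28275 k)) 13 = true := by decide +kernel
theorem wu2175 : ∀ i, i < 28288 → fw i = true := below_step fw 28275 13 28288 wu2174 wc2175 rfl
theorem wc2176 : allBelow (fun k => fw (Nat.add 28288 k)) 13 = true := by decide +kernel
theorem wu2176 : ∀ i, i < 28301 → fw i = true := below_step fw 28288 13 28301 wu2175 wc2176 rfl
theorem wc2177 : allBelow (fun k => fw (Nat.add 28301 k)) 13 = true := by decide +kernel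
theorem wu2177 : ∀ i, i < 28314 → fw i = true := below_step fw 28301 13 28314 wu2176 wc2177 rfl
theorem wc2178 : allBelow (fun k => fw (Nat.add 28314 k)) 13 = true := by decide +kernel
theorem wu2178 : ∀ i, i < 28327 → fw i = true := below_step fw 28314 13 28327 wu2177 wc2178 rfl
theorem wc2179 : allBelow (fun k => fw (Nat.add 28327 k)) 13 = true := by decide +kernel
theorem wu2179 : ∀ i, i < 28340 → fw i = true := below_step fw 28327 13 28340 wu2178 wc2179 rfl
theorem wc2180 : allBelow (fun k => fw (Nat.add 28340 k)) 13 = true := by decide +kernel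
theorem wu2180 : ∀ i, i < 28353 → fw i = true := below_step fw 28340 13 28353 wu2179 wc2180 rfl
theorem wc2181 : allBelow (fun k => fw (Nat.add 28353 k)) 13 = true := by decide +kernel
theorem wu2181 : ∀ i, i < 28366 → fw i = true := below_step fw 28353 13 28366 wu2180 wc2181 rfl
theorem wc2182 : allBelow (fun k => fw (Nat.add 28366 k)) 13 = true := by decide +kernel
theorem wu2182 : ∀ i, i < 28379 → fw i = true := below_step fw 28366 13 28379 wu2181 wc2182 rfl
theorem wc2183 : allBelow (fun k => fw (Nat.add 28379 k)) 13 = true := by decide +kernel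
theorem wu2183 : ∀ i, i < 28392 → fw i = true := below_step fw 28379 13 28392 wu2182 wc2183 rfl
theorem wc2184 : allBelow (fun k => fw (Nat.add 28392 k)) 13 = true := by decide +kernel
theorem wu2184 : ∀ i, i < 28405 → fw i = true := below_step fw 28392 13 28405 wu2183 wc2184 rfl
theorem wc2185 : allBelow (fun k => fw (Nat.add 28405 k)) 13 = true := by decide +kernel
theorem wu2185 : ∀ i, i < 28418 → fw i = true := below_step fw 28405 13 28418 wu2184 wc2185 rfl
theorem wc2186 : allBelow (fun k => fw (Nat.add 28418 k)) 13 = true := by decide +kernel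
theorem wu2186 : ∀ i, i < 28431 → fw i = true := below_step fw 28418 13 28431 wu2185 wc2186 rfl
theorem wc2187 : allBelow (fun k => fw (Nat.add 28431 k)) 13 = true := by decide +kernel
theorem wu2187 : ∀ i, i < 28444 → fw i = true := below_step fw 28431 13 28444 wu2186 wc2187 rfl
theorem wc2188 : allBelow (fun k => fw (Nat.add 28444 k)) 13 = true := by decide +kernel
theorem wu2188 : ∀ i, i < 28457 → fw i = true := below_step fw 28444 13 28457 wu2187 wc2188 rfl
theorem wc2189 : allBelow (fun k => fw (Nat.add 28457 k)) 13 = true := by decide +kernel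
theorem wu2189 : ∀ i, i < 28470 → fw i = true := below_step fw 28457 13 28470 wu2188 wc2189 rfl
theorem wc2190 : allBelow (fun k => fw (Nat.add 28470 k)) 13 = true := by decide +kernel
theorem wu2190 : ∀ i, i < 28483 → fw i = true := below_step fw 28470 13 28483 wu2189 wc2190 rfl
theorem wc2191 : allBelow (fun k => fw (Nat.add 28483 k)) 13 = true := by decide +kernel
theorem wu2191 : ∀ i, i < 28496 → fw i = true := below_step fw 28483 13 28496 wu2190 wc2191 rfl
theorem wc2192 : allBelow (fun k => fw (Nat.add 28496 k)) 13 = true := by decide +kernel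
theorem wu2192 : ∀ i, i < 28509 → fw i = true := below_step fw 28496 13 28509 wu2191 wc2192 rfl
theorem wc2193 : allBelow (fun k => fw (Nat.add 28509 k)) 13 = true := by decide +kernel
theorem wu2193 : ∀ i, i < 28522 → fw i = true := below_step fw 28509 13 28522 wu2192 wc2193 rfl
theorem wc2194 : allBelow (fun k => fw (Nat.add 28522 k)) 13 = true := by decide +kernel
theorem wu2194 : ∀ i, i < 28535 → fw i = true := below_step fw 28522 13 28535 wu2193 wc2194 rfl
theorem wc2195 : allBelow (fun k => fw (Nat.add 28535 k)) 13 = true := by decide +kernel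
theorem wu2195 : ∀ i, i < 28548 → fw i = true := below_step fw 28535 13 28548 wu2194 wc2195 rfl
theorem wc2196 : allBelow (fun k => fw (Nat.add 28548 k)) 13 = true := by decide +kernel
theorem wu2196 : ∀ i, i < 28561 → fw i = true := below_step fw 28548 13 28561 wu2195 wc2196 rfl
theorem wc2197 : allBelow (fun k => fw (Nat.add 28561 k)) 13 = true := by decide +kernel
theorem wu2197 : ∀ i, i < 28574 → fw i = true := below_step fw 28561 13 28574 wu2196 wc2197 rfl
theorem wc2198 : allBelow (fun k => fw (Nat.add 28574 k)) 13 = true := by decide +kernel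
theorem wu2198 : ∀ i, i < 28587 → fw i = true := below_step fw 28574 13 28587 wu2197 wc2198 rfl
theorem wc2199 : allBelow (fun k => fw (Nat.add 28587 k)) 13 = true := by decide +kernel
theorem wu2199 : ∀ i, i < 28600 → fw i = true := below_step fw 28587 13 28600 wu2198 wc2199 rfl
theorem wc2200 : allBelow (fun k => fw (Nat.add 28600 k)) 13 = true := by decide +kernel
theorem wu2200 : ∀ i, i < 28613 → fw i = true := below_step fw 28600 13 28613 wu2199 wc2200 rfl
theorem wc2201 : allBelow (fun k => fw (Nat.add 28613 k)) 13 = true := by decide +kernel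
theorem wu2201 : ∀ i, i < 28626 → fw i = true := below_step fw 28613 13 28626 wu2200 wc2201 rfl
theorem wc2202 : allBelow (fun k => fw (Nat.add 28626 k)) 13 = true := by decide +kernel
theorem wu2202 : ∀ i, i < 28639 → fw i = true := below_step fw 28626 13 28639 wu2201 wc2202 rfl
theorem wc2203 : allBelow (fun k => fw (Nat.add 28639 k)) 13 = true := by decide +kernel
theorem wu2203 : ∀ i, i < 28652 → fw i = true := below_step fw 28639 13 28652 wu2202 wc2203 rfl
theorem wc2204 : allBelow (fun k => fw (Nat.add 28652 k)) 13 = true := by decide +kernel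
theorem wu2204 : ∀ i, i < 28665 → fw i = true := below_step fw 28652 13 28665 wu2203 wc2204 rfl
theorem wc2205 : allBelow (fun k => fw (Nat.add 28665 k)) 13 = true := by decide +kernel
theorem wu2205 : ∀ i, i < 28678 → fw i = true := below_step fw 28665 13 28678 wu2204 wc2205 rfl
theorem wc2206 : allBelow (fun k => fw (Nat.add 28678 k)) 13 = true := by decide +kernel
theorem wu2206 : ∀ i, i < 28691 → fw i = true := below_step fw 28678 13 28691 wu2205 wc2206 rfl
theorem wc2207 : allBelow (fun k => fw (Nat.add 28691 k)) 13 = true := by decide +kernel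
theorem wu2207 : ∀ i, i < 28704 → fw i = true := below_step fw 28691 13 28704 wu2206 wc2207 rfl
theorem wc2208 : allBelow (fun k => fw (Nat.add 28704 k)) 13 = true := by decide +kernel
theorem wu2208 : ∀ i, i < 28717 → fw i = true := below_step fw 28704 13 28717 wu2207 wc2208 rfl
theorem wc2209 : allBelow (fun k => fw (Nat.add 28717 k)) 13 = true := by decide +kernel
theorem wu2209 : ∀ i, i < 28730 → fw i = true := below_step fw 28717 13 28730 wu2208 wc2209 rfl
theorem wc2210 : allBelow (fun k => fw (Nat.add 28730 k)) 13 = true := by decide +kernel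
theorem wu2210 : ∀ i, i < 28743 → fw i = true := below_step fw 28730 13 28743 wu2209 wc2210 rfl
theorem wc2211 : allBelow (fun k => fw (Nat.add 28743 k)) 13 = true := by decide +kernel
theorem wu2211 : ∀ i, i < 28756 → fw i = true := below_step fw 28743 13 28756 wu2210 wc2211 rfl
theorem wc2212 : allBelow (fun k => fw (Nat.add 28756 k)) 13 = true := by decide +kernel
theorem wu2212 : ∀ i, i < 28769 → fw i = true := below_step fw 28756 13 28769 wu2211 wc2212 rfl
theorem wc2213 : allBelow (fun k => fw (Nat.add 28769 k)) 13 = true := by decide +kernel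
theorem wu2213 : ∀ i, i < 28782 → fw i = true := below_step fw 28769 13 28782 wu2212 wc2213 rfl
theorem wc2214 : allBelow (fun k => fw (Nat.add 28782 k)) 13 = true := by decide +kernel
theorem wu2214 : ∀ i, i < 28795 → fw i = true := below_step fw 28782 13 28795 wu2213 wc2214 rfl
theorem wc2215 : allBelow (fun k => fw (Nat.add 28795 k)) 13 = true := by decide +kernel
theorem wu2215 : ∀ i, i < 28808 → fw i = true := below_step fw 28795 13 28808 wu2214 wc2215 rfl
theorem wc2216 : allBelow (fun k => fw (Nat.add 28808 k)) 13 = true := by decide +kernel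
theorem wu2216 : ∀ i, i < 28821 → fw i = true := below_step fw 28808 13 28821 wu2215 wc2216 rfl
theorem wc2217 : allBelow (fun k => fw (Nat.add 28821 k)) 13 = true := by decide +kernel
theorem wu2217 : ∀ i, i < 28834 → fw i = true := below_step fw 28821 13 28834 wu2216 wc2217 rfl
theorem wc2218 : allBelow (fun k => fw (Nat.add 28834 k)) 13 = true := by decide +kernel
theorem wu2218 : ∀ i, i < 28847 → fw i = true := below_step fw 28834 13 28847 wu2217 wc2218 rfl
theorem wc2219 : allBelow (fun k => fw (Nat.add 28847 k)) 13 = true := by decide +kernel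
theorem wu2219 : ∀ i, i < 28860 → fw i = true := below_step fw 28847 13 28860 wu2218 wc2219 rfl
theorem wc2220 : allBelow (fun k => fw (Nat.add 28860 k)) 13 = true := by decide +kernel
theorem wu2220 : ∀ i, i < 28873 → fw i = true := below_step fw 28860 13 28873 wu2219 wc2220 rfl
theorem wc2221 : allBelow (fun k => fw (Nat.add 28873 k)) 13 = true := by decide +kernel
theorem wu2221 : ∀ i, i < 28886 → fw i = true := below_step fw 28873 13 28886 wu2220 wc2221 rfl
theorem wc2222 : allBelow (fun k => fw (Nat.add 28886 k)) 13 = true := by decide +kernel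
theorem wu2222 : ∀ i, i < 28899 → fw i = true := below_step fw 28886 13 28899 wu2221 wc2222 rfl
theorem wc2223 : allBelow (fun k => fw (Nat.add 28899 k)) 13 = true := by decide +kernel
theorem wu2223 : ∀ i, i < 28912 → fw i = true := below_step fw 28899 13 28912 wu2222 wc2223 rfl
theorem wc2224 : allBelow (fun k => fw (Nat.add 28912 k)) 13 = true := by decide +kernel
theorem wu2224 : ∀ i, i < 28925 → fw i = true := below_step fw 28912 13 28925 wu2223 wc2224 rfl
theorem wc2225 : allBelow (fun k => fw (Nat.add 28925 k)) 13 = true := by decide +kernel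
theorem wu2225 : ∀ i, i < 28938 → fw i = true := below_step fw 28925 13 28938 wu2224 wc2225 rfl
theorem wc2226 : allBelow (fun k => fw (Nat.add 28938 k)) 13 = true := by decide +kernel
theorem wu2226 : ∀ i, i < 28951 → fw i = true := below_step fw 28938 13 28951 wu2225 wc2226 rfl
theorem wc2227 : allBelow (fun k => fw (Nat.add 28951 k)) 13 = true := by decide +kernel
theorem wu2227 : ∀ i, i < 28964 → fw i = true := below_step fw 28951 13 28964 wu2226 wc2227 rfl
theorem wc2228 : allBelow (fun k => fw (Nat.add 28964 k)) 13 = true := by decide +kernel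
theorem wu2228 : ∀ i, i < 28977 → fw i = true := below_step fw 28964 13 28977 wu2227 wc2228 rfl
theorem wc2229 : allBelow (fun k => fw (Nat.add 28977 k)) 13 = true := by decide +kernel
theorem wu2229 : ∀ i, i < 28990 → fw i = true := below_step fw 28977 13 28990 wu2228 wc2229 rfl
theorem wc2230 : allBelow (fun k => fw (Nat.add 28990 k)) 13 = true := by decide +kernel
theorem wu2230 : ∀ i, i < 29003 → fw i = true := below_step fw 28990 13 29003 wu2229 wc2230 rfl
theorem wc2231 : allBelow (fun k => fw (Nat.add 29003 k)) 13 = true := by decide +kernel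
theorem wu2231 : ∀ i, i < 29016 → fw i = true := below_step fw 29003 13 29016 wu2230 wc2231 rfl
theorem wc2232 : allBelow (fun k => fw (Nat.add 29016 k)) 13 = true := by decide +kernel
theorem wu2232 : ∀ i, i < 29029 → fw i = true := below_step fw 29016 13 29029 wu2231 wc2232 rfl
theorem wc2233 : allBelow (fun k => fw (Nat.add 29029 k)) 13 = true := by decide +kernel
theorem wu2233 : ∀ i, i < 29042 → fw i = true := below_step fw 29029 13 29042 wu2232 wc2233 rfl
theorem wc2234 : allBelow (fun k => fw (Nat.add 29042 k)) 13 = true := by decide +kernel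
theorem wu2234 : ∀ i, i < 29055 → fw i = true := below_step fw 29042 13 29055 wu2233 wc2234 rfl
theorem wc2235 : allBelow (fun k => fw (Nat.add 29055 k)) 13 = true := by decide +kernel
theorem wu2235 : ∀ i, i < 29068 → fw i = true := below_step fw 29055 13 29068 wu2234 wc2235 rfl
theorem wc2236 : allBelow (fun k => fw (Nat.add 29068 k)) 13 = true := by decide +kernel
theorem wu2236 : ∀ i, i < 29081 → fw i = true := below_step fw 29068 13 29081 wu2235 wc2236 rfl
theorem wc2237 : allBelow (fun k => fw (Nat.add 29081 k)) 13 = true := by decide +kernel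
theorem wu2237 : ∀ i, i < 29094 → fw i = true := below_step fw 29081 13 29094 wu2236 wc2237 rfl
theorem wc2238 : allBelow (fun k => fw (Nat.add 29094 k)) 13 = true := by decide +kernel
theorem wu2238 : ∀ i, i < 29107 → fw i = true := below_step fw 29094 13 29107 wu2237 wc2238 rfl
theorem wc2239 : allBelow (fun k => fw (Nat.add 29107 k)) 13 = true := by decide +kernel
theorem wu2239 : ∀ i, i < 29120 → fw i = true := below_step fw 29107 13 29120 wu2238 wc2239 rfl
theorem wc2240 : allBelow (fun k => fw (Nat.add 29120 k)) 13 = true := by decide +kernel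
theorem wu2240 : ∀ i, i < 29133 → fw i = true := below_step fw 29120 13 29133 wu2239 wc2240 rfl
theorem wc2241 : allBelow (fun k => fw (Nat.add 29133 k)) 13 = true := by decide +kernel
theorem wu2241 : ∀ i, i < 29146 → fw i = true := below_step fw 29133 13 29146 wu2240 wc2241 rfl
theorem wc2242 : allBelow (fun k => fw (Nat.add 29146 k)) 13 = true := by decide +kernel
theorem wu2242 : ∀ i, i < 29159 → fw i = true := below_step fw 29146 13 29159 wu2241 wc2242 rfl
theorem wc2243 : allBelow (fun k => fw (Nat.add 29159 k)) 13 = true := by decide +kernel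
theorem wu2243 : ∀ i, i < 29172 → fw i = true := below_step fw 29159 13 29172 wu2242 wc2243 rfl
theorem wc2244 : allBelow (fun k => fw (Nat.add 29172 k)) 13 = true := by decide +kernel
theorem wu2244 : ∀ i, i < 29185 → fw i = true := below_step fw 29172 13 29185 wu2243 wc2244 rfl
theorem wc2245 : allBelow (fun k => fw (Nat.add 29185 k)) 13 = true := by decide +kernel
theorem wu2245 : ∀ i, i < 29198 → fw i = true := below_step fw 29185 13 29198 wu2244 wc2245 rfl
theorem wc2246 : allBelow (fun k => fw (Nat.add 29198 k)) 13 = true := by decide +kernel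
theorem wu2246 : ∀ i, i < 29211 → fw i = true := below_step fw 29198 13 29211 wu2245 wc2246 rfl
theorem wc2247 : allBelow (fun k => fw (Nat.add 29211 k)) 13 = true := by decide +kernel
theorem wu2247 : ∀ i, i < 29224 → fw i = true := below_step fw 29211 13 29224 wu2246 wc2247 rfl
theorem wc2248 : allBelow (fun k => fw (Nat.add 29224 k)) 13 = true := by decide +kernel
theorem wu2248 : ∀ i, i < 29237 → fw i = true := below_step fw 29224 13 29237 wu2247 wc2248 rfl
theorem wc2249 : allBelow (fun k => fw (Nat.add 29237 k)) 13 = true := by decide +kernel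
theorem wu2249 : ∀ i, i < 29250 → fw i = true := below_step fw 29237 13 29250 wu2248 wc2249 rfl
theorem wc2250 : allBelow (fun k => fw (Nat.add 29250 k)) 13 = true := by decide +kernel
theorem wu2250 : ∀ i, i < 29263 → fw i = true := below_step fw 29250 13 29263 wu2249 wc2250 rfl
theorem wc2251 : allBelow (fun k => fw (Nat.add 29263 k)) 13 = true := by decide +kernel
theorem wu2251 : ∀ i, i < 29276 → fw i = true := below_step fw 29263 13 29276 wu2250 wc2251 rfl
theorem wc2252 : allBelow (fun k => fw (Nat.add 29276 k)) 13 = true := by decide +kernel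
theorem wu2252 : ∀ i, i < 29289 → fw i = true := below_step fw 29276 13 29289 wu2251 wc2252 rfl
theorem wc2253 : allBelow (fun k => fw (Nat.add 29289 k)) 13 = true := by decide +kernel
theorem wu2253 : ∀ i, i < 29302 → fw i = true := below_step fw 29289 13 29302 wu2252 wc2253 rfl
theorem wc2254 : allBelow (fun k => fw (Nat.add 29302 k)) 13 = true := by decide +kernel
theorem wu2254 : ∀ i, i < 29315 → fw i = true := below_step fw 29302 13 29315 wu2253 wc2254 rfl
theorem wc2255 : allBelow (fun k => fw (Nat.add 29315 k)) 13 = true := by decide +kernel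
theorem wu2255 : ∀ i, i < 29328 → fw i = true := below_step fw 29315 13 29328 wu2254 wc2255 rfl
theorem wc2256 : allBelow (fun k => fw (Nat.add 29328 k)) 13 = true := by decide +kernel
theorem wu2256 : ∀ i, i < 29341 → fw i = true := below_step fw 29328 13 29341 wu2255 wc2256 rfl
theorem wc2257 : allBelow (fun k => fw (Nat.add 29341 k)) 13 = true := by decide +kernel
theorem wu2257 : ∀ i, i < 29354 → fw i = true := below_step fw 29341 13 29354 wu2256 wc2257 rfl
theorem wc2258 : allBelow (fun k => fw (Nat.add 29354 k)) 13 = true := by decide +kernel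
theorem wu2258 : ∀ i, i < 29367 → fw i = true := below_step fw 29354 13 29367 wu2257 wc2258 rfl
theorem wc2259 : allBelow (fun k => fw (Nat.add 29367 k)) 13 = true := by decide +kernel
theorem wu2259 : ∀ i, i < 29380 → fw i = true := below_step fw 29367 13 29380 wu2258 wc2259 rfl
theorem wc2260 : allBelow (fun k => fw (Nat.add 29380 k)) 13 = true := by decide +kernel
theorem wu2260 : ∀ i, i < 29393 → fw i = true := below_step fw 29380 13 29393 wu2259 wc2260 rfl
theorem wc2261 : allBelow (fun k => fw (Nat.add 29393 k)) 13 = true := by decide +kernel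
theorem wu2261 : ∀ i, i < 29406 → fw i = true := below_step fw 29393 13 29406 wu2260 wc2261 rfl
theorem wc2262 : allBelow (fun k => fw (Nat.add 29406 k)) 13 = true := by decide +kernel
theorem wu2262 : ∀ i, i < 29419 → fw i = true := below_step fw 29406 13 29419 wu2261 wc2262 rfl
theorem wc2263 : allBelow (fun k => fw (Nat.add 29419 k)) 13 = true := by decide +kernel
theorem wu2263 : ∀ i, i < 29432 → fw i = true := below_step fw 29419 13 29432 wu2262 wc2263 rfl
theorem wc2264 : allBelow (fun k => fw (Nat.add 29432 k)) 13 = true := by decide +kernel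
theorem wu2264 : ∀ i, i < 29445 → fw i = true := below_step fw 29432 13 29445 wu2263 wc2264 rfl
theorem wc2265 : allBelow (fun k => fw (Nat.add 29445 k)) 13 = true := by decide +kernel
theorem wu2265 : ∀ i, i < 29458 → fw i = true := below_step fw 29445 13 29458 wu2264 wc2265 rfl
theorem wc2266 : allBelow (fun k => fw (Nat.add 29458 k)) 13 = true := by decide +kernel
theorem wu2266 : ∀ i, i < 29471 → fw i = true := below_step fw 29458 13 29471 wu2265 wc2266 rfl
theorem wc2267 : allBelow (fun k => fw (Nat.add 29471 k)) 13 = true := by decide +kernel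
theorem wu2267 : ∀ i, i < 29484 → fw i = true := below_step fw 29471 13 29484 wu2266 wc2267 rfl
theorem wc2268 : allBelow (fun k => fw (Nat.add 29484 k)) 13 = true := by decide +kernel
theorem wu2268 : ∀ i, i < 29497 → fw i = true := below_step fw 29484 13 29497 wu2267 wc2268 rfl
theorem wc2269 : allBelow (fun k => fw (Nat.add 29497 k)) 13 = true := by decide +kernel
theorem wu2269 : ∀ i, i < 29510 → fw i = true := below_step fw 29497 13 29510 wu2268 wc2269 rfl
theorem wc2270 : allBelow (fun k => fw (Nat.add 29510 k)) 13 = true := by decide +kernel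
theorem wu2270 : ∀ i, i < 29523 → fw i = true := below_step fw 29510 13 29523 wu2269 wc2270 rfl
theorem wc2271 : allBelow (fun k => fw (Nat.add 29523 k)) 13 = true := by decide +kernel
theorem wu2271 : ∀ i, i < 29536 → fw i = true := below_step fw 29523 13 29536 wu2270 wc2271 rfl
theorem wc2272 : allBelow (fun k => fw (Nat.add 29536 k)) 13 = true := by decide +kernel
theorem wu2272 : ∀ i, i < 29549 → fw i = true := below_step fw 29536 13 29549 wu2271 wc2272 rfl
theorem wc2273 : allBelow (fun k => fw (Nat.add 29549 k)) 13 = true := by decide +kernel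
theorem wu2273 : ∀ i, i < 29562 → fw i = true := below_step fw 29549 13 29562 wu2272 wc2273 rfl
theorem wc2274 : allBelow (fun k => fw (Nat.add 29562 k)) 13 = true := by decide +kernel
theorem wu2274 : ∀ i, i < 29575 → fw i = true := below_step fw 29562 13 29575 wu2273 wc2274 rfl
theorem wc2275 : allBelow (fun k => fw (Nat.add 29575 k)) 13 = true := by decide +kernel
theorem wu2275 : ∀ i, i < 29588 → fw i = true := below_step fw 29575 13 29588 wu2274 wc2275 rfl
theorem wc2276 : allBelow (fun k => fw (Nat.add 29588 k)) 13 = true := by decide +kernel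
theorem wu2276 : ∀ i, i < 29601 → fw i = true := below_step fw 29588 13 29601 wu2275 wc2276 rfl
theorem wc2277 : allBelow (fun k => fw (Nat.add 29601 k)) 13 = true := by decide +kernel
theorem wu2277 : ∀ i, i < 29614 → fw i = true := below_step fw 29601 13 29614 wu2276 wc2277 rfl
theorem wc2278 : allBelow (fun k => fw (Nat.add 29614 k)) 13 = true := by decide +kernel
theorem wu2278 : ∀ i, i < 29627 → fw i = true := below_step fw 29614 13 29627 wu2277 wc2278 rfl
theorem wc2279 : allBelow (fun k => fw (Nat.add 29627 k)) 13 = true := by decide +kernel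
theorem wu2279 : ∀ i, i < 29640 → fw i = true := below_step fw 29627 13 29640 wu2278 wc2279 rfl
theorem wc2280 : allBelow (fun k => fw (Nat.add 29640 k)) 13 = true := by decide +kernel
theorem wu2280 : ∀ i, i < 29653 → fw i = true := below_step fw 29640 13 29653 wu2279 wc2280 rfl
theorem wc2281 : allBelow (fun k => fw (Nat.add 29653 k)) 13 = true := by decide +kernel
theorem wu2281 : ∀ i, i < 29666 → fw i = true := below_step fw 29653 13 29666 wu2280 wc2281 rfl
theorem wc2282 : allBelow (fun k => fw (Nat.add 29666 k)) 13 = true := by decide +kernel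
theorem wu2282 : ∀ i, i < 29679 → fw i = true := below_step fw 29666 13 29679 wu2281 wc2282 rfl
theorem wc2283 : allBelow (fun k => fw (Nat.add 29679 k)) 13 = true := by decide +kernel
theorem wu2283 : ∀ i, i < 29692 → fw i = true := below_step fw 29679 13 29692 wu2282 wc2283 rfl
theorem wc2284 : allBelow (fun k => fw (Nat.add 29692 k)) 13 = true := by decide +kernel
theorem wu2284 : ∀ i, i < 29705 → fw i = true := below_step fw 29692 13 29705 wu2283 wc2284 rfl
theorem wc2285 : allBelow (fun k => fw (Nat.add 29705 k)) 13 = true := by decide +kernel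
theorem wu2285 : ∀ i, i < 29718 → fw i = true := below_step fw 29705 13 29718 wu2284 wc2285 rfl
theorem wc2286 : allBelow (fun k => fw (Nat.add 29718 k)) 13 = true := by decide +kernel
theorem wu2286 : ∀ i, i < 29731 → fw i = true := below_step fw 29718 13 29731 wu2285 wc2286 rfl
theorem wc2287 : allBelow (fun k => fw (Nat.add 29731 k)) 13 = true := by decide +kernel
theorem wu2287 : ∀ i, i < 29744 → fw i = true := below_step fw 29731 13 29744 wu2286 wc2287 rfl
theorem wc2288 : allBelow (fun k => fw (Nat.add 29744 k)) 13 = true := by decide +kernel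
theorem wu2288 : ∀ i, i < 29757 → fw i = true := below_step fw 29744 13 29757 wu2287 wc2288 rfl
theorem wc2289 : allBelow (fun k => fw (Nat.add 29757 k)) 13 = true := by decide +kernel
theorem wu2289 : ∀ i, i < 29770 → fw i = true := below_step fw 29757 13 29770 wu2288 wc2289 rfl
theorem wc2290 : allBelow (fun k => fw (Nat.add 29770 k)) 13 = true := by decide +kernel
theorem wu2290 : ∀ i, i < 29783 → fw i = true := below_step fw 29770 13 29783 wu2289 wc2290 rfl
theorem wc2291 : allBelow (fun k => fw (Nat.add 29783 k)) 13 = true := by decide +kernel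
theorem wu2291 : ∀ i, i < 29796 → fw i = true := below_step fw 29783 13 29796 wu2290 wc2291 rfl
theorem wc2292 : allBelow (fun k => fw (Nat.add 29796 k)) 13 = true := by decide +kernel
theorem wu2292 : ∀ i, i < 29809 → fw i = true := below_step fw 29796 13 29809 wu2291 wc2292 rfl
theorem wc2293 : allBelow (fun k => fw (Nat.add 29809 k)) 13 = true := by decide +kernel
theorem wu2293 : ∀ i, i < 29822 → fw i = true := below_step fw 29809 13 29822 wu2292 wc2293 rfl
theorem wc2294 : allBelow (fun k => fw (Nat.add 29822 k)) 13 = true := by decide +kernel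
theorem wu2294 : ∀ i, i < 29835 → fw i = true := below_step fw 29822 13 29835 wu2293 wc2294 rfl
theorem wc2295 : allBelow (fun k => fw (Nat.add 29835 k)) 13 = true := by decide +kernel
theorem wu2295 : ∀ i, i < 29848 → fw i = true := below_step fw 29835 13 29848 wu2294 wc2295 rfl
theorem wc2296 : allBelow (fun k => fw (Nat.add 29848 k)) 13 = true := by decide +kernel
theorem wu2296 : ∀ i, i < 29861 → fw i = true := below_step fw 29848 13 29861 wu2295 wc2296 rfl
theorem wc2297 : allBelow (fun k => fw (Nat.add 29861 k)) 13 = true := by decide +kernel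
theorem wu2297 : ∀ i, i < 29874 → fw i = true := below_step fw 29861 13 29874 wu2296 wc2297 rfl
theorem wc2298 : allBelow (fun k => fw (Nat.add 29874 k)) 13 = true := by decide +kernel
theorem wu2298 : ∀ i, i < 29887 → fw i = true := below_step fw 29874 13 29887 wu2297 wc2298 rfl
theorem wc2299 : allBelow (fun k => fw (Nat.add 29887 k)) 13 = true := by decide +kernel
theorem wu2299 : ∀ i, i < 29900 → fw i = true := below_step fw 29887 13 29900 wu2298 wc2299 rfl
theorem wc2300 : allBelow (fun k => fw (Nat.add 29900 k)) 13 = true := by decide +kernel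
theorem wu2300 : ∀ i, i < 29913 → fw i = true := below_step fw 29900 13 29913 wu2299 wc2300 rfl
theorem wc2301 : allBelow (fun k => fw (Nat.add 29913 k)) 13 = true := by decide +kernel
theorem wu2301 : ∀ i, i < 29926 → fw i = true := below_step fw 29913 13 29926 wu2300 wc2301 rfl
theorem wc2302 : allBelow (fun k => fw (Nat.add 29926 k)) 13 = true := by decide +kernel
theorem wu2302 : ∀ i, i < 29939 → fw i = true := below_step fw 29926 13 29939 wu2301 wc2302 rfl
theorem wc2303 : allBelow (fun k => fw (Nat.add 29939 k)) 13 = true := by decide +kernel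
theorem wu2303 : ∀ i, i < 29952 → fw i = true := below_step fw 29939 13 29952 wu2302 wc2303 rfl
theorem wc2304 : allBelow (fun k => fw (Nat.add 29952 k)) 13 = true := by decide +kernel
theorem wu2304 : ∀ i, i < 29965 → fw i = true := below_step fw 29952 13 29965 wu2303 wc2304 rfl
theorem wc2305 : allBelow (fun k => fw (Nat.add 29965 k)) 13 = true := by decide +kernel
theorem wu2305 : ∀ i, i < 29978 → fw i = true := below_step fw 29965 13 29978 wu2304 wc2305 rfl
theorem wc2306 : allBelow (fun k => fw (Nat.add 29978 k)) 13 = true := by decide +kernel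
theorem wu2306 : ∀ i, i < 29991 → fw i = true := below_step fw 29978 13 29991 wu2305 wc2306 rfl
theorem wc2307 : allBelow (fun k => fw (Nat.add 29991 k)) 13 = true := by decide +kernel
theorem wu2307 : ∀ i, i < 30004 → fw i = true := below_step fw 29991 13 30004 wu2306 wc2307 rfl
theorem wc2308 : allBelow (fun k => fw (Nat.add 30004 k)) 13 = true := by decide +kernel
theorem wu2308 : ∀ i, i < 30017 → fw i = true := below_step fw 30004 13 30017 wu2307 wc2308 rfl
theorem wc2309 : allBelow (fun k => fw (Nat.add 30017 k)) 13 = true := by decide +kernel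
theorem wu2309 : ∀ i, i < 30030 → fw i = true := below_step fw 30017 13 30030 wu2308 wc2309 rfl
theorem wc2310 : allBelow (fun k => fw (Nat.add 30030 k)) 13 = true := by decide +kernel
theorem wu2310 : ∀ i, i < 30043 → fw i = true := below_step fw 30030 13 30043 wu2309 wc2310 rfl
theorem wc2311 : allBelow (fun k => fw (Nat.add 30043 k)) 13 = true := by decide +kernel
theorem wu2311 : ∀ i, i < 30056 → fw i = true := below_step fw 30043 13 30056 wu2310 wc2311 rfl
theorem wc2312 : allBelow (fun k => fw (Nat.add 30056 k)) 13 = true := by decide +kernel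
theorem wu2312 : ∀ i, i < 30069 → fw i = true := below_step fw 30056 13 30069 wu2311 wc2312 rfl
theorem wc2313 : allBelow (fun k => fw (Nat.add 30069 k)) 13 = true := by decide +kernel
theorem wu2313 : ∀ i, i < 30082 → fw i = true := below_step fw 30069 13 30082 wu2312 wc2313 rfl
theorem wc2314 : allBelow (fun k => fw (Nat.add 30082 k)) 13 = true := by decide +kernel
theorem wu2314 : ∀ i, i < 30095 → fw i = true := below_step fw 30082 13 30095 wu2313 wc2314 rfl
theorem wc2315 : allBelow (fun k => fw (Nat.add 30095 k)) 13 = true := by decide +kernel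
theorem wu2315 : ∀ i, i < 30108 → fw i = true := below_step fw 30095 13 30108 wu2314 wc2315 rfl
theorem wc2316 : allBelow (fun k => fw (Nat.add 30108 k)) 13 = true := by decide +kernel
theorem wu2316 : ∀ i, i < 30121 → fw i = true := below_step fw 30108 13 30121 wu2315 wc2316 rfl
theorem wc2317 : allBelow (fun k => fw (Nat.add 30121 k)) 13 = true := by decide +kernel
theorem wu2317 : ∀ i, i < 30134 → fw i = true := below_step fw 30121 13 30134 wu2316 wc2317 rfl
theorem wc2318 : allBelow (fun k => fw (Nat.add 30134 k)) 13 = true := by decide +kernel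
theorem wu2318 : ∀ i, i < 30147 → fw i = true := below_step fw 30134 13 30147 wu2317 wc2318 rfl
theorem wc2319 : allBelow (fun k => fw (Nat.add 30147 k)) 13 = true := by decide +kernel
theorem wu2319 : ∀ i, i < 30160 → fw i = true := below_step fw 30147 13 30160 wu2318 wc2319 rfl
theorem wc2320 : allBelow (fun k => fw (Nat.add 30160 k)) 13 = true := by decide +kernel
theorem wu2320 : ∀ i, i < 30173 → fw i = true := below_step fw 30160 13 30173 wu2319 wc2320 rfl
theorem wc2321 : allBelow (fun k => fw (Nat.add 30173 k)) 13 = true := by decide +kernel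
theorem wu2321 : ∀ i, i < 30186 → fw i = true := below_step fw 30173 13 30186 wu2320 wc2321 rfl
theorem wc2322 : allBelow (fun k => fw (Nat.add 30186 k)) 13 = true := by decide +kernel
theorem wu2322 : ∀ i, i < 30199 → fw i = true := below_step fw 30186 13 30199 wu2321 wc2322 rfl
theorem wc2323 : allBelow (fun k => fw (Nat.add 30199 k)) 13 = true := by decide +kernel
theorem wu2323 : ∀ i, i < 30212 → fw i = true := below_step fw 30199 13 30212 wu2322 wc2323 rfl
theorem wc2324 : allBelow (fun k => fw (Nat.add 30212 k)) 13 = true := by decide +kernel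
theorem wu2324 : ∀ i, i < 30225 → fw i = true := below_step fw 30212 13 30225 wu2323 wc2324 rfl
theorem wc2325 : allBelow (fun k => fw (Nat.add 30225 k)) 13 = true := by decide +kernel
theorem wu2325 : ∀ i, i < 30238 → fw i = true := below_step fw 30225 13 30238 wu2324 wc2325 rfl
theorem wc2326 : allBelow (fun k => fw (Nat.add 30238 k)) 13 = true := by decide +kernel
theorem wu2326 : ∀ i, i < 30251 → fw i = true := below_step fw 30238 13 30251 wu2325 wc2326 rfl
theorem wc2327 : allBelow (fun k => fw (Nat.add 30251 k)) 13 = true := by decide +kernel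
theorem wu2327 : ∀ i, i < 30264 → fw i = true := below_step fw 30251 13 30264 wu2326 wc2327 rfl
theorem wc2328 : allBelow (fun k => fw (Nat.add 30264 k)) 13 = true := by decide +kernel
theorem wu2328 : ∀ i, i < 30277 → fw i = true := below_step fw 30264 13 30277 wu2327 wc2328 rfl
theorem wc2329 : allBelow (fun k => fw (Nat.add 30277 k)) 13 = true := by decide +kernel
theorem wu2329 : ∀ i, i < 30290 → fw i = true := below_step fw 30277 13 30290 wu2328 wc2329 rfl
theorem wc2330 : allBelow (fun k => fw (Nat.add 30290 k)) 13 = true := by decide +kernel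
theorem wu2330 : ∀ i, i < 30303 → fw i = true := below_step fw 30290 13 30303 wu2329 wc2330 rfl
theorem wc2331 : allBelow (fun k => fw (Nat.add 30303 k)) 13 = true := by decide +kernel
theorem wu2331 : ∀ i, i < 30316 → fw i = true := below_step fw 30303 13 30316 wu2330 wc2331 rfl
theorem wc2332 : allBelow (fun k => fw (Nat.add 30316 k)) 13 = true := by decide +kernel
theorem wu2332 : ∀ i, i < 30329 → fw i = true := below_step fw 30316 13 30329 wu2331 wc2332 rfl
theorem wc2333 : allBelow (fun k => fw (Nat.add 30329 k)) 13 = true := by decide +kernel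
theorem wu2333 : ∀ i, i < 30342 → fw i = true := below_step fw 30329 13 30342 wu2332 wc2333 rfl
theorem wc2334 : allBelow (fun k => fw (Nat.add 30342 k)) 13 = true := by decide +kernel
theorem wu2334 : ∀ i, i < 30355 → fw i = true := below_step fw 30342 13 30355 wu2333 wc2334 rfl
theorem wc2335 : allBelow (fun k => fw (Nat.add 30355 k)) 13 = true := by decide +kernel
theorem wu2335 : ∀ i, i < 30368 → fw i = true := below_step fw 30355 13 30368 wu2334 wc2335 rfl
theorem wc2336 : allBelow (fun k => fw (Nat.add 30368 k)) 13 = true := by decide +kernel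
theorem wu2336 : ∀ i, i < 30381 → fw i = true := below_step fw 30368 13 30381 wu2335 wc2336 rfl
theorem wc2337 : allBelow (fun k => fw (Nat.add 30381 k)) 13 = true := by decide +kernel
theorem wu2337 : ∀ i, i < 30394 → fw i = true := below_step fw 30381 13 30394 wu2336 wc2337 rfl
theorem wc2338 : allBelow (fun k => fw (Nat.add 30394 k)) 13 = true := by decide +kernel
theorem wu2338 : ∀ i, i < 30407 → fw i = true := below_step fw 30394 13 30407 wu2337 wc2338 rfl
theorem wc2339 : allBelow (fun k => fw (Nat.add 30407 k)) 13 = true := by decide +kernel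
theorem wu2339 : ∀ i, i < 30420 → fw i = true := below_step fw 30407 13 30420 wu2338 wc2339 rfl
theorem wc2340 : allBelow (fun k => fw (Nat.add 30420 k)) 13 = true := by decide +kernel
theorem wu2340 : ∀ i, i < 30433 → fw i = true := below_step fw 30420 13 30433 wu2339 wc2340 rfl
theorem wc2341 : allBelow (fun k => fw (Nat.add 30433 k)) 13 = true := by decide +kernel
theorem wu2341 : ∀ i, i < 30446 → fw i = true := below_step fw 30433 13 30446 wu2340 wc2341 rfl
theorem wc2342 : allBelow (fun k => fw (Nat.add 30446 k)) 13 = true := by decide +kernel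
theorem wu2342 : ∀ i, i < 30459 → fw i = true := below_step fw 30446 13 30459 wu2341 wc2342 rfl
theorem wc2343 : allBelow (fun k => fw (Nat.add 30459 k)) 13 = true := by decide +kernel
theorem wu2343 : ∀ i, i < 30472 → fw i = true := below_step fw 30459 13 30472 wu2342 wc2343 rfl
theorem wc2344 : allBelow (fun k => fw (Nat.add 30472 k)) 13 = true := by decide +kernel
theorem wu2344 : ∀ i, i < 30485 → fw i = true := below_step fw 30472 13 30485 wu2343 wc2344 rfl
theorem wc2345 : allBelow (fun k => fw (Nat.add 30485 k)) 13 = true := by decide +kernel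
theorem wu2345 : ∀ i, i < 30498 → fw i = true := below_step fw 30485 13 30498 wu2344 wc2345 rfl
theorem wc2346 : allBelow (fun k => fw (Nat.add 30498 k)) 13 = true := by decide +kernel
theorem wu2346 : ∀ i, i < 30511 → fw i = true := below_step fw 30498 13 30511 wu2345 wc2346 rfl
theorem wc2347 : allBelow (fun k => fw (Nat.add 30511 k)) 13 = true := by decide +kernel
theorem wu2347 : ∀ i, i < 30524 → fw i = true := below_step fw 30511 13 30524 wu2346 wc2347 rfl
theorem wc2348 : allBelow (fun k => fw (Nat.add 30524 k)) 13 = true := by decide +kernel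
theorem wu2348 : ∀ i, i < 30537 → fw i = true := below_step fw 30524 13 30537 wu2347 wc2348 rfl
theorem wc2349 : allBelow (fun k => fw (Nat.add 30537 k)) 13 = true := by decide +kernel
theorem wu2349 : ∀ i, i < 30550 → fw i = true := below_step fw 30537 13 30550 wu2348 wc2349 rfl
theorem wc2350 : allBelow (fun k => fw (Nat.add 30550 k)) 13 = true := by decide +kernel
theorem wu2350 : ∀ i, i < 30563 → fw i = true := below_step fw 30550 13 30563 wu2349 wc2350 rfl
theorem wc2351 : allBelow (fun k => fw (Nat.add 30563 k)) 13 = true := by decide +kernel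
theorem wu2351 : ∀ i, i < 30576 → fw i = true := below_step fw 30563 13 30576 wu2350 wc2351 rfl
theorem wc2352 : allBelow (fun k => fw (Nat.add 30576 k)) 13 = true := by decide +kernel
theorem wu2352 : ∀ i, i < 30589 → fw i = true := below_step fw 30576 13 30589 wu2351 wc2352 rfl
theorem wc2353 : allBelow (fun k => fw (Nat.add 30589 k)) 13 = true := by decide +kernel
theorem wu2353 : ∀ i, i < 30602 → fw i = true := below_step fw 30589 13 30602 wu2352 wc2353 rfl
theorem wc2354 : allBelow (fun k => fw (Nat.add 30602 k)) 13 = true := by decide +kernel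
theorem wu2354 : ∀ i, i < 30615 → fw i = true := below_step fw 30602 13 30615 wu2353 wc2354 rfl
theorem wc2355 : allBelow (fun k => fw (Nat.add 30615 k)) 13 = true := by decide +kernel
theorem wu2355 : ∀ i, i < 30628 → fw i = true := below_step fw 30615 13 30628 wu2354 wc2355 rfl
theorem wc2356 : allBelow (fun k => fw (Nat.add 30628 k)) 13 = true := by decide +kernel
theorem wu2356 : ∀ i, i < 30641 → fw i = true := below_step fw 30628 13 30641 wu2355 wc2356 rfl
theorem wc2357 : allBelow (fun k => fw (Nat.add 30641 k)) 13 = true := by decide +kernel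
theorem wu2357 : ∀ i, i < 30654 → fw i = true := below_step fw 30641 13 30654 wu2356 wc2357 rfl
theorem wc2358 : allBelow (fun k => fw (Nat.add 30654 k)) 13 = true := by decide +kernel
theorem wu2358 : ∀ i, i < 30667 → fw i = true := below_step fw 30654 13 30667 wu2357 wc2358 rfl
theorem wc2359 : allBelow (fun k => fw (Nat.add 30667 k)) 13 = true := by decide +kernel
theorem wu2359 : ∀ i, i < 30680 → fw i = true := below_step fw 30667 13 30680 wu2358 wc2359 rfl
theorem wc2360 : allBelow (fun k => fw (Nat.add 30680 k)) 13 = true := by decide +kernel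
theorem wu2360 : ∀ i, i < 30693 → fw i = true := below_step fw 30680 13 30693 wu2359 wc2360 rfl
theorem wc2361 : allBelow (fun k => fw (Nat.add 30693 k)) 13 = true := by decide +kernel
theorem wu2361 : ∀ i, i < 30706 → fw i = true := below_step fw 30693 13 30706 wu2360 wc2361 rfl
theorem wc2362 : allBelow (fun k => fw (Nat.add 30706 k)) 13 = true := by decide +kernel
theorem wu2362 : ∀ i, i < 30719 → fw i = true := below_step fw 30706 13 30719 wu2361 wc2362 rfl
theorem wc2363 : allBelow (fun k => fw (Nat.add 30719 k)) 13 = true := by decide +kernel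
theorem wu2363 : ∀ i, i < 30732 → fw i = true := below_step fw 30719 13 30732 wu2362 wc2363 rfl
theorem wc2364 : allBelow (fun k => fw (Nat.add 30732 k)) 13 = true := by decide +kernel
theorem wu2364 : ∀ i, i < 30745 → fw i = true := below_step fw 30732 13 30745 wu2363 wc2364 rfl

end Cfsg.Agent.Lib.Helper35.Fi23Ord.X0
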