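import Cfsg.Agent.Lib.Helper35.Fi23Ord.X0.Chk11

set_option Elab.async false

namespace Cfsg.Agent.Lib.Helper35.Fi23Ord.X0

open Cfsg.Agent.Lib.Helper35

theorem wc2365 : allBelow (fun k => fw (Nat.add 30745 k)) 13 = true := by decide +kernel
theorem wu2365 : ∀ i, i < 30758 → fw i = true := below_step fw 30745 13 30758 wu2364 wc2365 rfl
theorem wc2366 : allBelow (fun k => fw (Nat.add 30758 k)) 13 = true := by decide +kernel
theorem wu2366 : ∀ i, i < 30771 → fw i = true := below_step fw 30758 13 30771 wu2365 wc2366 rfl
theorem wc2367 : allBelow (fun k => fw (Nat.add 30771 k)) 13 = true := by decide +kernel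
theorem wu2367 : ∀ i, i < 30784 → fw i = true := below_step fw 30771 13 30784 wu2366 wc2367 rfl
theorem wc2368 : allBelow (fun k => fw (Nat.add 30784 k)) 13 = true := by decide +kernel
theorem wu2368 : ∀ i, i < 30797 → fw i = true := below_step fw 30784 13 30797 wu2367 wc2368 rfl
theorem wc2369 : allBelow (fun k => fw (Nat.add 30797 k)) 13 = true := by decide +kernel
theorem wu2369 : ∀ i, i < 30810 → fw i = true := below_step fw 30797 13 30810 wu2368 wc2369 rfl
theorem wc2370 : allBelow (fun k => fw (Nat.add 30810 k)) 13 = true := by decide +kernel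
theorem wu2370 : ∀ i, i < 30823 → fw i = true := below_step fw 30810 13 30823 wu2369 wc2370 rfl
theorem wc2371 : allBelow (fun k => fw (Nat.add 30823 k)) 13 = true := by decide +kernel
theorem wu2371 : ∀ i, i < 30836 → fw i = true := below_step fw 30823 13 30836 wu2370 wc2371 rfl
theorem wc2372 : allBelow (fun k => fw (Nat.add 30836 k)) 13 = true := by decide +kernel
theorem wu2372 : ∀ i, i < 30849 → fw i = true := below_step fw 30836 13 30849 wu2371 wc2372 rfl
theorem wc2373 : allBelow (fun k => fw (Nat.add 30849 k)) 13 = true := by decide +kernel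
theorem wu2373 : ∀ i, i < 30862 → fw i = true := below_step fw 30849 13 30862 wu2372 wc2373 rfl
theorem wc2374 : allBelow (fun k => fw (Nat.add 30862 k)) 13 = true := by decide +kernel
theorem wu2374 : ∀ i, i < 30875 → fw i = true := below_step fw 30862 13 30875 wu2373 wc2374 rfl
theorem wc2375 : allBelow (fun k => fw (Nat.add 30875 k)) 13 = true := by decide +kernel
theorem wu2375 : ∀ i, i < 30888 → fw i = true := below_step fw 30875 13 30888 wu2374 wc2375 rfl
theorem wc2376 : allBelow (fun k => fw (Nat.add 30888 k)) 13 = true := by decide +kernel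
theorem wu2376 : ∀ i, i < 30901 → fw i = true := below_step fw 30888 13 30901 wu2375 wc2376 rfl
theorem wc2377 : allBelow (fun k => fw (Nat.add 30901 k)) 13 = true := by decide +kernel
theorem wu2377 : ∀ i, i < 30914 → fw i = true := below_step fw 30901 13 30914 wu2376 wc2377 rfl
theorem wc2378 : allBelow (fun k => fw (Nat.add 30914 k)) 13 = true := by decide +kernel
theorem wu2378 : ∀ i, i < 30927 → fw i = true := below_step fw 30914 13 30927 wu2377 wc2378 rfl
theorem wc2379 : allBelow (fun k => fw (Nat.add 30927 k)) 13 = true := by decide +kernel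
theorem wu2379 : ∀ i, i < 30940 → fw i = true := below_step fw 30927 13 30940 wu2378 wc2379 rfl
theorem wc2380 : allBelow (fun k => fw (Nat.add 30940 k)) 13 = true := by decide +kernel
theorem wu2380 : ∀ i, i < 30953 → fw i = true := below_step fw 30940 13 30953 wu2379 wc2380 rfl
theorem wc2381 : allBelow (fun k => fw (Nat.add 30953 k)) 13 = true := by decide +kernel
theorem wu2381 : ∀ i, i < 30966 → fw i = true := below_step fw 30953 13 30966 wu2380 wc2381 rfl
theorem wc2382 : allBelow (fun k => fw (Nat.add 30966 k)) 13 = true := by decide +kernel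
theorem wu2382 : ∀ i, i < 30979 → fw i = true := below_step fw 30966 13 30979 wu2381 wc2382 rfl
theorem wc2383 : allBelow (fun k => fw (Nat.add 30979 k)) 13 = true := by decide +kernel
theorem wu2383 : ∀ i, i < 30992 → fw i = true := below_step fw 30979 13 30992 wu2382 wc2383 rfl
theorem wc2384 : allBelow (fun k => fw (Nat.add 30992 k)) 13 = true := by decide +kernel
theorem wu2384 : ∀ i, i < 31005 → fw i = true := below_step fw 30992 13 31005 wu2383 wc2384 rfl
theorem wc2385 : allBelow (fun k => fw (Nat.add 31005 k)) 13 = true := by decide +kernel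
theorem wu2385 : ∀ i, i < 31018 → fw i = true := below_step fw 31005 13 31018 wu2384 wc2385 rfl
theorem wc2386 : allBelow (fun k => fw (Nat.add 31018 k)) 13 = true := by decide +kernel
theorem wu2386 : ∀ i, i < 31031 → fw i = true := below_step fw 31018 13 31031 wu2385 wc2386 rfl
theorem wc2387 : allBelow (fun k => fw (Nat.add 31031 k)) 13 = true := by decide +kernel
theorem wu2387 : ∀ i, i < 31044 → fw i = true := below_step fw 31031 13 31044 wu2386 wc2387 rfl
theorem wc2388 : allBelow (fun k => fw (Nat.add 31044 k)) 13 = true := by decide +kernel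
theorem wu2388 : ∀ i, i < 31057 → fw i = true := below_step fw 31044 13 31057 wu2387 wc2388 rfl
theorem wc2389 : allBelow (fun k => fw (Nat.add 31057 k)) 13 = true := by decide +kernel
theorem wu2389 : ∀ i, i < 31070 → fw i = true := below_step fw 31057 13 31070 wu2388 wc2389 rfl
theorem wc2390 : allBelow (fun k => fw (Nat.add 31070 k)) 13 = true := by decide +kernel
theorem wu2390 : ∀ i, i < 31083 → fw i = true := below_step fw 31070 13 31083 wu2389 wc2390 rfl
theorem wc2391 : allBelow (fun k => fw (Nat.add 31083 k)) 13 = true := by decide +kernel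
theorem wu2391 : ∀ i, i < 31096 → fw i = true := below_step fw 31083 13 31096 wu2390 wc2391 rfl
theorem wc2392 : allBelow (fun k => fw (Nat.add 31096 k)) 13 = true := by decide +kernel
theorem wu2392 : ∀ i, i < 31109 → fw i = true := below_step fw 31096 13 31109 wu2391 wc2392 rfl
theorem wc2393 : allBelow (fun k => fw (Nat.add 31109 k)) 13 = true := by decide +kernel
theorem wu2393 : ∀ i, i < 31122 → fw i = true := below_step fw 31109 13 31122 wu2392 wc2393 rfl
theorem wc2394 : allBelow (fun k => fw (Nat.add 31122 k)) 13 = true := by decide +kernel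
theorem wu2394 : ∀ i, i < 31135 → fw i = true := below_step fw 31122 13 31135 wu2393 wc2394 rfl
theorem wc2395 : allBelow (fun k => fw (Nat.add 31135 k)) 13 = true := by decide +kernel
theorem wu2395 : ∀ i, i < 31148 → fw i = true := below_step fw 31135 13 31148 wu2394 wc2395 rfl
theorem wc2396 : allBelow (fun k => fw (Nat.add 31148 k)) 13 = true := by decide +kernel
theorem wu2396 : ∀ i, i < 31161 → fw i = true := below_step fw 31148 13 31161 wu2395 wc2396 rfl
theorem wc2397 : allBelow (fun k => fw (Nat.add 31161 k)) 13 = true := by decide +kernel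
theorem wu2397 : ∀ i, i < 31174 → fw i = true := below_step fw 31161 13 31174 wu2396 wc2397 rfl
theorem wc2398 : allBelow (fun k => fw (Nat.add 31174 k)) 13 = true := by decide +kernel
theorem wu2398 : ∀ i, i < 31187 → fw i = true := below_step fw 31174 13 31187 wu2397 wc2398 rfl
theorem wc2399 : allBelow (fun k => fw (Nat.add 31187 k)) 13 = true := by decide +kernel
theorem wu2399 : ∀ i, i < 31200 → fw i = true := below_step fw 31187 13 31200 wu2398 wc2399 rfl
theorem wc2400 : allBelow (fun k => fw (Nat.add 31200 k)) 13 = true := by decide +kernel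
theorem wu2400 : ∀ i, i < 31213 → fw i = true := below_step fw 31200 13 31213 wu2399 wc2400 rfl
theorem wc2401 : allBelow (fun k => fw (Nat.add 31213 k)) 13 = true := by decide +kernel
theorem wu2401 : ∀ i, i < 31226 → fw i = true := below_step fw 31213 13 31226 wu2400 wc2401 rfl
theorem wc2402 : allBelow (fun k => fw (Nat.add 31226 k)) 13 = true := by decide +kernel
theorem wu2402 : ∀ i, i < 31239 → fw i = true := below_step fw 31226 13 31239 wu2401 wc2402 rfl
theorem wc2403 : allBelow (fun k => fw (Nat.add 31239 k)) 13 = true := by decide +kernel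
theorem wu2403 : ∀ i, i < 31252 → fw i = true := below_step fw 31239 13 31252 wu2402 wc2403 rfl
theorem wc2404 : allBelow (fun k => fw (Nat.add 31252 k)) 13 = true := by decide +kernel
theorem wu2404 : ∀ i, i < 31265 → fw i = true := below_step fw 31252 13 31265 wu2403 wc2404 rfl
theorem wc2405 : allBelow (fun k => fw (Nat.add 31265 k)) 13 = true := by decide +kernel
theorem wu2405 : ∀ i, i < 31278 → fw i = true := below_step fw 31265 13 31278 wu2404 wc2405 rfl
theorem wc2406 : allBelow (fun k => fw (Nat.add 31278 k)) 13 = true := by decide +kernel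
theorem wu2406 : ∀ i, i < 31291 → fw i = true := below_step fw 31278 13 31291 wu2405 wc2406 rfl
theorem wc2407 : allBelow (fun k => fw (Nat.add 31291 k)) 13 = true := by decide +kernel
theorem wu2407 : ∀ i, i < 31304 → fw i = true := below_step fw 31291 13 31304 wu2406 wc2407 rfl
theorem wc2408 : allBelow (fun k => fw (Nat.add 31304 k)) 13 = true := by decide +kernel
theorem wu2408 : ∀ i, i < 31317 → fw i = true := below_step fw 31304 13 31317 wu2407 wc2408 rfl
theorem wc2409 : allBelow (fun k => fw (Nat.add 31317 k)) 13 = true := by decide +kernel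
theorem wu2409 : ∀ i, i < 31330 → fw i = true := below_step fw 31317 13 31330 wu2408 wc2409 rfl
theorem wc2410 : allBelow (fun k => fw (Nat.add 31330 k)) 13 = true := by decide +kernel
theorem wu2410 : ∀ i, i < 31343 → fw i = true := below_step fw 31330 13 31343 wu2409 wc2410 rfl
theorem wc2411 : allBelow (fun k => fw (Nat.add 31343 k)) 13 = true := by decide +kernel
theorem wu2411 : ∀ i, i < 31356 → fw i = true := below_step fw 31343 13 31356 wu2410 wc2411 rfl
theorem wc2412 : allBelow (fun k => fw (Nat.add 31356 k)) 13 = true := by decide +kernel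
theorem wu2412 : ∀ i, i < 31369 → fw i = true := below_step fw 31356 13 31369 wu2411 wc2412 rfl
theorem wc2413 : allBelow (fun k => fw (Nat.add 31369 k)) 13 = true := by decide +kernel
theorem wu2413 : ∀ i, i < 31382 → fw i = true := below_step fw 31369 13 31382 wu2412 wc2413 rfl
theorem wc2414 : allBelow (fun k => fw (Nat.add 31382 k)) 13 = true := by decide +kernel
theorem wu2414 : ∀ i, i < 31395 → fw i = true := below_step fw 31382 13 31395 wu2413 wc2414 rfl
theorem wc2415 : allBelow (fun k => fw (Nat.add 31395 k)) 13 = true := by decide +kernel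
theorem wu2415 : ∀ i, i < 31408 → fw i = true := below_step fw 31395 13 31408 wu2414 wc2415 rfl
theorem wc2416 : allBelow (fun k => fw (Nat.add 31408 k)) 13 = true := by decide +kernel
theorem wu2416 : ∀ i, i < 31421 → fw i = true := below_step fw 31408 13 31421 wu2415 wc2416 rfl
theorem wc2417 : allBelow (fun k => fw (Nat.add 31421 k)) 13 = true := by decide +kernel
theorem wu2417 : ∀ i, i < 31434 → fw i = true := below_step fw 31421 13 31434 wu2416 wc2417 rfl
theorem wc2418 : allBelow (fun k => fw (Nat.add 31434 k)) 13 = true := by decide +kernel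
theorem wu2418 : ∀ i, i < 31447 → fw i = true := below_step fw 31434 13 31447 wu2417 wc2418 rfl
theorem wc2419 : allBelow (fun k => fw (Nat.add 31447 k)) 13 = true := by decide +kernel
theorem wu2419 : ∀ i, i < 31460 → fw i = true := below_step fw 31447 13 31460 wu2418 wc2419 rfl
theorem wc2420 : allBelow (fun k => fw (Nat.add 31460 k)) 13 = true := by decide +kernel
theorem wu2420 : ∀ i, i < 31473 → fw i = true := below_step fw 31460 13 31473 wu2419 wc2420 rfl
theorem wc2421 : allBelow (fun k => fw (Nat.add 31473 k)) 13 = true := by decide +kernel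
theorem wu2421 : ∀ i, i < 31486 → fw i = true := below_step fw 31473 13 31486 wu2420 wc2421 rfl
theorem wc2422 : allBelow (fun k => fw (Nat.add 31486 k)) 13 = true := by decide +kernel
theorem wu2422 : ∀ i, i < 31499 → fw i = true := below_step fw 31486 13 31499 wu2421 wc2422 rfl
theorem wc2423 : allBelow (fun k => fw (Nat.add 31499 k)) 13 = true := by decide +kernel
theorem wu2423 : ∀ i, i < 31512 → fw i = true := below_step fw 31499 13 31512 wu2422 wc2423 rfl
theorem wc2424 : allBelow (fun k => fw (Nat.add 31512 k)) 13 = true := by decide +kernel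
theorem wu2424 : ∀ i, i < 31525 → fw i = true := below_step fw 31512 13 31525 wu2423 wc2424 rfl
theorem wc2425 : allBelow (fun k => fw (Nat.add 31525 k)) 13 = true := by decide +kernel
theorem wu2425 : ∀ i, i < 31538 → fw i = true := below_step fw 31525 13 31538 wu2424 wc2425 rfl
theorem wc2426 : allBelow (fun k => fw (Nat.add 31538 k)) 13 = true := by decide +kernel
theorem wu2426 : ∀ i, i < 31551 → fw i = true := below_step fw 31538 13 31551 wu2425 wc2426 rfl
theorem wc2427 : allBelow (fun k => fw (Nat.add 31551 k)) 13 = true := by decide +kernel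
theorem wu2427 : ∀ i, i < 31564 → fw i = true := below_step fw 31551 13 31564 wu2426 wc2427 rfl
theorem wc2428 : allBelow (fun k => fw (Nat.add 31564 k)) 13 = true := by decide +kernel
theorem wu2428 : ∀ i, i < 31577 → fw i = true := below_step fw 31564 13 31577 wu2427 wc2428 rfl
theorem wc2429 : allBelow (fun k => fw (Nat.add 31577 k)) 13 = true := by decide +kernel
theorem wu2429 : ∀ i, i < 31590 → fw i = true := below_step fw 31577 13 31590 wu2428 wc2429 rfl
theorem wc2430 : allBelow (fun k => fw (Nat.add 31590 k)) 13 = true := by decide +kernel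
theorem wu2430 : ∀ i, i < 31603 → fw i = true := below_step fw 31590 13 31603 wu2429 wc2430 rfl
theorem wc2431 : allBelow (fun k => fw (Nat.add 31603 k)) 13 = true := by decide +kernel
theorem wu2431 : ∀ i, i < 31616 → fw i = true := below_step fw 31603 13 31616 wu2430 wc2431 rfl
theorem wc2432 : allBelow (fun k => fw (Nat.add 31616 k)) 13 = true := by decide +kernel
theorem wu2432 : ∀ i, i < 31629 → fw i = true := below_step fw 31616 13 31629 wu2431 wc2432 rfl
theorem wc2433 : allBelow (fun k => fw (Nat.add 31629 k)) 13 = true := by decide +kernel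
theorem wu2433 : ∀ i, i < 31642 → fw i = true := below_step fw 31629 13 31642 wu2432 wc2433 rfl
theorem wc2434 : allBelow (fun k => fw (Nat.add 31642 k)) 13 = true := by decide +kernel
theorem wu2434 : ∀ i, i < 31655 → fw i = true := below_step fw 31642 13 31655 wu2433 wc2434 rfl
theorem wc2435 : allBelow (fun k => fw (Nat.add 31655 k)) 13 = true := by decide +kernel
theorem wu2435 : ∀ i, i < 31668 → fw i = true := below_step fw 31655 13 31668 wu2434 wc2435 rfl
theorem wc2436 : allBelow (fun k => fw (Nat.add 31668 k)) 3 = true := by decide +kernel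
theorem wu2436 : ∀ i, i < 31671 → fw i = true := below_step fw 31668 3 31671 wu2435 wc2436 rfl

end Cfsg.Agent.Lib.Helper35.Fi23Ord.X0
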