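import Cfsg.Agent.Lib.Helper35.Fi23Ord.X0.Chk1

set_option Elab.async false

namespace Cfsg.Agent.Lib.Helper35.Fi23Ord.X0

open Cfsg.Agent.Lib.Helper35

theorem y0c442 : allBelow (fun k => fy0 (Nat.add 28730 k)) 65 = true := by decide +kernel
theorem y0u442 : ∀ i, i < 28795 → fy0 i = true := below_step fy0 28730 65 28795 y0u441 y0c442 rfl
theorem y0c443 : allBelow (fun k => fy0 (Nat.add 28795 k)) 65 = true := by decide +kernel
theorem y0u443 : ∀ i, i < 28860 → fy0 i = true := below_step fy0 28795 65 28860 y0u442 y0c443 rfl
theorem y0c444 : allBelow (fun k => fy0 (Nat.add 28860 k)) 65 = true := by decide +kernel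
theorem y0u444 : ∀ i, i < 28925 → fy0 i = true := below_step fy0 28860 65 28925 y0u443 y0c444 rfl
theorem y0c445 : allBelow (fun k => fy0 (Nat.add 28925 k)) 65 = true := by decide +kernel
theorem y0u445 : ∀ i, i < 28990 → fy0 i = true := below_step fy0 28925 65 28990 y0u444 y0c445 rfl
theorem y0c446 : allBelow (fun k => fy0 (Nat.add 28990 k)) 65 = true := by decide +kernel
theorem y0u446 : ∀ i, i < 29055 → fy0 i = true := below_step fy0 28990 65 29055 y0u445 y0c446 rfl
theorem y0c447 : allBelow (fun k => fy0 (Nat.add 29055 k)) 65 = true := by decide +kernel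
theorem y0u447 : ∀ i, i < 29120 → fy0 i = true := below_step fy0 29055 65 29120 y0u446 y0c447 rfl
theorem y0c448 : allBelow (fun k => fy0 (Nat.add 29120 k)) 65 = true := by decide +kernel
theorem y0u448 : ∀ i, i < 29185 → fy0 i = true := below_step fy0 29120 65 29185 y0u447 y0c448 rfl
theorem y0c449 : allBelow (fun k => fy0 (Nat.add 29185 k)) 65 = true := by decide +kernel
theorem y0u449 : ∀ i, i < 29250 → fy0 i = true := below_step fy0 29185 65 29250 y0u448 y0c449 rfl
theorem y0c450 : allBelow (fun k => fy0 (Nat.add 29250 k)) 65 = true := by decide +kernel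
theorem y0u450 : ∀ i, i < 29315 → fy0 i = true := below_step fy0 29250 65 29315 y0u449 y0c450 rfl
theorem y0c451 : allBelow (fun k => fy0 (Nat.add 29315 k)) 65 = true := by decide +kernel
theorem y0u451 : ∀ i, i < 29380 → fy0 i = true := below_step fy0 29315 65 29380 y0u450 y0c451 rfl
theorem y0c452 : allBelow (fun k => fy0 (Nat.add 29380 k)) 65 = true := by decide +kernel
theorem y0u452 : ∀ i, i < 29445 → fy0 i = true := below_step fy0 29380 65 29445 y0u451 y0c452 rfl
theorem y0c453 : allBelow (fun k => fy0 (Nat.add 29445 k)) 65 = true := by decide +kernel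
theorem y0u453 : ∀ i, i < 29510 → fy0 i = true := below_step fy0 29445 65 29510 y0u452 y0c453 rfl
theorem y0c454 : allBelow (fun k => fy0 (Nat.add 29510 k)) 65 = true := by decide +kernel
theorem y0u454 : ∀ i, i < 29575 → fy0 i = true := below_step fy0 29510 65 29575 y0u453 y0c454 rfl
theorem y0c455 : allBelow (fun k => fy0 (Nat.add 29575 k)) 65 = true := by decide +kernel
theorem y0u455 : ∀ i, i < 29640 → fy0 i = true := below_step fy0 29575 65 29640 y0u454 y0c455 rfl
theorem y0c456 : allBelow (fun k => fy0 (Nat.add 29640 k)) 65 = true := by decide +kernel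
theorem y0u456 : ∀ i, i < 29705 → fy0 i = true := below_step fy0 29640 65 29705 y0u455 y0c456 rfl
theorem y0c457 : allBelow (fun k => fy0 (Nat.add 29705 k)) 65 = true := by decide +kernel
theorem y0u457 : ∀ i, i < 29770 → fy0 i = true := below_step fy0 29705 65 29770 y0u456 y0c457 rfl
theorem y0c458 : allBelow (fun k => fy0 (Nat.add 29770 k)) 65 = true := by decide +kernel
theorem y0u458 : ∀ i, i < 29835 → fy0 i = true := below_step fy0 29770 65 29835 y0u457 y0c458 rfl
theorem y0c459 : allBelow (fun k => fy0 (Nat.add 29835 k)) 65 = true := by decide +kernel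
theorem y0u459 : ∀ i, i < 29900 → fy0 i = true := below_step fy0 29835 65 29900 y0u458 y0c459 rfl
theorem y0c460 : allBelow (fun k => fy0 (Nat.add 29900 k)) 65 = true := by decide +kernel
theorem y0u460 : ∀ i, i < 29965 → fy0 i = true := below_step fy0 29900 65 29965 y0u459 y0c460 rfl
theorem y0c461 : allBelow (fun k => fy0 (Nat.add 29965 k)) 65 = true := by decide +kernel
theorem y0u461 : ∀ i, i < 30030 → fy0 i = true := below_step fy0 29965 65 30030 y0u460 y0c461 rfl
theorem y0c462 : allBelow (fun k => fy0 (Nat.add 30030 k)) 65 = true := by decide +kernel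
theorem y0u462 : ∀ i, i < 30095 → fy0 i = true := below_step fy0 30030 65 30095 y0u461 y0c462 rfl
theorem y0c463 : allBelow (fun k => fy0 (Nat.add 30095 k)) 65 = true := by decide +kernel
theorem y0u463 : ∀ i, i < 30160 → fy0 i = true := below_step fy0 30095 65 30160 y0u462 y0c463 rfl
theorem y0c464 : allBelow (fun k => fy0 (Nat.add 30160 k)) 65 = true := by decide +kernel
theorem y0u464 : ∀ i, i < 30225 → fy0 i = true := below_step fy0 30160 65 30225 y0u463 y0c464 rfl
theorem y0c465 : allBelow (fun k => fy0 (Nat.add 30225 k)) 65 = true := by decide +kernel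
theorem y0u465 : ∀ i, i < 30290 → fy0 i = true := below_step fy0 30225 65 30290 y0u464 y0c465 rfl
theorem y0c466 : allBelow (fun k => fy0 (Nat.add 30290 k)) 65 = true := by decide +kernel
theorem y0u466 : ∀ i, i < 30355 → fy0 i = true := below_step fy0 30290 65 30355 y0u465 y0c466 rfl
theorem y0c467 : allBelow (fun k => fy0 (Nat.add 30355 k)) 65 = true := by decide +kernel
theorem y0u467 : ∀ i, i < 30420 → fy0 i = true := below_step fy0 30355 65 30420 y0u466 y0c467 rfl
theorem y0c468 : allBelow (fun k => fy0 (Nat.add 30420 k)) 65 = true := by decide +kernel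
theorem y0u468 : ∀ i, i < 30485 → fy0 i = true := below_step fy0 30420 65 30485 y0u467 y0c468 rfl
theorem y0c469 : allBelow (fun k => fy0 (Nat.add 30485 k)) 65 = true := by decide +kernel
theorem y0u469 : ∀ i, i < 30550 → fy0 i = true := below_step fy0 30485 65 30550 y0u468 y0c469 rfl
theorem y0c470 : allBelow (fun k => fy0 (Nat.add 30550 k)) 65 = true := by decide +kernel
theorem y0u470 : ∀ i, i < 30615 → fy0 i = true := below_step fy0 30550 65 30615 y0u469 y0c470 rfl
theorem y0c471 : allBelow (fun k => fy0 (Nat.add 30615 k)) 65 = true := by decide +kernel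
theorem y0u471 : ∀ i, i < 30680 → fy0 i = true := below_step fy0 30615 65 30680 y0u470 y0c471 rfl
theorem y0c472 : allBelow (fun k => fy0 (Nat.add 30680 k)) 65 = true := by decide +kernel
theorem y0u472 : ∀ i, i < 30745 → fy0 i = true := below_step fy0 30680 65 30745 y0u471 y0c472 rfl
theorem y0c473 : allBelow (fun k => fy0 (Nat.add 30745 k)) 65 = true := by decide +kernel
theorem y0u473 : ∀ i, i < 30810 → fy0 i = true := below_step fy0 30745 65 30810 y0u472 y0c473 rfl
theorem y0c474 : allBelow (fun k => fy0 (Nat.add 30810 k)) 65 = true := by decide +kernel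
theorem y0u474 : ∀ i, i < 30875 → fy0 i = true := below_step fy0 30810 65 30875 y0u473 y0c474 rfl
theorem y0c475 : allBelow (fun k => fy0 (Nat.add 30875 k)) 65 = true := by decide +kernel
theorem y0u475 : ∀ i, i < 30940 → fy0 i = true := below_step fy0 30875 65 30940 y0u474 y0c475 rfl
theorem y0c476 : allBelow (fun k => fy0 (Nat.add 30940 k)) 65 = true := by decide +kernel
theorem y0u476 : ∀ i, i < 31005 → fy0 i = true := below_step fy0 30940 65 31005 y0u475 y0c476 rfl
theorem y0c477 : allBelow (fun k => fy0 (Nat.add 31005 k)) 65 = true := by decide +kernel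
theorem y0u477 : ∀ i, i < 31070 → fy0 i = true := below_step fy0 31005 65 31070 y0u476 y0c477 rfl
theorem y0c478 : allBelow (fun k => fy0 (Nat.add 31070 k)) 65 = true := by decide +kernel
theorem y0u478 : ∀ i, i < 31135 → fy0 i = true := below_step fy0 31070 65 31135 y0u477 y0c478 rfl
theorem y0c479 : allBelow (fun k => fy0 (Nat.add 31135 k)) 65 = true := by decide +kernel
theorem y0u479 : ∀ i, i < 31200 → fy0 i = true := below_step fy0 31135 65 31200 y0u478 y0c479 rfl
theorem y0c480 : allBelow (fun k => fy0 (Nat.add 31200 k)) 65 = true := by decide +kernel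
theorem y0u480 : ∀ i, i < 31265 → fy0 i = true := below_step fy0 31200 65 31265 y0u479 y0c480 rfl
theorem y0c481 : allBelow (fun k => fy0 (Nat.add 31265 k)) 65 = true := by decide +kernel
theorem y0u481 : ∀ i, i < 31330 → fy0 i = true := below_step fy0 31265 65 31330 y0u480 y0c481 rfl
theorem y0c482 : allBelow (fun k => fy0 (Nat.add 31330 k)) 65 = true := by decide +kernel
theorem y0u482 : ∀ i, i < 31395 → fy0 i = true := below_step fy0 31330 65 31395 y0u481 y0c482 rfl
theorem y0c483 : allBelow (fun k => fy0 (Nat.add 31395 k)) 65 = true := by decide +kernel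
theorem y0u483 : ∀ i, i < 31460 → fy0 i = true := below_step fy0 31395 65 31460 y0u482 y0c483 rfl
theorem y0c484 : allBelow (fun k => fy0 (Nat.add 31460 k)) 65 = true := by decide +kernel
theorem y0u484 : ∀ i, i < 31525 → fy0 i = true := below_step fy0 31460 65 31525 y0u483 y0c484 rfl
theorem y0c485 : allBelow (fun k => fy0 (Nat.add 31525 k)) 65 = true := by decide +kernel
theorem y0u485 : ∀ i, i < 31590 → fy0 i = true := below_step fy0 31525 65 31590 y0u484 y0c485 rfl
theorem y0c486 : allBelow (fun k => fy0 (Nat.add 31590 k)) 65 = true := by decide +kernel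
theorem y0u486 : ∀ i, i < 31655 → fy0 i = true := below_step fy0 31590 65 31655 y0u485 y0c486 rfl
theorem y0c487 : allBelow (fun k => fy0 (Nat.add 31655 k)) 16 = true := by decide +kernel
theorem y0u487 : ∀ i, i < 31671 → fy0 i = true := below_step fy0 31655 16 31671 y0u486 y0c487 rfl
theorem wc0 : allBelow (fun k => fw (Nat.add 0 k)) 13 = true := by decide +kernel
theorem wu0 : ∀ i, i < 13 → fw i = true := below_step fw 0 13 13 (below_zero fw) wc0 rfl
theorem wc1 : allBelow (fun k => fw (Nat.add 13 k)) 13 = true := by decide +kernel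
theorem wu1 : ∀ i, i < 26 → fw i = true := below_step fw 13 13 26 wu0 wc1 rfl
theorem wc2 : allBelow (fun k => fw (Nat.add 26 k)) 13 = true := by decide +kernel
theorem wu2 : ∀ i, i < 39 → fw i = true := below_step fw 26 13 39 wu1 wc2 rfl
theorem wc3 : allBelow (fun k => fw (Nat.add 39 k)) 13 = true := by decide +kernel
theorem wu3 : ∀ i, i < 52 → fw i = true := below_step fw 39 13 52 wu2 wc3 rfl
theorem wc4 : allBelow (fun k => fw (Nat.add 52 k)) 13 = true := by decide +kernel
theorem wu4 : ∀ i, i < 65 → fw i = true := below_step fw 52 13 65 wu3 wc4 rfl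
theorem wc5 : allBelow (fun k => fw (Nat.add 65 k)) 13 = true := by decide +kernel
theorem wu5 : ∀ i, i < 78 → fw i = true := below_step fw 65 13 78 wu4 wc5 rfl
theorem wc6 : allBelow (fun k => fw (Nat.add 78 k)) 13 = true := by decide +kernel
theorem wu6 : ∀ i, i < 91 → fw i = true := below_step fw 78 13 91 wu5 wc6 rfl
theorem wc7 : allBelow (fun k => fw (Nat.add 91 k)) 13 = true := by decide +kernel
theorem wu7 : ∀ i, i < 104 → fw i = true := below_step fw 91 13 104 wu6 wc7 rfl
theorem wc8 : allBelow (fun k => fw (Nat.add 104 k)) 13 = true := by decide +kernel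
theorem wu8 : ∀ i, i < 117 → fw i = true := below_step fw 104 13 117 wu7 wc8 rfl
theorem wc9 : allBelow (fun k => fw (Nat.add 117 k)) 13 = true := by decide +kernel
theorem wu9 : ∀ i, i < 130 → fw i = true := below_step fw 117 13 130 wu8 wc9 rfl
theorem wc10 : allBelow (fun k => fw (Nat.add 130 k)) 13 = true := by decide +kernel
theorem wu10 : ∀ i, i < 143 → fw i = true := below_step fw 130 13 143 wu9 wc10 rfl
theorem wc11 : allBelow (fun k => fw (Nat.add 143 k)) 13 = true := by decide +kernel
theorem wu11 : ∀ i, i < 156 → fw i = true := below_step fw 143 13 156 wu10 wc11 rfl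
theorem wc12 : allBelow (fun k => fw (Nat.add 156 k)) 13 = true := by decide +kernel
theorem wu12 : ∀ i, i < 169 → fw i = true := below_step fw 156 13 169 wu11 wc12 rfl
theorem wc13 : allBelow (fun k => fw (Nat.add 169 k)) 13 = true := by decide +kernel
theorem wu13 : ∀ i, i < 182 → fw i = true := below_step fw 169 13 182 wu12 wc13 rfl
theorem wc14 : allBelow (fun k => fw (Nat.add 182 k)) 13 = true := by decide +kernel
theorem wu14 : ∀ i, i < 195 → fw i = true := below_step fw 182 13 195 wu13 wc14 rfl
theorem wc15 : allBelow (fun k => fw (Nat.add 195 k)) 13 = true := by decide +kernel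
theorem wu15 : ∀ i, i < 208 → fw i = true := below_step fw 195 13 208 wu14 wc15 rfl
theorem wc16 : allBelow (fun k => fw (Nat.add 208 k)) 13 = true := by decide +kernel
theorem wu16 : ∀ i, i < 221 → fw i = true := below_step fw 208 13 221 wu15 wc16 rfl
theorem wc17 : allBelow (fun k => fw (Nat.add 221 k)) 13 = true := by decide +kernel
theorem wu17 : ∀ i, i < 234 → fw i = true := below_step fw 221 13 234 wu16 wc17 rfl
theorem wc18 : allBelow (fun k => fw (Nat.add 234 k)) 13 = true := by decide +kernel
theorem wu18 : ∀ i, i < 247 → fw i = true := below_step fw 234 13 247 wu17 wc18 rfl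
theorem wc19 : allBelow (fun k => fw (Nat.add 247 k)) 13 = true := by decide +kernel
theorem wu19 : ∀ i, i < 260 → fw i = true := below_step fw 247 13 260 wu18 wc19 rfl
theorem wc20 : allBelow (fun k => fw (Nat.add 260 k)) 13 = true := by decide +kernel
theorem wu20 : ∀ i, i < 273 → fw i = true := below_step fw 260 13 273 wu19 wc20 rfl
theorem wc21 : allBelow (fun k => fw (Nat.add 273 k)) 13 = true := by decide +kernel
theorem wu21 : ∀ i, i < 286 → fw i = true := below_step fw 273 13 286 wu20 wc21 rfl
theorem wc22 : allBelow (fun k => fw (Nat.add 286 k)) 13 = true := by decide +kernel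
theorem wu22 : ∀ i, i < 299 → fw i = true := below_step fw 286 13 299 wu21 wc22 rfl
theorem wc23 : allBelow (fun k => fw (Nat.add 299 k)) 13 = true := by decide +kernel
theorem wu23 : ∀ i, i < 312 → fw i = true := below_step fw 299 13 312 wu22 wc23 rfl
theorem wc24 : allBelow (fun k => fw (Nat.add 312 k)) 13 = true := by decide +kernel
theorem wu24 : ∀ i, i < 325 → fw i = true := below_step fw 312 13 325 wu23 wc24 rfl
theorem wc25 : allBelow (fun k => fw (Nat.add 325 k)) 13 = true := by decide +kernel
theorem wu25 : ∀ i, i < 338 → fw i = true := below_step fw 325 13 338 wu24 wc25 rfl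
theorem wc26 : allBelow (fun k => fw (Nat.add 338 k)) 13 = true := by decide +kernel
theorem wu26 : ∀ i, i < 351 → fw i = true := below_step fw 338 13 351 wu25 wc26 rfl
theorem wc27 : allBelow (fun k => fw (Nat.add 351 k)) 13 = true := by decide +kernel
theorem wu27 : ∀ i, i < 364 → fw i = true := below_step fw 351 13 364 wu26 wc27 rfl
theorem wc28 : allBelow (fun k => fw (Nat.add 364 k)) 13 = true := by decide +kernel
theorem wu28 : ∀ i, i < 377 → fw i = true := below_step fw 364 13 377 wu27 wc28 rfl
theorem wc29 : allBelow (fun k => fw (Nat.add 377 k)) 13 = true := by decide +kernel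
theorem wu29 : ∀ i, i < 390 → fw i = true := below_step fw 377 13 390 wu28 wc29 rfl
theorem wc30 : allBelow (fun k => fw (Nat.add 390 k)) 13 = true := by decide +kernel
theorem wu30 : ∀ i, i < 403 → fw i = true := below_step fw 390 13 403 wu29 wc30 rfl
theorem wc31 : allBelow (fun k => fw (Nat.add 403 k)) 13 = true := by decide +kernel
theorem wu31 : ∀ i, i < 416 → fw i = true := below_step fw 403 13 416 wu30 wc31 rfl
theorem wc32 : allBelow (fun k => fw (Nat.add 416 k)) 13 = true := by decide +kernel
theorem wu32 : ∀ i, i < 429 → fw i = true := below_step fw 416 13 429 wu31 wc32 rfl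
theorem wc33 : allBelow (fun k => fw (Nat.add 429 k)) 13 = true := by decide +kernel
theorem wu33 : ∀ i, i < 442 → fw i = true := below_step fw 429 13 442 wu32 wc33 rfl
theorem wc34 : allBelow (fun k => fw (Nat.add 442 k)) 13 = true := by decide +kernel
theorem wu34 : ∀ i, i < 455 → fw i = true := below_step fw 442 13 455 wu33 wc34 rfl
theorem wc35 : allBelow (fun k => fw (Nat.add 455 k)) 13 = true := by decide +kernel
theorem wu35 : ∀ i, i < 468 → fw i = true := below_step fw 455 13 468 wu34 wc35 rfl
theorem wc36 : allBelow (fun k => fw (Nat.add 468 k)) 13 = true := by decide +kernel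
theorem wu36 : ∀ i, i < 481 → fw i = true := below_step fw 468 13 481 wu35 wc36 rfl
theorem wc37 : allBelow (fun k => fw (Nat.add 481 k)) 13 = true := by decide +kernel
theorem wu37 : ∀ i, i < 494 → fw i = true := below_step fw 481 13 494 wu36 wc37 rfl
theorem wc38 : allBelow (fun k => fw (Nat.add 494 k)) 13 = true := by decide +kernel
theorem wu38 : ∀ i, i < 507 → fw i = true := below_step fw 494 13 507 wu37 wc38 rfl
theorem wc39 : allBelow (fun k => fw (Nat.add 507 k)) 13 = true := by decide +kernel
theorem wu39 : ∀ i, i < 520 → fw i = true := below_step fw 507 13 520 wu38 wc39 rfl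
theorem wc40 : allBelow (fun k => fw (Nat.add 520 k)) 13 = true := by decide +kernel
theorem wu40 : ∀ i, i < 533 → fw i = true := below_step fw 520 13 533 wu39 wc40 rfl
theorem wc41 : allBelow (fun k => fw (Nat.add 533 k)) 13 = true := by decide +kernel
theorem wu41 : ∀ i, i < 546 → fw i = true := below_step fw 533 13 546 wu40 wc41 rfl
theorem wc42 : allBelow (fun k => fw (Nat.add 546 k)) 13 = true := by decide +kernel
theorem wu42 : ∀ i, i < 559 → fw i = true := below_step fw 546 13 559 wu41 wc42 rfl
theorem wc43 : allBelow (fun k => fw (Nat.add 559 k)) 13 = true := by decide +kernel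
theorem wu43 : ∀ i, i < 572 → fw i = true := below_step fw 559 13 572 wu42 wc43 rfl
theorem wc44 : allBelow (fun k => fw (Nat.add 572 k)) 13 = true := by decide +kernel
theorem wu44 : ∀ i, i < 585 → fw i = true := below_step fw 572 13 585 wu43 wc44 rfl
theorem wc45 : allBelow (fun k => fw (Nat.add 585 k)) 13 = true := by decide +kernel
theorem wu45 : ∀ i, i < 598 → fw i = true := below_step fw 585 13 598 wu44 wc45 rfl
theorem wc46 : allBelow (fun k => fw (Nat.add 598 k)) 13 = true := by decide +kernel
theorem wu46 : ∀ i, i < 611 → fw i = true := below_step fw 598 13 611 wu45 wc46 rfl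
theorem wc47 : allBelow (fun k => fw (Nat.add 611 k)) 13 = true := by decide +kernel
theorem wu47 : ∀ i, i < 624 → fw i = true := below_step fw 611 13 624 wu46 wc47 rfl
theorem wc48 : allBelow (fun k => fw (Nat.add 624 k)) 13 = true := by decide +kernel
theorem wu48 : ∀ i, i < 637 → fw i = true := below_step fw 624 13 637 wu47 wc48 rfl
theorem wc49 : allBelow (fun k => fw (Nat.add 637 k)) 13 = true := by decide +kernel
theorem wu49 : ∀ i, i < 650 → fw i = true := below_step fw 637 13 650 wu48 wc49 rfl
theorem wc50 : allBelow (fun k => fw (Nat.add 650 k)) 13 = true := by decide +kernel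
theorem wu50 : ∀ i, i < 663 → fw i = true := below_step fw 650 13 663 wu49 wc50 rfl
theorem wc51 : allBelow (fun k => fw (Nat.add 663 k)) 13 = true := by decide +kernel
theorem wu51 : ∀ i, i < 676 → fw i = true := below_step fw 663 13 676 wu50 wc51 rfl
theorem wc52 : allBelow (fun k => fw (Nat.add 676 k)) 13 = true := by decide +kernel
theorem wu52 : ∀ i, i < 689 → fw i = true := below_step fw 676 13 689 wu51 wc52 rfl
theorem wc53 : allBelow (fun k => fw (Nat.add 689 k)) 13 = true := by decide +kernel
theorem wu53 : ∀ i, i < 702 → fw i = true := below_step fw 689 13 702 wu52 wc53 rfl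
theorem wc54 : allBelow (fun k => fw (Nat.add 702 k)) 13 = true := by decide +kernel
theorem wu54 : ∀ i, i < 715 → fw i = true := below_step fw 702 13 715 wu53 wc54 rfl
theorem wc55 : allBelow (fun k => fw (Nat.add 715 k)) 13 = true := by decide +kernel
theorem wu55 : ∀ i, i < 728 → fw i = true := below_step fw 715 13 728 wu54 wc55 rfl
theorem wc56 : allBelow (fun k => fw (Nat.add 728 k)) 13 = true := by decide +kernel
theorem wu56 : ∀ i, i < 741 → fw i = true := below_step fw 728 13 741 wu55 wc56 rfl
theorem wc57 : allBelow (fun k => fw (Nat.add 741 k)) 13 = true := by decide +kernel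
theorem wu57 : ∀ i, i < 754 → fw i = true := below_step fw 741 13 754 wu56 wc57 rfl
theorem wc58 : allBelow (fun k => fw (Nat.add 754 k)) 13 = true := by decide +kernel
theorem wu58 : ∀ i, i < 767 → fw i = true := below_step fw 754 13 767 wu57 wc58 rfl
theorem wc59 : allBelow (fun k => fw (Nat.add 767 k)) 13 = true := by decide +kernel
theorem wu59 : ∀ i, i < 780 → fw i = true := below_step fw 767 13 780 wu58 wc59 rfl
theorem wc60 : allBelow (fun k => fw (Nat.add 780 k)) 13 = true := by decide +kernel
theorem wu60 : ∀ i, i < 793 → fw i = true := below_step fw 780 13 793 wu59 wc60 rfl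
theorem wc61 : allBelow (fun k => fw (Nat.add 793 k)) 13 = true := by decide +kernel
theorem wu61 : ∀ i, i < 806 → fw i = true := below_step fw 793 13 806 wu60 wc61 rfl
theorem wc62 : allBelow (fun k => fw (Nat.add 806 k)) 13 = true := by decide +kernel
theorem wu62 : ∀ i, i < 819 → fw i = true := below_step fw 806 13 819 wu61 wc62 rfl
theorem wc63 : allBelow (fun k => fw (Nat.add 819 k)) 13 = true := by decide +kernel
theorem wu63 : ∀ i, i < 832 → fw i = true := below_step fw 819 13 832 wu62 wc63 rfl
theorem wc64 : allBelow (fun k => fw (Nat.add 832 k)) 13 = true := by decide +kernel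
theorem wu64 : ∀ i, i < 845 → fw i = true := below_step fw 832 13 845 wu63 wc64 rfl
theorem wc65 : allBelow (fun k => fw (Nat.add 845 k)) 13 = true := by decide +kernel
theorem wu65 : ∀ i, i < 858 → fw i = true := below_step fw 845 13 858 wu64 wc65 rfl
theorem wc66 : allBelow (fun k => fw (Nat.add 858 k)) 13 = true := by decide +kernel
theorem wu66 : ∀ i, i < 871 → fw i = true := below_step fw 858 13 871 wu65 wc66 rfl
theorem wc67 : allBelow (fun k => fw (Nat.add 871 k)) 13 = true := by decide +kernel
theorem wu67 : ∀ i, i < 884 → fw i = true := below_step fw 871 13 884 wu66 wc67 rfl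
theorem wc68 : allBelow (fun k => fw (Nat.add 884 k)) 13 = true := by decide +kernel
theorem wu68 : ∀ i, i < 897 → fw i = true := below_step fw 884 13 897 wu67 wc68 rfl
theorem wc69 : allBelow (fun k => fw (Nat.add 897 k)) 13 = true := by decide +kernel
theorem wu69 : ∀ i, i < 910 → fw i = true := below_step fw 897 13 910 wu68 wc69 rfl
theorem wc70 : allBelow (fun k => fw (Nat.add 910 k)) 13 = true := by decide +kernel
theorem wu70 : ∀ i, i < 923 → fw i = true := below_step fw 910 13 923 wu69 wc70 rfl
theorem wc71 : allBelow (fun k => fw (Nat.add 923 k)) 13 = true := by decide +kernel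
theorem wu71 : ∀ i, i < 936 → fw i = true := below_step fw 923 13 936 wu70 wc71 rfl
theorem wc72 : allBelow (fun k => fw (Nat.add 936 k)) 13 = true := by decide +kernel
theorem wu72 : ∀ i, i < 949 → fw i = true := below_step fw 936 13 949 wu71 wc72 rfl
theorem wc73 : allBelow (fun k => fw (Nat.add 949 k)) 13 = true := by decide +kernel
theorem wu73 : ∀ i, i < 962 → fw i = true := below_step fw 949 13 962 wu72 wc73 rfl
theorem wc74 : allBelow (fun k => fw (Nat.add 962 k)) 13 = true := by decide +kernel
theorem wu74 : ∀ i, i < 975 → fw i = true := below_step fw 962 13 975 wu73 wc74 rfl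
theorem wc75 : allBelow (fun k => fw (Nat.add 975 k)) 13 = true := by decide +kernel
theorem wu75 : ∀ i, i < 988 → fw i = true := below_step fw 975 13 988 wu74 wc75 rfl
theorem wc76 : allBelow (fun k => fw (Nat.add 988 k)) 13 = true := by decide +kernel
theorem wu76 : ∀ i, i < 1001 → fw i = true := below_step fw 988 13 1001 wu75 wc76 rfl
theorem wc77 : allBelow (fun k => fw (Nat.add 1001 k)) 13 = true := by decide +kernel
theorem wu77 : ∀ i, i < 1014 → fw i = true := below_step fw 1001 13 1014 wu76 wc77 rfl
theorem wc78 : allBelow (fun k => fw (Nat.add 1014 k)) 13 = true := by decide +kernel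
theorem wu78 : ∀ i, i < 1027 → fw i = true := below_step fw 1014 13 1027 wu77 wc78 rfl
theorem wc79 : allBelow (fun k => fw (Nat.add 1027 k)) 13 = true := by decide +kernel
theorem wu79 : ∀ i, i < 1040 → fw i = true := below_step fw 1027 13 1040 wu78 wc79 rfl
theorem wc80 : allBelow (fun k => fw (Nat.add 1040 k)) 13 = true := by decide +kernel
theorem wu80 : ∀ i, i < 1053 → fw i = true := below_step fw 1040 13 1053 wu79 wc80 rfl
theorem wc81 : allBelow (fun k => fw (Nat.add 1053 k)) 13 = true := by decide +kernel
theorem wu81 : ∀ i, i < 1066 → fw i = true := below_step fw 1053 13 1066 wu80 wc81 rfl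
theorem wc82 : allBelow (fun k => fw (Nat.add 1066 k)) 13 = true := by decide +kernel
theorem wu82 : ∀ i, i < 1079 → fw i = true := below_step fw 1066 13 1079 wu81 wc82 rfl
theorem wc83 : allBelow (fun k => fw (Nat.add 1079 k)) 13 = true := by decide +kernel
theorem wu83 : ∀ i, i < 1092 → fw i = true := below_step fw 1079 13 1092 wu82 wc83 rfl
theorem wc84 : allBelow (fun k => fw (Nat.add 1092 k)) 13 = true := by decide +kernel
theorem wu84 : ∀ i, i < 1105 → fw i = true := below_step fw 1092 13 1105 wu83 wc84 rfl
theorem wc85 : allBelow (fun k => fw (Nat.add 1105 k)) 13 = true := by decide +kernel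
theorem wu85 : ∀ i, i < 1118 → fw i = true := below_step fw 1105 13 1118 wu84 wc85 rfl
theorem wc86 : allBelow (fun k => fw (Nat.add 1118 k)) 13 = true := by decide +kernel
theorem wu86 : ∀ i, i < 1131 → fw i = true := below_step fw 1118 13 1131 wu85 wc86 rfl
theorem wc87 : allBelow (fun k => fw (Nat.add 1131 k)) 13 = true := by decide +kernel
theorem wu87 : ∀ i, i < 1144 → fw i = true := below_step fw 1131 13 1144 wu86 wc87 rfl
theorem wc88 : allBelow (fun k => fw (Nat.add 1144 k)) 13 = true := by decide +kernel
theorem wu88 : ∀ i, i < 1157 → fw i = true := below_step fw 1144 13 1157 wu87 wc88 rfl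
theorem wc89 : allBelow (fun k => fw (Nat.add 1157 k)) 13 = true := by decide +kernel
theorem wu89 : ∀ i, i < 1170 → fw i = true := below_step fw 1157 13 1170 wu88 wc89 rfl
theorem wc90 : allBelow (fun k => fw (Nat.add 1170 k)) 13 = true := by decide +kernel
theorem wu90 : ∀ i, i < 1183 → fw i = true := below_step fw 1170 13 1183 wu89 wc90 rfl
theorem wc91 : allBelow (fun k => fw (Nat.add 1183 k)) 13 = true := by decide +kernel
theorem wu91 : ∀ i, i < 1196 → fw i = true := below_step fw 1183 13 1196 wu90 wc91 rfl
theorem wc92 : allBelow (fun k => fw (Nat.add 1196 k)) 13 = true := by decide +kernel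
theorem wu92 : ∀ i, i < 1209 → fw i = true := below_step fw 1196 13 1209 wu91 wc92 rfl
theorem wc93 : allBelow (fun k => fw (Nat.add 1209 k)) 13 = true := by decide +kernel
theorem wu93 : ∀ i, i < 1222 → fw i = true := below_step fw 1209 13 1222 wu92 wc93 rfl
theorem wc94 : allBelow (fun k => fw (Nat.add 1222 k)) 13 = true := by decide +kernel
theorem wu94 : ∀ i, i < 1235 → fw i = true := below_step fw 1222 13 1235 wu93 wc94 rfl
theorem wc95 : allBelow (fun k => fw (Nat.add 1235 k)) 13 = true := by decide +kernel
theorem wu95 : ∀ i, i < 1248 → fw i = true := below_step fw 1235 13 1248 wu94 wc95 rfl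
theorem wc96 : allBelow (fun k => fw (Nat.add 1248 k)) 13 = true := by decide +kernel
theorem wu96 : ∀ i, i < 1261 → fw i = true := below_step fw 1248 13 1261 wu95 wc96 rfl
theorem wc97 : allBelow (fun k => fw (Nat.add 1261 k)) 13 = true := by decide +kernel
theorem wu97 : ∀ i, i < 1274 → fw i = true := below_step fw 1261 13 1274 wu96 wc97 rfl
theorem wc98 : allBelow (fun k => fw (Nat.add 1274 k)) 13 = true := by decide +kernel
theorem wu98 : ∀ i, i < 1287 → fw i = true := below_step fw 1274 13 1287 wu97 wc98 rfl
theorem wc99 : allBelow (fun k => fw (Nat.add 1287 k)) 13 = true := by decide +kernel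
theorem wu99 : ∀ i, i < 1300 → fw i = true := below_step fw 1287 13 1300 wu98 wc99 rfl
theorem wc100 : allBelow (fun k => fw (Nat.add 1300 k)) 13 = true := by decide +kernel
theorem wu100 : ∀ i, i < 1313 → fw i = true := below_step fw 1300 13 1313 wu99 wc100 rfl
theorem wc101 : allBelow (fun k => fw (Nat.add 1313 k)) 13 = true := by decide +kernel
theorem wu101 : ∀ i, i < 1326 → fw i = true := below_step fw 1313 13 1326 wu100 wc101 rfl
theorem wc102 : allBelow (fun k => fw (Nat.add 1326 k)) 13 = true := by decide +kernel
theorem wu102 : ∀ i, i < 1339 → fw i = true := below_step fw 1326 13 1339 wu101 wc102 rfl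
theorem wc103 : allBelow (fun k => fw (Nat.add 1339 k)) 13 = true := by decide +kernel
theorem wu103 : ∀ i, i < 1352 → fw i = true := below_step fw 1339 13 1352 wu102 wc103 rfl
theorem wc104 : allBelow (fun k => fw (Nat.add 1352 k)) 13 = true := by decide +kernel
theorem wu104 : ∀ i, i < 1365 → fw i = true := below_step fw 1352 13 1365 wu103 wc104 rfl
theorem wc105 : allBelow (fun k => fw (Nat.add 1365 k)) 13 = true := by decide +kernel
theorem wu105 : ∀ i, i < 1378 → fw i = true := below_step fw 1365 13 1378 wu104 wc105 rfl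
theorem wc106 : allBelow (fun k => fw (Nat.add 1378 k)) 13 = true := by decide +kernel
theorem wu106 : ∀ i, i < 1391 → fw i = true := below_step fw 1378 13 1391 wu105 wc106 rfl
theorem wc107 : allBelow (fun k => fw (Nat.add 1391 k)) 13 = true := by decide +kernel
theorem wu107 : ∀ i, i < 1404 → fw i = true := below_step fw 1391 13 1404 wu106 wc107 rfl
theorem wc108 : allBelow (fun k => fw (Nat.add 1404 k)) 13 = true := by decide +kernel
theorem wu108 : ∀ i, i < 1417 → fw i = true := below_step fw 1404 13 1417 wu107 wc108 rfl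
theorem wc109 : allBelow (fun k => fw (Nat.add 1417 k)) 13 = true := by decide +kernel
theorem wu109 : ∀ i, i < 1430 → fw i = true := below_step fw 1417 13 1430 wu108 wc109 rfl
theorem wc110 : allBelow (fun k => fw (Nat.add 1430 k)) 13 = true := by decide +kernel
theorem wu110 : ∀ i, i < 1443 → fw i = true := below_step fw 1430 13 1443 wu109 wc110 rfl
theorem wc111 : allBelow (fun k => fw (Nat.add 1443 k)) 13 = true := by decide +kernel
theorem wu111 : ∀ i, i < 1456 → fw i = true := below_step fw 1443 13 1456 wu110 wc111 rfl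
theorem wc112 : allBelow (fun k => fw (Nat.add 1456 k)) 13 = true := by decide +kernel
theorem wu112 : ∀ i, i < 1469 → fw i = true := below_step fw 1456 13 1469 wu111 wc112 rfl
theorem wc113 : allBelow (fun k => fw (Nat.add 1469 k)) 13 = true := by decide +kernel
theorem wu113 : ∀ i, i < 1482 → fw i = true := below_step fw 1469 13 1482 wu112 wc113 rfl
theorem wc114 : allBelow (fun k => fw (Nat.add 1482 k)) 13 = true := by decide +kernel
theorem wu114 : ∀ i, i < 1495 → fw i = true := below_step fw 1482 13 1495 wu113 wc114 rfl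
theorem wc115 : allBelow (fun k => fw (Nat.add 1495 k)) 13 = true := by decide +kernel
theorem wu115 : ∀ i, i < 1508 → fw i = true := below_step fw 1495 13 1508 wu114 wc115 rfl
theorem wc116 : allBelow (fun k => fw (Nat.add 1508 k)) 13 = true := by decide +kernel
theorem wu116 : ∀ i, i < 1521 → fw i = true := below_step fw 1508 13 1521 wu115 wc116 rfl
theorem wc117 : allBelow (fun k => fw (Nat.add 1521 k)) 13 = true := by decide +kernel
theorem wu117 : ∀ i, i < 1534 → fw i = true := below_step fw 1521 13 1534 wu116 wc117 rfl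
theorem wc118 : allBelow (fun k => fw (Nat.add 1534 k)) 13 = true := by decide +kernel
theorem wu118 : ∀ i, i < 1547 → fw i = true := below_step fw 1534 13 1547 wu117 wc118 rfl
theorem wc119 : allBelow (fun k => fw (Nat.add 1547 k)) 13 = true := by decide +kernel
theorem wu119 : ∀ i, i < 1560 → fw i = true := below_step fw 1547 13 1560 wu118 wc119 rfl
theorem wc120 : allBelow (fun k => fw (Nat.add 1560 k)) 13 = true := by decide +kernel
theorem wu120 : ∀ i, i < 1573 → fw i = true := below_step fw 1560 13 1573 wu119 wc120 rfl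
theorem wc121 : allBelow (fun k => fw (Nat.add 1573 k)) 13 = true := by decide +kernel
theorem wu121 : ∀ i, i < 1586 → fw i = true := below_step fw 1573 13 1586 wu120 wc121 rfl
theorem wc122 : allBelow (fun k => fw (Nat.add 1586 k)) 13 = true := by decide +kernel
theorem wu122 : ∀ i, i < 1599 → fw i = true := below_step fw 1586 13 1599 wu121 wc122 rfl
theorem wc123 : allBelow (fun k => fw (Nat.add 1599 k)) 13 = true := by decide +kernel
theorem wu123 : ∀ i, i < 1612 → fw i = true := below_step fw 1599 13 1612 wu122 wc123 rfl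
theorem wc124 : allBelow (fun k => fw (Nat.add 1612 k)) 13 = true := by decide +kernel
theorem wu124 : ∀ i, i < 1625 → fw i = true := below_step fw 1612 13 1625 wu123 wc124 rfl
theorem wc125 : allBelow (fun k => fw (Nat.add 1625 k)) 13 = true := by decide +kernel
theorem wu125 : ∀ i, i < 1638 → fw i = true := below_step fw 1625 13 1638 wu124 wc125 rfl
theorem wc126 : allBelow (fun k => fw (Nat.add 1638 k)) 13 = true := by decide +kernel
theorem wu126 : ∀ i, i < 1651 → fw i = true := below_step fw 1638 13 1651 wu125 wc126 rfl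
theorem wc127 : allBelow (fun k => fw (Nat.add 1651 k)) 13 = true := by decide +kernel
theorem wu127 : ∀ i, i < 1664 → fw i = true := below_step fw 1651 13 1664 wu126 wc127 rfl
theorem wc128 : allBelow (fun k => fw (Nat.add 1664 k)) 13 = true := by decide +kernel
theorem wu128 : ∀ i, i < 1677 → fw i = true := below_step fw 1664 13 1677 wu127 wc128 rfl
theorem wc129 : allBelow (fun k => fw (Nat.add 1677 k)) 13 = true := by decide +kernel
theorem wu129 : ∀ i, i < 1690 → fw i = true := below_step fw 1677 13 1690 wu128 wc129 rfl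
theorem wc130 : allBelow (fun k => fw (Nat.add 1690 k)) 13 = true := by decide +kernel
theorem wu130 : ∀ i, i < 1703 → fw i = true := below_step fw 1690 13 1703 wu129 wc130 rfl
theorem wc131 : allBelow (fun k => fw (Nat.add 1703 k)) 13 = true := by decide +kernel
theorem wu131 : ∀ i, i < 1716 → fw i = true := below_step fw 1703 13 1716 wu130 wc131 rfl
theorem wc132 : allBelow (fun k => fw (Nat.add 1716 k)) 13 = true := by decide +kernel
theorem wu132 : ∀ i, i < 1729 → fw i = true := below_step fw 1716 13 1729 wu131 wc132 rfl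
theorem wc133 : allBelow (fun k => fw (Nat.add 1729 k)) 13 = true := by decide +kernel
theorem wu133 : ∀ i, i < 1742 → fw i = true := below_step fw 1729 13 1742 wu132 wc133 rfl
theorem wc134 : allBelow (fun k => fw (Nat.add 1742 k)) 13 = true := by decide +kernel
theorem wu134 : ∀ i, i < 1755 → fw i = true := below_step fw 1742 13 1755 wu133 wc134 rfl
theorem wc135 : allBelow (fun k => fw (Nat.add 1755 k)) 13 = true := by decide +kernel
theorem wu135 : ∀ i, i < 1768 → fw i = true := below_step fw 1755 13 1768 wu134 wc135 rfl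
theorem wc136 : allBelow (fun k => fw (Nat.add 1768 k)) 13 = true := by decide +kernel
theorem wu136 : ∀ i, i < 1781 → fw i = true := below_step fw 1768 13 1781 wu135 wc136 rfl
theorem wc137 : allBelow (fun k => fw (Nat.add 1781 k)) 13 = true := by decide +kernel
theorem wu137 : ∀ i, i < 1794 → fw i = true := below_step fw 1781 13 1794 wu136 wc137 rfl
theorem wc138 : allBelow (fun k => fw (Nat.add 1794 k)) 13 = true := by decide +kernel
theorem wu138 : ∀ i, i < 1807 → fw i = true := below_step fw 1794 13 1807 wu137 wc138 rfl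
theorem wc139 : allBelow (fun k => fw (Nat.add 1807 k)) 13 = true := by decide +kernel
theorem wu139 : ∀ i, i < 1820 → fw i = true := below_step fw 1807 13 1820 wu138 wc139 rfl
theorem wc140 : allBelow (fun k => fw (Nat.add 1820 k)) 13 = true := by decide +kernel
theorem wu140 : ∀ i, i < 1833 → fw i = true := below_step fw 1820 13 1833 wu139 wc140 rfl
theorem wc141 : allBelow (fun k => fw (Nat.add 1833 k)) 13 = true := by decide +kernel
theorem wu141 : ∀ i, i < 1846 → fw i = true := below_step fw 1833 13 1846 wu140 wc141 rfl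
theorem wc142 : allBelow (fun k => fw (Nat.add 1846 k)) 13 = true := by decide +kernel
theorem wu142 : ∀ i, i < 1859 → fw i = true := below_step fw 1846 13 1859 wu141 wc142 rfl
theorem wc143 : allBelow (fun k => fw (Nat.add 1859 k)) 13 = true := by decide +kernel
theorem wu143 : ∀ i, i < 1872 → fw i = true := below_step fw 1859 13 1872 wu142 wc143 rfl
theorem wc144 : allBelow (fun k => fw (Nat.add 1872 k)) 13 = true := by decide +kernel
theorem wu144 : ∀ i, i < 1885 → fw i = true := below_step fw 1872 13 1885 wu143 wc144 rfl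
theorem wc145 : allBelow (fun k => fw (Nat.add 1885 k)) 13 = true := by decide +kernel
theorem wu145 : ∀ i, i < 1898 → fw i = true := below_step fw 1885 13 1898 wu144 wc145 rfl
theorem wc146 : allBelow (fun k => fw (Nat.add 1898 k)) 13 = true := by decide +kernel
theorem wu146 : ∀ i, i < 1911 → fw i = true := below_step fw 1898 13 1911 wu145 wc146 rfl
theorem wc147 : allBelow (fun k => fw (Nat.add 1911 k)) 13 = true := by decide +kernel
theorem wu147 : ∀ i, i < 1924 → fw i = true := below_step fw 1911 13 1924 wu146 wc147 rfl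
theorem wc148 : allBelow (fun k => fw (Nat.add 1924 k)) 13 = true := by decide +kernel
theorem wu148 : ∀ i, i < 1937 → fw i = true := below_step fw 1924 13 1937 wu147 wc148 rfl
theorem wc149 : allBelow (fun k => fw (Nat.add 1937 k)) 13 = true := by decide +kernel
theorem wu149 : ∀ i, i < 1950 → fw i = true := below_step fw 1937 13 1950 wu148 wc149 rfl
theorem wc150 : allBelow (fun k => fw (Nat.add 1950 k)) 13 = true := by decide +kernel
theorem wu150 : ∀ i, i < 1963 → fw i = true := below_step fw 1950 13 1963 wu149 wc150 rfl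
theorem wc151 : allBelow (fun k => fw (Nat.add 1963 k)) 13 = true := by decide +kernel
theorem wu151 : ∀ i, i < 1976 → fw i = true := below_step fw 1963 13 1976 wu150 wc151 rfl
theorem wc152 : allBelow (fun k => fw (Nat.add 1976 k)) 13 = true := by decide +kernel
theorem wu152 : ∀ i, i < 1989 → fw i = true := below_step fw 1976 13 1989 wu151 wc152 rfl
theorem wc153 : allBelow (fun k => fw (Nat.add 1989 k)) 13 = true := by decide +kernel
theorem wu153 : ∀ i, i < 2002 → fw i = true := below_step fw 1989 13 2002 wu152 wc153 rfl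
theorem wc154 : allBelow (fun k => fw (Nat.add 2002 k)) 13 = true := by decide +kernel
theorem wu154 : ∀ i, i < 2015 → fw i = true := below_step fw 2002 13 2015 wu153 wc154 rfl
theorem wc155 : allBelow (fun k => fw (Nat.add 2015 k)) 13 = true := by decide +kernel
theorem wu155 : ∀ i, i < 2028 → fw i = true := below_step fw 2015 13 2028 wu154 wc155 rfl
theorem wc156 : allBelow (fun k => fw (Nat.add 2028 k)) 13 = true := by decide +kernel
theorem wu156 : ∀ i, i < 2041 → fw i = true := below_step fw 2028 13 2041 wu155 wc156 rfl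
theorem wc157 : allBelow (fun k => fw (Nat.add 2041 k)) 13 = true := by decide +kernel
theorem wu157 : ∀ i, i < 2054 → fw i = true := below_step fw 2041 13 2054 wu156 wc157 rfl
theorem wc158 : allBelow (fun k => fw (Nat.add 2054 k)) 13 = true := by decide +kernel
theorem wu158 : ∀ i, i < 2067 → fw i = true := below_step fw 2054 13 2067 wu157 wc158 rfl
theorem wc159 : allBelow (fun k => fw (Nat.add 2067 k)) 13 = true := by decide +kernel
theorem wu159 : ∀ i, i < 2080 → fw i = true := below_step fw 2067 13 2080 wu158 wc159 rfl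
theorem wc160 : allBelow (fun k => fw (Nat.add 2080 k)) 13 = true := by decide +kernel
theorem wu160 : ∀ i, i < 2093 → fw i = true := below_step fw 2080 13 2093 wu159 wc160 rfl
theorem wc161 : allBelow (fun k => fw (Nat.add 2093 k)) 13 = true := by decide +kernel
theorem wu161 : ∀ i, i < 2106 → fw i = true := below_step fw 2093 13 2106 wu160 wc161 rfl
theorem wc162 : allBelow (fun k => fw (Nat.add 2106 k)) 13 = true := by decide +kernel
theorem wu162 : ∀ i, i < 2119 → fw i = true := below_step fw 2106 13 2119 wu161 wc162 rfl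
theorem wc163 : allBelow (fun k => fw (Nat.add 2119 k)) 13 = true := by decide +kernel
theorem wu163 : ∀ i, i < 2132 → fw i = true := below_step fw 2119 13 2132 wu162 wc163 rfl
theorem wc164 : allBelow (fun k => fw (Nat.add 2132 k)) 13 = true := by decide +kernel
theorem wu164 : ∀ i, i < 2145 → fw i = true := below_step fw 2132 13 2145 wu163 wc164 rfl
theorem wc165 : allBelow (fun k => fw (Nat.add 2145 k)) 13 = true := by decide +kernel
theorem wu165 : ∀ i, i < 2158 → fw i = true := below_step fw 2145 13 2158 wu164 wc165 rfl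
theorem wc166 : allBelow (fun k => fw (Nat.add 2158 k)) 13 = true := by decide +kernel
theorem wu166 : ∀ i, i < 2171 → fw i = true := below_step fw 2158 13 2171 wu165 wc166 rfl
theorem wc167 : allBelow (fun k => fw (Nat.add 2171 k)) 13 = true := by decide +kernel
theorem wu167 : ∀ i, i < 2184 → fw i = true := below_step fw 2171 13 2184 wu166 wc167 rfl
theorem wc168 : allBelow (fun k => fw (Nat.add 2184 k)) 13 = true := by decide +kernel
theorem wu168 : ∀ i, i < 2197 → fw i = true := below_step fw 2184 13 2197 wu167 wc168 rfl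
theorem wc169 : allBelow (fun k => fw (Nat.add 2197 k)) 13 = true := by decide +kernel
theorem wu169 : ∀ i, i < 2210 → fw i = true := below_step fw 2197 13 2210 wu168 wc169 rfl
theorem wc170 : allBelow (fun k => fw (Nat.add 2210 k)) 13 = true := by decide +kernel
theorem wu170 : ∀ i, i < 2223 → fw i = true := below_step fw 2210 13 2223 wu169 wc170 rfl
theorem wc171 : allBelow (fun k => fw (Nat.add 2223 k)) 13 = true := by decide +kernel
theorem wu171 : ∀ i, i < 2236 → fw i = true := below_step fw 2223 13 2236 wu170 wc171 rfl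
theorem wc172 : allBelow (fun k => fw (Nat.add 2236 k)) 13 = true := by decide +kernel
theorem wu172 : ∀ i, i < 2249 → fw i = true := below_step fw 2236 13 2249 wu171 wc172 rfl
theorem wc173 : allBelow (fun k => fw (Nat.add 2249 k)) 13 = true := by decide +kernel
theorem wu173 : ∀ i, i < 2262 → fw i = true := below_step fw 2249 13 2262 wu172 wc173 rfl
theorem wc174 : allBelow (fun k => fw (Nat.add 2262 k)) 13 = true := by decide +kernel
theorem wu174 : ∀ i, i < 2275 → fw i = true := below_step fw 2262 13 2275 wu173 wc174 rfl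
theorem wc175 : allBelow (fun k => fw (Nat.add 2275 k)) 13 = true := by decide +kernel
theorem wu175 : ∀ i, i < 2288 → fw i = true := below_step fw 2275 13 2288 wu174 wc175 rfl
theorem wc176 : allBelow (fun k => fw (Nat.add 2288 k)) 13 = true := by decide +kernel
theorem wu176 : ∀ i, i < 2301 → fw i = true := below_step fw 2288 13 2301 wu175 wc176 rfl
theorem wc177 : allBelow (fun k => fw (Nat.add 2301 k)) 13 = true := by decide +kernel
theorem wu177 : ∀ i, i < 2314 → fw i = true := below_step fw 2301 13 2314 wu176 wc177 rfl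
theorem wc178 : allBelow (fun k => fw (Nat.add 2314 k)) 13 = true := by decide +kernel
theorem wu178 : ∀ i, i < 2327 → fw i = true := below_step fw 2314 13 2327 wu177 wc178 rfl
theorem wc179 : allBelow (fun k => fw (Nat.add 2327 k)) 13 = true := by decide +kernel
theorem wu179 : ∀ i, i < 2340 → fw i = true := below_step fw 2327 13 2340 wu178 wc179 rfl
theorem wc180 : allBelow (fun k => fw (Nat.add 2340 k)) 13 = true := by decide +kernel
theorem wu180 : ∀ i, i < 2353 → fw i = true := below_step fw 2340 13 2353 wu179 wc180 rfl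
theorem wc181 : allBelow (fun k => fw (Nat.add 2353 k)) 13 = true := by decide +kernel
theorem wu181 : ∀ i, i < 2366 → fw i = true := below_step fw 2353 13 2366 wu180 wc181 rfl
theorem wc182 : allBelow (fun k => fw (Nat.add 2366 k)) 13 = true := by decide +kernel
theorem wu182 : ∀ i, i < 2379 → fw i = true := below_step fw 2366 13 2379 wu181 wc182 rfl
theorem wc183 : allBelow (fun k => fw (Nat.add 2379 k)) 13 = true := by decide +kernel
theorem wu183 : ∀ i, i < 2392 → fw i = true := below_step fw 2379 13 2392 wu182 wc183 rfl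
theorem wc184 : allBelow (fun k => fw (Nat.add 2392 k)) 13 = true := by decide +kernel
theorem wu184 : ∀ i, i < 2405 → fw i = true := below_step fw 2392 13 2405 wu183 wc184 rfl
theorem wc185 : allBelow (fun k => fw (Nat.add 2405 k)) 13 = true := by decide +kernel
theorem wu185 : ∀ i, i < 2418 → fw i = true := below_step fw 2405 13 2418 wu184 wc185 rfl
theorem wc186 : allBelow (fun k => fw (Nat.add 2418 k)) 13 = true := by decide +kernel
theorem wu186 : ∀ i, i < 2431 → fw i = true := below_step fw 2418 13 2431 wu185 wc186 rfl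
theorem wc187 : allBelow (fun k => fw (Nat.add 2431 k)) 13 = true := by decide +kernel
theorem wu187 : ∀ i, i < 2444 → fw i = true := below_step fw 2431 13 2444 wu186 wc187 rfl
theorem wc188 : allBelow (fun k => fw (Nat.add 2444 k)) 13 = true := by decide +kernel
theorem wu188 : ∀ i, i < 2457 → fw i = true := below_step fw 2444 13 2457 wu187 wc188 rfl
theorem wc189 : allBelow (fun k => fw (Nat.add 2457 k)) 13 = true := by decide +kernel
theorem wu189 : ∀ i, i < 2470 → fw i = true := below_step fw 2457 13 2470 wu188 wc189 rfl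
theorem wc190 : allBelow (fun k => fw (Nat.add 2470 k)) 13 = true := by decide +kernel
theorem wu190 : ∀ i, i < 2483 → fw i = true := below_step fw 2470 13 2483 wu189 wc190 rfl
theorem wc191 : allBelow (fun k => fw (Nat.add 2483 k)) 13 = true := by decide +kernel
theorem wu191 : ∀ i, i < 2496 → fw i = true := below_step fw 2483 13 2496 wu190 wc191 rfl
theorem wc192 : allBelow (fun k => fw (Nat.add 2496 k)) 13 = true := by decide +kernel
theorem wu192 : ∀ i, i < 2509 → fw i = true := below_step fw 2496 13 2509 wu191 wc192 rfl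
theorem wc193 : allBelow (fun k => fw (Nat.add 2509 k)) 13 = true := by decide +kernel
theorem wu193 : ∀ i, i < 2522 → fw i = true := below_step fw 2509 13 2522 wu192 wc193 rfl
theorem wc194 : allBelow (fun k => fw (Nat.add 2522 k)) 13 = true := by decide +kernel
theorem wu194 : ∀ i, i < 2535 → fw i = true := below_step fw 2522 13 2535 wu193 wc194 rfl
theorem wc195 : allBelow (fun k => fw (Nat.add 2535 k)) 13 = true := by decide +kernel
theorem wu195 : ∀ i, i < 2548 → fw i = true := below_step fw 2535 13 2548 wu194 wc195 rfl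

end Cfsg.Agent.Lib.Helper35.Fi23Ord.X0
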