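import Cfsg.Agent.Lib.Helper35.Fi23Ord.X0.Chk2

set_option Elab.async false

namespace Cfsg.Agent.Lib.Helper35.Fi23Ord.X0

open Cfsg.Agent.Lib.Helper35

theorem wc196 : allBelow (fun k => fw (Nat.add 2548 k)) 13 = true := by decide +kernel
theorem wu196 : ∀ i, i < 2561 → fw i = true := below_step fw 2548 13 2561 wu195 wc196 rfl
theorem wc197 : allBelow (fun k => fw (Nat.add 2561 k)) 13 = true := by decide +kernel
theorem wu197 : ∀ i, i < 2574 → fw i = true := below_step fw 2561 13 2574 wu196 wc197 rfl
theorem wc198 : allBelow (fun k => fw (Nat.add 2574 k)) 13 = true := by decide +kernel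
theorem wu198 : ∀ i, i < 2587 → fw i = true := below_step fw 2574 13 2587 wu197 wc198 rfl
theorem wc199 : allBelow (fun k => fw (Nat.add 2587 k)) 13 = true := by decide +kernel
theorem wu199 : ∀ i, i < 2600 → fw i = true := below_step fw 2587 13 2600 wu198 wc199 rfl
theorem wc200 : allBelow (fun k => fw (Nat.add 2600 k)) 13 = true := by decide +kernel
theorem wu200 : ∀ i, i < 2613 → fw i = true := below_step fw 2600 13 2613 wu199 wc200 rfl
theorem wc201 : allBelow (fun k => fw (Nat.add 2613 k)) 13 = true := by decide +kernel
theorem wu201 : ∀ i, i < 2626 → fw i = true := below_step fw 2613 13 2626 wu200 wc201 rfl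
theorem wc202 : allBelow (fun k => fw (Nat.add 2626 k)) 13 = true := by decide +kernel
theorem wu202 : ∀ i, i < 2639 → fw i = true := below_step fw 2626 13 2639 wu201 wc202 rfl
theorem wc203 : allBelow (fun k => fw (Nat.add 2639 k)) 13 = true := by decide +kernel
theorem wu203 : ∀ i, i < 2652 → fw i = true := below_step fw 2639 13 2652 wu202 wc203 rfl
theorem wc204 : allBelow (fun k => fw (Nat.add 2652 k)) 13 = true := by decide +kernel
theorem wu204 : ∀ i, i < 2665 → fw i = true := below_step fw 2652 13 2665 wu203 wc204 rfl
theorem wc205 : allBelow (fun k => fw (Nat.add 2665 k)) 13 = true := by decide +kernel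
theorem wu205 : ∀ i, i < 2678 → fw i = true := below_step fw 2665 13 2678 wu204 wc205 rfl
theorem wc206 : allBelow (fun k => fw (Nat.add 2678 k)) 13 = true := by decide +kernel
theorem wu206 : ∀ i, i < 2691 → fw i = true := below_step fw 2678 13 2691 wu205 wc206 rfl
theorem wc207 : allBelow (fun k => fw (Nat.add 2691 k)) 13 = true := by decide +kernel
theorem wu207 : ∀ i, i < 2704 → fw i = true := below_step fw 2691 13 2704 wu206 wc207 rfl
theorem wc208 : allBelow (fun k => fw (Nat.add 2704 k)) 13 = true := by decide +kernel
theorem wu208 : ∀ i, i < 2717 → fw i = true := below_step fw 2704 13 2717 wu207 wc208 rfl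
theorem wc209 : allBelow (fun k => fw (Nat.add 2717 k)) 13 = true := by decide +kernel
theorem wu209 : ∀ i, i < 2730 → fw i = true := below_step fw 2717 13 2730 wu208 wc209 rfl
theorem wc210 : allBelow (fun k => fw (Nat.add 2730 k)) 13 = true := by decide +kernel
theorem wu210 : ∀ i, i < 2743 → fw i = true := below_step fw 2730 13 2743 wu209 wc210 rfl
theorem wc211 : allBelow (fun k => fw (Nat.add 2743 k)) 13 = true := by decide +kernel
theorem wu211 : ∀ i, i < 2756 → fw i = true := below_step fw 2743 13 2756 wu210 wc211 rfl
theorem wc212 : allBelow (fun k => fw (Nat.add 2756 k)) 13 = true := by decide +kernel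
theorem wu212 : ∀ i, i < 2769 → fw i = true := below_step fw 2756 13 2769 wu211 wc212 rfl
theorem wc213 : allBelow (fun k => fw (Nat.add 2769 k)) 13 = true := by decide +kernel
theorem wu213 : ∀ i, i < 2782 → fw i = true := below_step fw 2769 13 2782 wu212 wc213 rfl
theorem wc214 : allBelow (fun k => fw (Nat.add 2782 k)) 13 = true := by decide +kernel
theorem wu214 : ∀ i, i < 2795 → fw i = true := below_step fw 2782 13 2795 wu213 wc214 rfl
theorem wc215 : allBelow (fun k => fw (Nat.add 2795 k)) 13 = true := by decide +kernel
theorem wu215 : ∀ i, i < 2808 → fw i = true := below_step fw 2795 13 2808 wu214 wc215 rfl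
theorem wc216 : allBelow (fun k => fw (Nat.add 2808 k)) 13 = true := by decide +kernel
theorem wu216 : ∀ i, i < 2821 → fw i = true := below_step fw 2808 13 2821 wu215 wc216 rfl
theorem wc217 : allBelow (fun k => fw (Nat.add 2821 k)) 13 = true := by decide +kernel
theorem wu217 : ∀ i, i < 2834 → fw i = true := below_step fw 2821 13 2834 wu216 wc217 rfl
theorem wc218 : allBelow (fun k => fw (Nat.add 2834 k)) 13 = true := by decide +kernel
theorem wu218 : ∀ i, i < 2847 → fw i = true := below_step fw 2834 13 2847 wu217 wc218 rfl
theorem wc219 : allBelow (fun k => fw (Nat.add 2847 k)) 13 = true := by decide +kernel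
theorem wu219 : ∀ i, i < 2860 → fw i = true := below_step fw 2847 13 2860 wu218 wc219 rfl
theorem wc220 : allBelow (fun k => fw (Nat.add 2860 k)) 13 = true := by decide +kernel
theorem wu220 : ∀ i, i < 2873 → fw i = true := below_step fw 2860 13 2873 wu219 wc220 rfl
theorem wc221 : allBelow (fun k => fw (Nat.add 2873 k)) 13 = true := by decide +kernel
theorem wu221 : ∀ i, i < 2886 → fw i = true := below_step fw 2873 13 2886 wu220 wc221 rfl
theorem wc222 : allBelow (fun k => fw (Nat.add 2886 k)) 13 = true := by decide +kernel
theorem wu222 : ∀ i, i < 2899 → fw i = true := below_step fw 2886 13 2899 wu221 wc222 rfl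
theorem wc223 : allBelow (fun k => fw (Nat.add 2899 k)) 13 = true := by decide +kernel
theorem wu223 : ∀ i, i < 2912 → fw i = true := below_step fw 2899 13 2912 wu222 wc223 rfl
theorem wc224 : allBelow (fun k => fw (Nat.add 2912 k)) 13 = true := by decide +kernel
theorem wu224 : ∀ i, i < 2925 → fw i = true := below_step fw 2912 13 2925 wu223 wc224 rfl
theorem wc225 : allBelow (fun k => fw (Nat.add 2925 k)) 13 = true := by decide +kernel
theorem wu225 : ∀ i, i < 2938 → fw i = true := below_step fw 2925 13 2938 wu224 wc225 rfl
theorem wc226 : allBelow (fun k => fw (Nat.add 2938 k)) 13 = true := by decide +kernel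
theorem wu226 : ∀ i, i < 2951 → fw i = true := below_step fw 2938 13 2951 wu225 wc226 rfl
theorem wc227 : allBelow (fun k => fw (Nat.add 2951 k)) 13 = true := by decide +kernel
theorem wu227 : ∀ i, i < 2964 → fw i = true := below_step fw 2951 13 2964 wu226 wc227 rfl
theorem wc228 : allBelow (fun k => fw (Nat.add 2964 k)) 13 = true := by decide +kernel
theorem wu228 : ∀ i, i < 2977 → fw i = true := below_step fw 2964 13 2977 wu227 wc228 rfl
theorem wc229 : allBelow (fun k => fw (Nat.add 2977 k)) 13 = true := by decide +kernel
theorem wu229 : ∀ i, i < 2990 → fw i = true := below_step fw 2977 13 2990 wu228 wc229 rfl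
theorem wc230 : allBelow (fun k => fw (Nat.add 2990 k)) 13 = true := by decide +kernel
theorem wu230 : ∀ i, i < 3003 → fw i = true := below_step fw 2990 13 3003 wu229 wc230 rfl
theorem wc231 : allBelow (fun k => fw (Nat.add 3003 k)) 13 = true := by decide +kernel
theorem wu231 : ∀ i, i < 3016 → fw i = true := below_step fw 3003 13 3016 wu230 wc231 rfl
theorem wc232 : allBelow (fun k => fw (Nat.add 3016 k)) 13 = true := by decide +kernel
theorem wu232 : ∀ i, i < 3029 → fw i = true := below_step fw 3016 13 3029 wu231 wc232 rfl
theorem wc233 : allBelow (fun k => fw (Nat.add 3029 k)) 13 = true := by decide +kernel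
theorem wu233 : ∀ i, i < 3042 → fw i = true := below_step fw 3029 13 3042 wu232 wc233 rfl
theorem wc234 : allBelow (fun k => fw (Nat.add 3042 k)) 13 = true := by decide +kernel
theorem wu234 : ∀ i, i < 3055 → fw i = true := below_step fw 3042 13 3055 wu233 wc234 rfl
theorem wc235 : allBelow (fun k => fw (Nat.add 3055 k)) 13 = true := by decide +kernel
theorem wu235 : ∀ i, i < 3068 → fw i = true := below_step fw 3055 13 3068 wu234 wc235 rfl
theorem wc236 : allBelow (fun k => fw (Nat.add 3068 k)) 13 = true := by decide +kernel
theorem wu236 : ∀ i, i < 3081 → fw i = true := below_step fw 3068 13 3081 wu235 wc236 rfl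
theorem wc237 : allBelow (fun k => fw (Nat.add 3081 k)) 13 = true := by decide +kernel
theorem wu237 : ∀ i, i < 3094 → fw i = true := below_step fw 3081 13 3094 wu236 wc237 rfl
theorem wc238 : allBelow (fun k => fw (Nat.add 3094 k)) 13 = true := by decide +kernel
theorem wu238 : ∀ i, i < 3107 → fw i = true := below_step fw 3094 13 3107 wu237 wc238 rfl
theorem wc239 : allBelow (fun k => fw (Nat.add 3107 k)) 13 = true := by decide +kernel
theorem wu239 : ∀ i, i < 3120 → fw i = true := below_step fw 3107 13 3120 wu238 wc239 rfl
theorem wc240 : allBelow (fun k => fw (Nat.add 3120 k)) 13 = true := by decide +kernel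
theorem wu240 : ∀ i, i < 3133 → fw i = true := below_step fw 3120 13 3133 wu239 wc240 rfl
theorem wc241 : allBelow (fun k => fw (Nat.add 3133 k)) 13 = true := by decide +kernel
theorem wu241 : ∀ i, i < 3146 → fw i = true := below_step fw 3133 13 3146 wu240 wc241 rfl
theorem wc242 : allBelow (fun k => fw (Nat.add 3146 k)) 13 = true := by decide +kernel
theorem wu242 : ∀ i, i < 3159 → fw i = true := below_step fw 3146 13 3159 wu241 wc242 rfl
theorem wc243 : allBelow (fun k => fw (Nat.add 3159 k)) 13 = true := by decide +kernel
theorem wu243 : ∀ i, i < 3172 → fw i = true := below_step fw 3159 13 3172 wu242 wc243 rfl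
theorem wc244 : allBelow (fun k => fw (Nat.add 3172 k)) 13 = true := by decide +kernel
theorem wu244 : ∀ i, i < 3185 → fw i = true := below_step fw 3172 13 3185 wu243 wc244 rfl
theorem wc245 : allBelow (fun k => fw (Nat.add 3185 k)) 13 = true := by decide +kernel
theorem wu245 : ∀ i, i < 3198 → fw i = true := below_step fw 3185 13 3198 wu244 wc245 rfl
theorem wc246 : allBelow (fun k => fw (Nat.add 3198 k)) 13 = true := by decide +kernel
theorem wu246 : ∀ i, i < 3211 → fw i = true := below_step fw 3198 13 3211 wu245 wc246 rfl
theorem wc247 : allBelow (fun k => fw (Nat.add 3211 k)) 13 = true := by decide +kernel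
theorem wu247 : ∀ i, i < 3224 → fw i = true := below_step fw 3211 13 3224 wu246 wc247 rfl
theorem wc248 : allBelow (fun k => fw (Nat.add 3224 k)) 13 = true := by decide +kernel
theorem wu248 : ∀ i, i < 3237 → fw i = true := below_step fw 3224 13 3237 wu247 wc248 rfl
theorem wc249 : allBelow (fun k => fw (Nat.add 3237 k)) 13 = true := by decide +kernel
theorem wu249 : ∀ i, i < 3250 → fw i = true := below_step fw 3237 13 3250 wu248 wc249 rfl
theorem wc250 : allBelow (fun k => fw (Nat.add 3250 k)) 13 = true := by decide +kernel
theorem wu250 : ∀ i, i < 3263 → fw i = true := below_step fw 3250 13 3263 wu249 wc250 rfl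
theorem wc251 : allBelow (fun k => fw (Nat.add 3263 k)) 13 = true := by decide +kernel
theorem wu251 : ∀ i, i < 3276 → fw i = true := below_step fw 3263 13 3276 wu250 wc251 rfl
theorem wc252 : allBelow (fun k => fw (Nat.add 3276 k)) 13 = true := by decide +kernel
theorem wu252 : ∀ i, i < 3289 → fw i = true := below_step fw 3276 13 3289 wu251 wc252 rfl
theorem wc253 : allBelow (fun k => fw (Nat.add 3289 k)) 13 = true := by decide +kernel
theorem wu253 : ∀ i, i < 3302 → fw i = true := below_step fw 3289 13 3302 wu252 wc253 rfl
theorem wc254 : allBelow (fun k => fw (Nat.add 3302 k)) 13 = true := by decide +kernel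
theorem wu254 : ∀ i, i < 3315 → fw i = true := below_step fw 3302 13 3315 wu253 wc254 rfl
theorem wc255 : allBelow (fun k => fw (Nat.add 3315 k)) 13 = true := by decide +kernel
theorem wu255 : ∀ i, i < 3328 → fw i = true := below_step fw 3315 13 3328 wu254 wc255 rfl
theorem wc256 : allBelow (fun k => fw (Nat.add 3328 k)) 13 = true := by decide +kernel
theorem wu256 : ∀ i, i < 3341 → fw i = true := below_step fw 3328 13 3341 wu255 wc256 rfl
theorem wc257 : allBelow (fun k => fw (Nat.add 3341 k)) 13 = true := by decide +kernel
theorem wu257 : ∀ i, i < 3354 → fw i = true := below_step fw 3341 13 3354 wu256 wc257 rfl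
theorem wc258 : allBelow (fun k => fw (Nat.add 3354 k)) 13 = true := by decide +kernel
theorem wu258 : ∀ i, i < 3367 → fw i = true := below_step fw 3354 13 3367 wu257 wc258 rfl
theorem wc259 : allBelow (fun k => fw (Nat.add 3367 k)) 13 = true := by decide +kernel
theorem wu259 : ∀ i, i < 3380 → fw i = true := below_step fw 3367 13 3380 wu258 wc259 rfl
theorem wc260 : allBelow (fun k => fw (Nat.add 3380 k)) 13 = true := by decide +kernel
theorem wu260 : ∀ i, i < 3393 → fw i = true := below_step fw 3380 13 3393 wu259 wc260 rfl
theorem wc261 : allBelow (fun k => fw (Nat.add 3393 k)) 13 = true := by decide +kernel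
theorem wu261 : ∀ i, i < 3406 → fw i = true := below_step fw 3393 13 3406 wu260 wc261 rfl
theorem wc262 : allBelow (fun k => fw (Nat.add 3406 k)) 13 = true := by decide +kernel
theorem wu262 : ∀ i, i < 3419 → fw i = true := below_step fw 3406 13 3419 wu261 wc262 rfl
theorem wc263 : allBelow (fun k => fw (Nat.add 3419 k)) 13 = true := by decide +kernel
theorem wu263 : ∀ i, i < 3432 → fw i = true := below_step fw 3419 13 3432 wu262 wc263 rfl
theorem wc264 : allBelow (fun k => fw (Nat.add 3432 k)) 13 = true := by decide +kernel
theorem wu264 : ∀ i, i < 3445 → fw i = true := below_step fw 3432 13 3445 wu263 wc264 rfl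
theorem wc265 : allBelow (fun k => fw (Nat.add 3445 k)) 13 = true := by decide +kernel
theorem wu265 : ∀ i, i < 3458 → fw i = true := below_step fw 3445 13 3458 wu264 wc265 rfl
theorem wc266 : allBelow (fun k => fw (Nat.add 3458 k)) 13 = true := by decide +kernel
theorem wu266 : ∀ i, i < 3471 → fw i = true := below_step fw 3458 13 3471 wu265 wc266 rfl
theorem wc267 : allBelow (fun k => fw (Nat.add 3471 k)) 13 = true := by decide +kernel
theorem wu267 : ∀ i, i < 3484 → fw i = true := below_step fw 3471 13 3484 wu266 wc267 rfl
theorem wc268 : allBelow (fun k => fw (Nat.add 3484 k)) 13 = true := by decide +kernel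
theorem wu268 : ∀ i, i < 3497 → fw i = true := below_step fw 3484 13 3497 wu267 wc268 rfl
theorem wc269 : allBelow (fun k => fw (Nat.add 3497 k)) 13 = true := by decide +kernel
theorem wu269 : ∀ i, i < 3510 → fw i = true := below_step fw 3497 13 3510 wu268 wc269 rfl
theorem wc270 : allBelow (fun k => fw (Nat.add 3510 k)) 13 = true := by decide +kernel
theorem wu270 : ∀ i, i < 3523 → fw i = true := below_step fw 3510 13 3523 wu269 wc270 rfl
theorem wc271 : allBelow (fun k => fw (Nat.add 3523 k)) 13 = true := by decide +kernel
theorem wu271 : ∀ i, i < 3536 → fw i = true := below_step fw 3523 13 3536 wu270 wc271 rfl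
theorem wc272 : allBelow (fun k => fw (Nat.add 3536 k)) 13 = true := by decide +kernel
theorem wu272 : ∀ i, i < 3549 → fw i = true := below_step fw 3536 13 3549 wu271 wc272 rfl
theorem wc273 : allBelow (fun k => fw (Nat.add 3549 k)) 13 = true := by decide +kernel
theorem wu273 : ∀ i, i < 3562 → fw i = true := below_step fw 3549 13 3562 wu272 wc273 rfl
theorem wc274 : allBelow (fun k => fw (Nat.add 3562 k)) 13 = true := by decide +kernel
theorem wu274 : ∀ i, i < 3575 → fw i = true := below_step fw 3562 13 3575 wu273 wc274 rfl
theorem wc275 : allBelow (fun k => fw (Nat.add 3575 k)) 13 = true := by decide +kernel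
theorem wu275 : ∀ i, i < 3588 → fw i = true := below_step fw 3575 13 3588 wu274 wc275 rfl
theorem wc276 : allBelow (fun k => fw (Nat.add 3588 k)) 13 = true := by decide +kernel
theorem wu276 : ∀ i, i < 3601 → fw i = true := below_step fw 3588 13 3601 wu275 wc276 rfl
theorem wc277 : allBelow (fun k => fw (Nat.add 3601 k)) 13 = true := by decide +kernel
theorem wu277 : ∀ i, i < 3614 → fw i = true := below_step fw 3601 13 3614 wu276 wc277 rfl
theorem wc278 : allBelow (fun k => fw (Nat.add 3614 k)) 13 = true := by decide +kernel
theorem wu278 : ∀ i, i < 3627 → fw i = true := below_step fw 3614 13 3627 wu277 wc278 rfl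
theorem wc279 : allBelow (fun k => fw (Nat.add 3627 k)) 13 = true := by decide +kernel
theorem wu279 : ∀ i, i < 3640 → fw i = true := below_step fw 3627 13 3640 wu278 wc279 rfl
theorem wc280 : allBelow (fun k => fw (Nat.add 3640 k)) 13 = true := by decide +kernel
theorem wu280 : ∀ i, i < 3653 → fw i = true := below_step fw 3640 13 3653 wu279 wc280 rfl
theorem wc281 : allBelow (fun k => fw (Nat.add 3653 k)) 13 = true := by decide +kernel
theorem wu281 : ∀ i, i < 3666 → fw i = true := below_step fw 3653 13 3666 wu280 wc281 rfl
theorem wc282 : allBelow (fun k => fw (Nat.add 3666 k)) 13 = true := by decide +kernel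
theorem wu282 : ∀ i, i < 3679 → fw i = true := below_step fw 3666 13 3679 wu281 wc282 rfl
theorem wc283 : allBelow (fun k => fw (Nat.add 3679 k)) 13 = true := by decide +kernel
theorem wu283 : ∀ i, i < 3692 → fw i = true := below_step fw 3679 13 3692 wu282 wc283 rfl
theorem wc284 : allBelow (fun k => fw (Nat.add 3692 k)) 13 = true := by decide +kernel
theorem wu284 : ∀ i, i < 3705 → fw i = true := below_step fw 3692 13 3705 wu283 wc284 rfl
theorem wc285 : allBelow (fun k => fw (Nat.add 3705 k)) 13 = true := by decide +kernel
theorem wu285 : ∀ i, i < 3718 → fw i = true := below_step fw 3705 13 3718 wu284 wc285 rfl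
theorem wc286 : allBelow (fun k => fw (Nat.add 3718 k)) 13 = true := by decide +kernel
theorem wu286 : ∀ i, i < 3731 → fw i = true := below_step fw 3718 13 3731 wu285 wc286 rfl
theorem wc287 : allBelow (fun k => fw (Nat.add 3731 k)) 13 = true := by decide +kernel
theorem wu287 : ∀ i, i < 3744 → fw i = true := below_step fw 3731 13 3744 wu286 wc287 rfl
theorem wc288 : allBelow (fun k => fw (Nat.add 3744 k)) 13 = true := by decide +kernel
theorem wu288 : ∀ i, i < 3757 → fw i = true := below_step fw 3744 13 3757 wu287 wc288 rfl
theorem wc289 : allBelow (fun k => fw (Nat.add 3757 k)) 13 = true := by decide +kernel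
theorem wu289 : ∀ i, i < 3770 → fw i = true := below_step fw 3757 13 3770 wu288 wc289 rfl
theorem wc290 : allBelow (fun k => fw (Nat.add 3770 k)) 13 = true := by decide +kernel
theorem wu290 : ∀ i, i < 3783 → fw i = true := below_step fw 3770 13 3783 wu289 wc290 rfl
theorem wc291 : allBelow (fun k => fw (Nat.add 3783 k)) 13 = true := by decide +kernel
theorem wu291 : ∀ i, i < 3796 → fw i = true := below_step fw 3783 13 3796 wu290 wc291 rfl
theorem wc292 : allBelow (fun k => fw (Nat.add 3796 k)) 13 = true := by decide +kernel
theorem wu292 : ∀ i, i < 3809 → fw i = true := below_step fw 3796 13 3809 wu291 wc292 rfl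
theorem wc293 : allBelow (fun k => fw (Nat.add 3809 k)) 13 = true := by decide +kernel
theorem wu293 : ∀ i, i < 3822 → fw i = true := below_step fw 3809 13 3822 wu292 wc293 rfl
theorem wc294 : allBelow (fun k => fw (Nat.add 3822 k)) 13 = true := by decide +kernel
theorem wu294 : ∀ i, i < 3835 → fw i = true := below_step fw 3822 13 3835 wu293 wc294 rfl
theorem wc295 : allBelow (fun k => fw (Nat.add 3835 k)) 13 = true := by decide +kernel
theorem wu295 : ∀ i, i < 3848 → fw i = true := below_step fw 3835 13 3848 wu294 wc295 rfl
theorem wc296 : allBelow (fun k => fw (Nat.add 3848 k)) 13 = true := by decide +kernel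
theorem wu296 : ∀ i, i < 3861 → fw i = true := below_step fw 3848 13 3861 wu295 wc296 rfl
theorem wc297 : allBelow (fun k => fw (Nat.add 3861 k)) 13 = true := by decide +kernel
theorem wu297 : ∀ i, i < 3874 → fw i = true := below_step fw 3861 13 3874 wu296 wc297 rfl
theorem wc298 : allBelow (fun k => fw (Nat.add 3874 k)) 13 = true := by decide +kernel
theorem wu298 : ∀ i, i < 3887 → fw i = true := below_step fw 3874 13 3887 wu297 wc298 rfl
theorem wc299 : allBelow (fun k => fw (Nat.add 3887 k)) 13 = true := by decide +kernel
theorem wu299 : ∀ i, i < 3900 → fw i = true := below_step fw 3887 13 3900 wu298 wc299 rfl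
theorem wc300 : allBelow (fun k => fw (Nat.add 3900 k)) 13 = true := by decide +kernel
theorem wu300 : ∀ i, i < 3913 → fw i = true := below_step fw 3900 13 3913 wu299 wc300 rfl
theorem wc301 : allBelow (fun k => fw (Nat.add 3913 k)) 13 = true := by decide +kernel
theorem wu301 : ∀ i, i < 3926 → fw i = true := below_step fw 3913 13 3926 wu300 wc301 rfl
theorem wc302 : allBelow (fun k => fw (Nat.add 3926 k)) 13 = true := by decide +kernel
theorem wu302 : ∀ i, i < 3939 → fw i = true := below_step fw 3926 13 3939 wu301 wc302 rfl
theorem wc303 : allBelow (fun k => fw (Nat.add 3939 k)) 13 = true := by decide +kernel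
theorem wu303 : ∀ i, i < 3952 → fw i = true := below_step fw 3939 13 3952 wu302 wc303 rfl
theorem wc304 : allBelow (fun k => fw (Nat.add 3952 k)) 13 = true := by decide +kernel
theorem wu304 : ∀ i, i < 3965 → fw i = true := below_step fw 3952 13 3965 wu303 wc304 rfl
theorem wc305 : allBelow (fun k => fw (Nat.add 3965 k)) 13 = true := by decide +kernel
theorem wu305 : ∀ i, i < 3978 → fw i = true := below_step fw 3965 13 3978 wu304 wc305 rfl
theorem wc306 : allBelow (fun k => fw (Nat.add 3978 k)) 13 = true := by decide +kernel
theorem wu306 : ∀ i, i < 3991 → fw i = true := below_step fw 3978 13 3991 wu305 wc306 rfl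
theorem wc307 : allBelow (fun k => fw (Nat.add 3991 k)) 13 = true := by decide +kernel
theorem wu307 : ∀ i, i < 4004 → fw i = true := below_step fw 3991 13 4004 wu306 wc307 rfl
theorem wc308 : allBelow (fun k => fw (Nat.add 4004 k)) 13 = true := by decide +kernel
theorem wu308 : ∀ i, i < 4017 → fw i = true := below_step fw 4004 13 4017 wu307 wc308 rfl
theorem wc309 : allBelow (fun k => fw (Nat.add 4017 k)) 13 = true := by decide +kernel
theorem wu309 : ∀ i, i < 4030 → fw i = true := below_step fw 4017 13 4030 wu308 wc309 rfl
theorem wc310 : allBelow (fun k => fw (Nat.add 4030 k)) 13 = true := by decide +kernel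
theorem wu310 : ∀ i, i < 4043 → fw i = true := below_step fw 4030 13 4043 wu309 wc310 rfl
theorem wc311 : allBelow (fun k => fw (Nat.add 4043 k)) 13 = true := by decide +kernel
theorem wu311 : ∀ i, i < 4056 → fw i = true := below_step fw 4043 13 4056 wu310 wc311 rfl
theorem wc312 : allBelow (fun k => fw (Nat.add 4056 k)) 13 = true := by decide +kernel
theorem wu312 : ∀ i, i < 4069 → fw i = true := below_step fw 4056 13 4069 wu311 wc312 rfl
theorem wc313 : allBelow (fun k => fw (Nat.add 4069 k)) 13 = true := by decide +kernel
theorem wu313 : ∀ i, i < 4082 → fw i = true := below_step fw 4069 13 4082 wu312 wc313 rfl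
theorem wc314 : allBelow (fun k => fw (Nat.add 4082 k)) 13 = true := by decide +kernel
theorem wu314 : ∀ i, i < 4095 → fw i = true := below_step fw 4082 13 4095 wu313 wc314 rfl
theorem wc315 : allBelow (fun k => fw (Nat.add 4095 k)) 13 = true := by decide +kernel
theorem wu315 : ∀ i, i < 4108 → fw i = true := below_step fw 4095 13 4108 wu314 wc315 rfl
theorem wc316 : allBelow (fun k => fw (Nat.add 4108 k)) 13 = true := by decide +kernel
theorem wu316 : ∀ i, i < 4121 → fw i = true := below_step fw 4108 13 4121 wu315 wc316 rfl
theorem wc317 : allBelow (fun k => fw (Nat.add 4121 k)) 13 = true := by decide +kernel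
theorem wu317 : ∀ i, i < 4134 → fw i = true := below_step fw 4121 13 4134 wu316 wc317 rfl
theorem wc318 : allBelow (fun k => fw (Nat.add 4134 k)) 13 = true := by decide +kernel
theorem wu318 : ∀ i, i < 4147 → fw i = true := below_step fw 4134 13 4147 wu317 wc318 rfl
theorem wc319 : allBelow (fun k => fw (Nat.add 4147 k)) 13 = true := by decide +kernel
theorem wu319 : ∀ i, i < 4160 → fw i = true := below_step fw 4147 13 4160 wu318 wc319 rfl
theorem wc320 : allBelow (fun k => fw (Nat.add 4160 k)) 13 = true := by decide +kernel
theorem wu320 : ∀ i, i < 4173 → fw i = true := below_step fw 4160 13 4173 wu319 wc320 rfl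
theorem wc321 : allBelow (fun k => fw (Nat.add 4173 k)) 13 = true := by decide +kernel
theorem wu321 : ∀ i, i < 4186 → fw i = true := below_step fw 4173 13 4186 wu320 wc321 rfl
theorem wc322 : allBelow (fun k => fw (Nat.add 4186 k)) 13 = true := by decide +kernel
theorem wu322 : ∀ i, i < 4199 → fw i = true := below_step fw 4186 13 4199 wu321 wc322 rfl
theorem wc323 : allBelow (fun k => fw (Nat.add 4199 k)) 13 = true := by decide +kernel
theorem wu323 : ∀ i, i < 4212 → fw i = true := below_step fw 4199 13 4212 wu322 wc323 rfl
theorem wc324 : allBelow (fun k => fw (Nat.add 4212 k)) 13 = true := by decide +kernel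
theorem wu324 : ∀ i, i < 4225 → fw i = true := below_step fw 4212 13 4225 wu323 wc324 rfl
theorem wc325 : allBelow (fun k => fw (Nat.add 4225 k)) 13 = true := by decide +kernel
theorem wu325 : ∀ i, i < 4238 → fw i = true := below_step fw 4225 13 4238 wu324 wc325 rfl
theorem wc326 : allBelow (fun k => fw (Nat.add 4238 k)) 13 = true := by decide +kernel
theorem wu326 : ∀ i, i < 4251 → fw i = true := below_step fw 4238 13 4251 wu325 wc326 rfl
theorem wc327 : allBelow (fun k => fw (Nat.add 4251 k)) 13 = true := by decide +kernel
theorem wu327 : ∀ i, i < 4264 → fw i = true := below_step fw 4251 13 4264 wu326 wc327 rfl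
theorem wc328 : allBelow (fun k => fw (Nat.add 4264 k)) 13 = true := by decide +kernel
theorem wu328 : ∀ i, i < 4277 → fw i = true := below_step fw 4264 13 4277 wu327 wc328 rfl
theorem wc329 : allBelow (fun k => fw (Nat.add 4277 k)) 13 = true := by decide +kernel
theorem wu329 : ∀ i, i < 4290 → fw i = true := below_step fw 4277 13 4290 wu328 wc329 rfl
theorem wc330 : allBelow (fun k => fw (Nat.add 4290 k)) 13 = true := by decide +kernel
theorem wu330 : ∀ i, i < 4303 → fw i = true := below_step fw 4290 13 4303 wu329 wc330 rfl
theorem wc331 : allBelow (fun k => fw (Nat.add 4303 k)) 13 = true := by decide +kernel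
theorem wu331 : ∀ i, i < 4316 → fw i = true := below_step fw 4303 13 4316 wu330 wc331 rfl
theorem wc332 : allBelow (fun k => fw (Nat.add 4316 k)) 13 = true := by decide +kernel
theorem wu332 : ∀ i, i < 4329 → fw i = true := below_step fw 4316 13 4329 wu331 wc332 rfl
theorem wc333 : allBelow (fun k => fw (Nat.add 4329 k)) 13 = true := by decide +kernel
theorem wu333 : ∀ i, i < 4342 → fw i = true := below_step fw 4329 13 4342 wu332 wc333 rfl
theorem wc334 : allBelow (fun k => fw (Nat.add 4342 k)) 13 = true := by decide +kernel
theorem wu334 : ∀ i, i < 4355 → fw i = true := below_step fw 4342 13 4355 wu333 wc334 rfl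
theorem wc335 : allBelow (fun k => fw (Nat.add 4355 k)) 13 = true := by decide +kernel
theorem wu335 : ∀ i, i < 4368 → fw i = true := below_step fw 4355 13 4368 wu334 wc335 rfl
theorem wc336 : allBelow (fun k => fw (Nat.add 4368 k)) 13 = true := by decide +kernel
theorem wu336 : ∀ i, i < 4381 → fw i = true := below_step fw 4368 13 4381 wu335 wc336 rfl
theorem wc337 : allBelow (fun k => fw (Nat.add 4381 k)) 13 = true := by decide +kernel
theorem wu337 : ∀ i, i < 4394 → fw i = true := below_step fw 4381 13 4394 wu336 wc337 rfl
theorem wc338 : allBelow (fun k => fw (Nat.add 4394 k)) 13 = true := by decide +kernel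
theorem wu338 : ∀ i, i < 4407 → fw i = true := below_step fw 4394 13 4407 wu337 wc338 rfl
theorem wc339 : allBelow (fun k => fw (Nat.add 4407 k)) 13 = true := by decide +kernel
theorem wu339 : ∀ i, i < 4420 → fw i = true := below_step fw 4407 13 4420 wu338 wc339 rfl
theorem wc340 : allBelow (fun k => fw (Nat.add 4420 k)) 13 = true := by decide +kernel
theorem wu340 : ∀ i, i < 4433 → fw i = true := below_step fw 4420 13 4433 wu339 wc340 rfl
theorem wc341 : allBelow (fun k => fw (Nat.add 4433 k)) 13 = true := by decide +kernel
theorem wu341 : ∀ i, i < 4446 → fw i = true := below_step fw 4433 13 4446 wu340 wc341 rfl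
theorem wc342 : allBelow (fun k => fw (Nat.add 4446 k)) 13 = true := by decide +kernel
theorem wu342 : ∀ i, i < 4459 → fw i = true := below_step fw 4446 13 4459 wu341 wc342 rfl
theorem wc343 : allBelow (fun k => fw (Nat.add 4459 k)) 13 = true := by decide +kernel
theorem wu343 : ∀ i, i < 4472 → fw i = true := below_step fw 4459 13 4472 wu342 wc343 rfl
theorem wc344 : allBelow (fun k => fw (Nat.add 4472 k)) 13 = true := by decide +kernel
theorem wu344 : ∀ i, i < 4485 → fw i = true := below_step fw 4472 13 4485 wu343 wc344 rfl
theorem wc345 : allBelow (fun k => fw (Nat.add 4485 k)) 13 = true := by decide +kernel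
theorem wu345 : ∀ i, i < 4498 → fw i = true := below_step fw 4485 13 4498 wu344 wc345 rfl
theorem wc346 : allBelow (fun k => fw (Nat.add 4498 k)) 13 = true := by decide +kernel
theorem wu346 : ∀ i, i < 4511 → fw i = true := below_step fw 4498 13 4511 wu345 wc346 rfl
theorem wc347 : allBelow (fun k => fw (Nat.add 4511 k)) 13 = true := by decide +kernel
theorem wu347 : ∀ i, i < 4524 → fw i = true := below_step fw 4511 13 4524 wu346 wc347 rfl
theorem wc348 : allBelow (fun k => fw (Nat.add 4524 k)) 13 = true := by decide +kernel
theorem wu348 : ∀ i, i < 4537 → fw i = true := below_step fw 4524 13 4537 wu347 wc348 rfl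
theorem wc349 : allBelow (fun k => fw (Nat.add 4537 k)) 13 = true := by decide +kernel
theorem wu349 : ∀ i, i < 4550 → fw i = true := below_step fw 4537 13 4550 wu348 wc349 rfl
theorem wc350 : allBelow (fun k => fw (Nat.add 4550 k)) 13 = true := by decide +kernel
theorem wu350 : ∀ i, i < 4563 → fw i = true := below_step fw 4550 13 4563 wu349 wc350 rfl
theorem wc351 : allBelow (fun k => fw (Nat.add 4563 k)) 13 = true := by decide +kernel
theorem wu351 : ∀ i, i < 4576 → fw i = true := below_step fw 4563 13 4576 wu350 wc351 rfl
theorem wc352 : allBelow (fun k => fw (Nat.add 4576 k)) 13 = true := by decide +kernel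
theorem wu352 : ∀ i, i < 4589 → fw i = true := below_step fw 4576 13 4589 wu351 wc352 rfl
theorem wc353 : allBelow (fun k => fw (Nat.add 4589 k)) 13 = true := by decide +kernel
theorem wu353 : ∀ i, i < 4602 → fw i = true := below_step fw 4589 13 4602 wu352 wc353 rfl
theorem wc354 : allBelow (fun k => fw (Nat.add 4602 k)) 13 = true := by decide +kernel
theorem wu354 : ∀ i, i < 4615 → fw i = true := below_step fw 4602 13 4615 wu353 wc354 rfl
theorem wc355 : allBelow (fun k => fw (Nat.add 4615 k)) 13 = true := by decide +kernel
theorem wu355 : ∀ i, i < 4628 → fw i = true := below_step fw 4615 13 4628 wu354 wc355 rfl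
theorem wc356 : allBelow (fun k => fw (Nat.add 4628 k)) 13 = true := by decide +kernel
theorem wu356 : ∀ i, i < 4641 → fw i = true := below_step fw 4628 13 4641 wu355 wc356 rfl
theorem wc357 : allBelow (fun k => fw (Nat.add 4641 k)) 13 = true := by decide +kernel
theorem wu357 : ∀ i, i < 4654 → fw i = true := below_step fw 4641 13 4654 wu356 wc357 rfl
theorem wc358 : allBelow (fun k => fw (Nat.add 4654 k)) 13 = true := by decide +kernel
theorem wu358 : ∀ i, i < 4667 → fw i = true := below_step fw 4654 13 4667 wu357 wc358 rfl
theorem wc359 : allBelow (fun k => fw (Nat.add 4667 k)) 13 = true := by decide +kernel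
theorem wu359 : ∀ i, i < 4680 → fw i = true := below_step fw 4667 13 4680 wu358 wc359 rfl
theorem wc360 : allBelow (fun k => fw (Nat.add 4680 k)) 13 = true := by decide +kernel
theorem wu360 : ∀ i, i < 4693 → fw i = true := below_step fw 4680 13 4693 wu359 wc360 rfl
theorem wc361 : allBelow (fun k => fw (Nat.add 4693 k)) 13 = true := by decide +kernel
theorem wu361 : ∀ i, i < 4706 → fw i = true := below_step fw 4693 13 4706 wu360 wc361 rfl
theorem wc362 : allBelow (fun k => fw (Nat.add 4706 k)) 13 = true := by decide +kernel
theorem wu362 : ∀ i, i < 4719 → fw i = true := below_step fw 4706 13 4719 wu361 wc362 rfl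
theorem wc363 : allBelow (fun k => fw (Nat.add 4719 k)) 13 = true := by decide +kernel
theorem wu363 : ∀ i, i < 4732 → fw i = true := below_step fw 4719 13 4732 wu362 wc363 rfl
theorem wc364 : allBelow (fun k => fw (Nat.add 4732 k)) 13 = true := by decide +kernel
theorem wu364 : ∀ i, i < 4745 → fw i = true := below_step fw 4732 13 4745 wu363 wc364 rfl
theorem wc365 : allBelow (fun k => fw (Nat.add 4745 k)) 13 = true := by decide +kernel
theorem wu365 : ∀ i, i < 4758 → fw i = true := below_step fw 4745 13 4758 wu364 wc365 rfl
theorem wc366 : allBelow (fun k => fw (Nat.add 4758 k)) 13 = true := by decide +kernel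
theorem wu366 : ∀ i, i < 4771 → fw i = true := below_step fw 4758 13 4771 wu365 wc366 rfl
theorem wc367 : allBelow (fun k => fw (Nat.add 4771 k)) 13 = true := by decide +kernel
theorem wu367 : ∀ i, i < 4784 → fw i = true := below_step fw 4771 13 4784 wu366 wc367 rfl
theorem wc368 : allBelow (fun k => fw (Nat.add 4784 k)) 13 = true := by decide +kernel
theorem wu368 : ∀ i, i < 4797 → fw i = true := below_step fw 4784 13 4797 wu367 wc368 rfl
theorem wc369 : allBelow (fun k => fw (Nat.add 4797 k)) 13 = true := by decide +kernel
theorem wu369 : ∀ i, i < 4810 → fw i = true := below_step fw 4797 13 4810 wu368 wc369 rfl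
theorem wc370 : allBelow (fun k => fw (Nat.add 4810 k)) 13 = true := by decide +kernel
theorem wu370 : ∀ i, i < 4823 → fw i = true := below_step fw 4810 13 4823 wu369 wc370 rfl
theorem wc371 : allBelow (fun k => fw (Nat.add 4823 k)) 13 = true := by decide +kernel
theorem wu371 : ∀ i, i < 4836 → fw i = true := below_step fw 4823 13 4836 wu370 wc371 rfl
theorem wc372 : allBelow (fun k => fw (Nat.add 4836 k)) 13 = true := by decide +kernel
theorem wu372 : ∀ i, i < 4849 → fw i = true := below_step fw 4836 13 4849 wu371 wc372 rfl
theorem wc373 : allBelow (fun k => fw (Nat.add 4849 k)) 13 = true := by decide +kernel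
theorem wu373 : ∀ i, i < 4862 → fw i = true := below_step fw 4849 13 4862 wu372 wc373 rfl
theorem wc374 : allBelow (fun k => fw (Nat.add 4862 k)) 13 = true := by decide +kernel
theorem wu374 : ∀ i, i < 4875 → fw i = true := below_step fw 4862 13 4875 wu373 wc374 rfl
theorem wc375 : allBelow (fun k => fw (Nat.add 4875 k)) 13 = true := by decide +kernel
theorem wu375 : ∀ i, i < 4888 → fw i = true := below_step fw 4875 13 4888 wu374 wc375 rfl
theorem wc376 : allBelow (fun k => fw (Nat.add 4888 k)) 13 = true := by decide +kernel
theorem wu376 : ∀ i, i < 4901 → fw i = true := below_step fw 4888 13 4901 wu375 wc376 rfl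
theorem wc377 : allBelow (fun k => fw (Nat.add 4901 k)) 13 = true := by decide +kernel
theorem wu377 : ∀ i, i < 4914 → fw i = true := below_step fw 4901 13 4914 wu376 wc377 rfl
theorem wc378 : allBelow (fun k => fw (Nat.add 4914 k)) 13 = true := by decide +kernel
theorem wu378 : ∀ i, i < 4927 → fw i = true := below_step fw 4914 13 4927 wu377 wc378 rfl
theorem wc379 : allBelow (fun k => fw (Nat.add 4927 k)) 13 = true := by decide +kernel
theorem wu379 : ∀ i, i < 4940 → fw i = true := below_step fw 4927 13 4940 wu378 wc379 rfl
theorem wc380 : allBelow (fun k => fw (Nat.add 4940 k)) 13 = true := by decide +kernel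
theorem wu380 : ∀ i, i < 4953 → fw i = true := below_step fw 4940 13 4953 wu379 wc380 rfl
theorem wc381 : allBelow (fun k => fw (Nat.add 4953 k)) 13 = true := by decide +kernel
theorem wu381 : ∀ i, i < 4966 → fw i = true := below_step fw 4953 13 4966 wu380 wc381 rfl
theorem wc382 : allBelow (fun k => fw (Nat.add 4966 k)) 13 = true := by decide +kernel
theorem wu382 : ∀ i, i < 4979 → fw i = true := below_step fw 4966 13 4979 wu381 wc382 rfl
theorem wc383 : allBelow (fun k => fw (Nat.add 4979 k)) 13 = true := by decide +kernel
theorem wu383 : ∀ i, i < 4992 → fw i = true := below_step fw 4979 13 4992 wu382 wc383 rfl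
theorem wc384 : allBelow (fun k => fw (Nat.add 4992 k)) 13 = true := by decide +kernel
theorem wu384 : ∀ i, i < 5005 → fw i = true := below_step fw 4992 13 5005 wu383 wc384 rfl
theorem wc385 : allBelow (fun k => fw (Nat.add 5005 k)) 13 = true := by decide +kernel
theorem wu385 : ∀ i, i < 5018 → fw i = true := below_step fw 5005 13 5018 wu384 wc385 rfl
theorem wc386 : allBelow (fun k => fw (Nat.add 5018 k)) 13 = true := by decide +kernel
theorem wu386 : ∀ i, i < 5031 → fw i = true := below_step fw 5018 13 5031 wu385 wc386 rfl
theorem wc387 : allBelow (fun k => fw (Nat.add 5031 k)) 13 = true := by decide +kernel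
theorem wu387 : ∀ i, i < 5044 → fw i = true := below_step fw 5031 13 5044 wu386 wc387 rfl
theorem wc388 : allBelow (fun k => fw (Nat.add 5044 k)) 13 = true := by decide +kernel
theorem wu388 : ∀ i, i < 5057 → fw i = true := below_step fw 5044 13 5057 wu387 wc388 rfl
theorem wc389 : allBelow (fun k => fw (Nat.add 5057 k)) 13 = true := by decide +kernel
theorem wu389 : ∀ i, i < 5070 → fw i = true := below_step fw 5057 13 5070 wu388 wc389 rfl
theorem wc390 : allBelow (fun k => fw (Nat.add 5070 k)) 13 = true := by decide +kernel
theorem wu390 : ∀ i, i < 5083 → fw i = true := below_step fw 5070 13 5083 wu389 wc390 rfl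
theorem wc391 : allBelow (fun k => fw (Nat.add 5083 k)) 13 = true := by decide +kernel
theorem wu391 : ∀ i, i < 5096 → fw i = true := below_step fw 5083 13 5096 wu390 wc391 rfl
theorem wc392 : allBelow (fun k => fw (Nat.add 5096 k)) 13 = true := by decide +kernel
theorem wu392 : ∀ i, i < 5109 → fw i = true := below_step fw 5096 13 5109 wu391 wc392 rfl
theorem wc393 : allBelow (fun k => fw (Nat.add 5109 k)) 13 = true := by decide +kernel
theorem wu393 : ∀ i, i < 5122 → fw i = true := below_step fw 5109 13 5122 wu392 wc393 rfl
theorem wc394 : allBelow (fun k => fw (Nat.add 5122 k)) 13 = true := by decide +kernel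
theorem wu394 : ∀ i, i < 5135 → fw i = true := below_step fw 5122 13 5135 wu393 wc394 rfl
theorem wc395 : allBelow (fun k => fw (Nat.add 5135 k)) 13 = true := by decide +kernel
theorem wu395 : ∀ i, i < 5148 → fw i = true := below_step fw 5135 13 5148 wu394 wc395 rfl
theorem wc396 : allBelow (fun k => fw (Nat.add 5148 k)) 13 = true := by decide +kernel
theorem wu396 : ∀ i, i < 5161 → fw i = true := below_step fw 5148 13 5161 wu395 wc396 rfl
theorem wc397 : allBelow (fun k => fw (Nat.add 5161 k)) 13 = true := by decide +kernel
theorem wu397 : ∀ i, i < 5174 → fw i = true := below_step fw 5161 13 5174 wu396 wc397 rfl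
theorem wc398 : allBelow (fun k => fw (Nat.add 5174 k)) 13 = true := by decide +kernel
theorem wu398 : ∀ i, i < 5187 → fw i = true := below_step fw 5174 13 5187 wu397 wc398 rfl
theorem wc399 : allBelow (fun k => fw (Nat.add 5187 k)) 13 = true := by decide +kernel
theorem wu399 : ∀ i, i < 5200 → fw i = true := below_step fw 5187 13 5200 wu398 wc399 rfl
theorem wc400 : allBelow (fun k => fw (Nat.add 5200 k)) 13 = true := by decide +kernel
theorem wu400 : ∀ i, i < 5213 → fw i = true := below_step fw 5200 13 5213 wu399 wc400 rfl
theorem wc401 : allBelow (fun k => fw (Nat.add 5213 k)) 13 = true := by decide +kernel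
theorem wu401 : ∀ i, i < 5226 → fw i = true := below_step fw 5213 13 5226 wu400 wc401 rfl
theorem wc402 : allBelow (fun k => fw (Nat.add 5226 k)) 13 = true := by decide +kernel
theorem wu402 : ∀ i, i < 5239 → fw i = true := below_step fw 5226 13 5239 wu401 wc402 rfl
theorem wc403 : allBelow (fun k => fw (Nat.add 5239 k)) 13 = true := by decide +kernel
theorem wu403 : ∀ i, i < 5252 → fw i = true := below_step fw 5239 13 5252 wu402 wc403 rfl
theorem wc404 : allBelow (fun k => fw (Nat.add 5252 k)) 13 = true := by decide +kernel
theorem wu404 : ∀ i, i < 5265 → fw i = true := below_step fw 5252 13 5265 wu403 wc404 rfl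
theorem wc405 : allBelow (fun k => fw (Nat.add 5265 k)) 13 = true := by decide +kernel
theorem wu405 : ∀ i, i < 5278 → fw i = true := below_step fw 5265 13 5278 wu404 wc405 rfl
theorem wc406 : allBelow (fun k => fw (Nat.add 5278 k)) 13 = true := by decide +kernel
theorem wu406 : ∀ i, i < 5291 → fw i = true := below_step fw 5278 13 5291 wu405 wc406 rfl
theorem wc407 : allBelow (fun k => fw (Nat.add 5291 k)) 13 = true := by decide +kernel
theorem wu407 : ∀ i, i < 5304 → fw i = true := below_step fw 5291 13 5304 wu406 wc407 rfl
theorem wc408 : allBelow (fun k => fw (Nat.add 5304 k)) 13 = true := by decide +kernel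
theorem wu408 : ∀ i, i < 5317 → fw i = true := below_step fw 5304 13 5317 wu407 wc408 rfl
theorem wc409 : allBelow (fun k => fw (Nat.add 5317 k)) 13 = true := by decide +kernel
theorem wu409 : ∀ i, i < 5330 → fw i = true := below_step fw 5317 13 5330 wu408 wc409 rfl
theorem wc410 : allBelow (fun k => fw (Nat.add 5330 k)) 13 = true := by decide +kernel
theorem wu410 : ∀ i, i < 5343 → fw i = true := below_step fw 5330 13 5343 wu409 wc410 rfl
theorem wc411 : allBelow (fun k => fw (Nat.add 5343 k)) 13 = true := by decide +kernel
theorem wu411 : ∀ i, i < 5356 → fw i = true := below_step fw 5343 13 5356 wu410 wc411 rfl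
theorem wc412 : allBelow (fun k => fw (Nat.add 5356 k)) 13 = true := by decide +kernel
theorem wu412 : ∀ i, i < 5369 → fw i = true := below_step fw 5356 13 5369 wu411 wc412 rfl
theorem wc413 : allBelow (fun k => fw (Nat.add 5369 k)) 13 = true := by decide +kernel
theorem wu413 : ∀ i, i < 5382 → fw i = true := below_step fw 5369 13 5382 wu412 wc413 rfl
theorem wc414 : allBelow (fun k => fw (Nat.add 5382 k)) 13 = true := by decide +kernel
theorem wu414 : ∀ i, i < 5395 → fw i = true := below_step fw 5382 13 5395 wu413 wc414 rfl
theorem wc415 : allBelow (fun k => fw (Nat.add 5395 k)) 13 = true := by decide +kernel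
theorem wu415 : ∀ i, i < 5408 → fw i = true := below_step fw 5395 13 5408 wu414 wc415 rfl
theorem wc416 : allBelow (fun k => fw (Nat.add 5408 k)) 13 = true := by decide +kernel
theorem wu416 : ∀ i, i < 5421 → fw i = true := below_step fw 5408 13 5421 wu415 wc416 rfl
theorem wc417 : allBelow (fun k => fw (Nat.add 5421 k)) 13 = true := by decide +kernel
theorem wu417 : ∀ i, i < 5434 → fw i = true := below_step fw 5421 13 5434 wu416 wc417 rfl
theorem wc418 : allBelow (fun k => fw (Nat.add 5434 k)) 13 = true := by decide +kernel
theorem wu418 : ∀ i, i < 5447 → fw i = true := below_step fw 5434 13 5447 wu417 wc418 rfl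
theorem wc419 : allBelow (fun k => fw (Nat.add 5447 k)) 13 = true := by decide +kernel
theorem wu419 : ∀ i, i < 5460 → fw i = true := below_step fw 5447 13 5460 wu418 wc419 rfl
theorem wc420 : allBelow (fun k => fw (Nat.add 5460 k)) 13 = true := by decide +kernel
theorem wu420 : ∀ i, i < 5473 → fw i = true := below_step fw 5460 13 5473 wu419 wc420 rfl
theorem wc421 : allBelow (fun k => fw (Nat.add 5473 k)) 13 = true := by decide +kernel
theorem wu421 : ∀ i, i < 5486 → fw i = true := below_step fw 5473 13 5486 wu420 wc421 rfl
theorem wc422 : allBelow (fun k => fw (Nat.add 5486 k)) 13 = true := by decide +kernel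
theorem wu422 : ∀ i, i < 5499 → fw i = true := below_step fw 5486 13 5499 wu421 wc422 rfl
theorem wc423 : allBelow (fun k => fw (Nat.add 5499 k)) 13 = true := by decide +kernel
theorem wu423 : ∀ i, i < 5512 → fw i = true := below_step fw 5499 13 5512 wu422 wc423 rfl
theorem wc424 : allBelow (fun k => fw (Nat.add 5512 k)) 13 = true := by decide +kernel
theorem wu424 : ∀ i, i < 5525 → fw i = true := below_step fw 5512 13 5525 wu423 wc424 rfl
theorem wc425 : allBelow (fun k => fw (Nat.add 5525 k)) 13 = true := by decide +kernel
theorem wu425 : ∀ i, i < 5538 → fw i = true := below_step fw 5525 13 5538 wu424 wc425 rfl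
theorem wc426 : allBelow (fun k => fw (Nat.add 5538 k)) 13 = true := by decide +kernel
theorem wu426 : ∀ i, i < 5551 → fw i = true := below_step fw 5538 13 5551 wu425 wc426 rfl
theorem wc427 : allBelow (fun k => fw (Nat.add 5551 k)) 13 = true := by decide +kernel
theorem wu427 : ∀ i, i < 5564 → fw i = true := below_step fw 5551 13 5564 wu426 wc427 rfl
theorem wc428 : allBelow (fun k => fw (Nat.add 5564 k)) 13 = true := by decide +kernel
theorem wu428 : ∀ i, i < 5577 → fw i = true := below_step fw 5564 13 5577 wu427 wc428 rfl
theorem wc429 : allBelow (fun k => fw (Nat.add 5577 k)) 13 = true := by decide +kernel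
theorem wu429 : ∀ i, i < 5590 → fw i = true := below_step fw 5577 13 5590 wu428 wc429 rfl
theorem wc430 : allBelow (fun k => fw (Nat.add 5590 k)) 13 = true := by decide +kernel
theorem wu430 : ∀ i, i < 5603 → fw i = true := below_step fw 5590 13 5603 wu429 wc430 rfl
theorem wc431 : allBelow (fun k => fw (Nat.add 5603 k)) 13 = true := by decide +kernel
theorem wu431 : ∀ i, i < 5616 → fw i = true := below_step fw 5603 13 5616 wu430 wc431 rfl
theorem wc432 : allBelow (fun k => fw (Nat.add 5616 k)) 13 = true := by decide +kernel
theorem wu432 : ∀ i, i < 5629 → fw i = true := below_step fw 5616 13 5629 wu431 wc432 rfl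
theorem wc433 : allBelow (fun k => fw (Nat.add 5629 k)) 13 = true := by decide +kernel
theorem wu433 : ∀ i, i < 5642 → fw i = true := below_step fw 5629 13 5642 wu432 wc433 rfl
theorem wc434 : allBelow (fun k => fw (Nat.add 5642 k)) 13 = true := by decide +kernel
theorem wu434 : ∀ i, i < 5655 → fw i = true := below_step fw 5642 13 5655 wu433 wc434 rfl
theorem wc435 : allBelow (fun k => fw (Nat.add 5655 k)) 13 = true := by decide +kernel
theorem wu435 : ∀ i, i < 5668 → fw i = true := below_step fw 5655 13 5668 wu434 wc435 rfl
theorem wc436 : allBelow (fun k => fw (Nat.add 5668 k)) 13 = true := by decide +kernel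
theorem wu436 : ∀ i, i < 5681 → fw i = true := below_step fw 5668 13 5681 wu435 wc436 rfl

end Cfsg.Agent.Lib.Helper35.Fi23Ord.X0
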