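import Cfsg.Agent.Lib.Helper35.Fi23Ord.X0.Chk3

set_option Elab.async false

namespace Cfsg.Agent.Lib.Helper35.Fi23Ord.X0

open Cfsg.Agent.Lib.Helper35

theorem wc437 : allBelow (fun k => fw (Nat.add 5681 k)) 13 = true := by decide +kernel
theorem wu437 : ∀ i, i < 5694 → fw i = true := below_step fw 5681 13 5694 wu436 wc437 rfl
theorem wc438 : allBelow (fun k => fw (Nat.add 5694 k)) 13 = true := by decide +kernel
theorem wu438 : ∀ i, i < 5707 → fw i = true := below_step fw 5694 13 5707 wu437 wc438 rfl
theorem wc439 : allBelow (fun k => fw (Nat.add 5707 k)) 13 = true := by decide +kernel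
theorem wu439 : ∀ i, i < 5720 → fw i = true := below_step fw 5707 13 5720 wu438 wc439 rfl
theorem wc440 : allBelow (fun k => fw (Nat.add 5720 k)) 13 = true := by decide +kernel
theorem wu440 : ∀ i, i < 5733 → fw i = true := below_step fw 5720 13 5733 wu439 wc440 rfl
theorem wc441 : allBelow (fun k => fw (Nat.add 5733 k)) 13 = true := by decide +kernel
theorem wu441 : ∀ i, i < 5746 → fw i = true := below_step fw 5733 13 5746 wu440 wc441 rfl
theorem wc442 : allBelow (fun k => fw (Nat.add 5746 k)) 13 = true := by decide +kernel
theorem wu442 : ∀ i, i < 5759 → fw i = true := below_step fw 5746 13 5759 wu441 wc442 rfl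
theorem wc443 : allBelow (fun k => fw (Nat.add 5759 k)) 13 = true := by decide +kernel
theorem wu443 : ∀ i, i < 5772 → fw i = true := below_step fw 5759 13 5772 wu442 wc443 rfl
theorem wc444 : allBelow (fun k => fw (Nat.add 5772 k)) 13 = true := by decide +kernel
theorem wu444 : ∀ i, i < 5785 → fw i = true := below_step fw 5772 13 5785 wu443 wc444 rfl
theorem wc445 : allBelow (fun k => fw (Nat.add 5785 k)) 13 = true := by decide +kernel
theorem wu445 : ∀ i, i < 5798 → fw i = true := below_step fw 5785 13 5798 wu444 wc445 rfl
theorem wc446 : allBelow (fun k => fw (Nat.add 5798 k)) 13 = true := by decide +kernel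
theorem wu446 : ∀ i, i < 5811 → fw i = true := below_step fw 5798 13 5811 wu445 wc446 rfl
theorem wc447 : allBelow (fun k => fw (Nat.add 5811 k)) 13 = true := by decide +kernel
theorem wu447 : ∀ i, i < 5824 → fw i = true := below_step fw 5811 13 5824 wu446 wc447 rfl
theorem wc448 : allBelow (fun k => fw (Nat.add 5824 k)) 13 = true := by decide +kernel
theorem wu448 : ∀ i, i < 5837 → fw i = true := below_step fw 5824 13 5837 wu447 wc448 rfl
theorem wc449 : allBelow (fun k => fw (Nat.add 5837 k)) 13 = true := by decide +kernel
theorem wu449 : ∀ i, i < 5850 → fw i = true := below_step fw 5837 13 5850 wu448 wc449 rfl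
theorem wc450 : allBelow (fun k => fw (Nat.add 5850 k)) 13 = true := by decide +kernel
theorem wu450 : ∀ i, i < 5863 → fw i = true := below_step fw 5850 13 5863 wu449 wc450 rfl
theorem wc451 : allBelow (fun k => fw (Nat.add 5863 k)) 13 = true := by decide +kernel
theorem wu451 : ∀ i, i < 5876 → fw i = true := below_step fw 5863 13 5876 wu450 wc451 rfl
theorem wc452 : allBelow (fun k => fw (Nat.add 5876 k)) 13 = true := by decide +kernel
theorem wu452 : ∀ i, i < 5889 → fw i = true := below_step fw 5876 13 5889 wu451 wc452 rfl
theorem wc453 : allBelow (fun k => fw (Nat.add 5889 k)) 13 = true := by decide +kernel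
theorem wu453 : ∀ i, i < 5902 → fw i = true := below_step fw 5889 13 5902 wu452 wc453 rfl
theorem wc454 : allBelow (fun k => fw (Nat.add 5902 k)) 13 = true := by decide +kernel
theorem wu454 : ∀ i, i < 5915 → fw i = true := below_step fw 5902 13 5915 wu453 wc454 rfl
theorem wc455 : allBelow (fun k => fw (Nat.add 5915 k)) 13 = true := by decide +kernel
theorem wu455 : ∀ i, i < 5928 → fw i = true := below_step fw 5915 13 5928 wu454 wc455 rfl
theorem wc456 : allBelow (fun k => fw (Nat.add 5928 k)) 13 = true := by decide +kernel
theorem wu456 : ∀ i, i < 5941 → fw i = true := below_step fw 5928 13 5941 wu455 wc456 rfl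
theorem wc457 : allBelow (fun k => fw (Nat.add 5941 k)) 13 = true := by decide +kernel
theorem wu457 : ∀ i, i < 5954 → fw i = true := below_step fw 5941 13 5954 wu456 wc457 rfl
theorem wc458 : allBelow (fun k => fw (Nat.add 5954 k)) 13 = true := by decide +kernel
theorem wu458 : ∀ i, i < 5967 → fw i = true := below_step fw 5954 13 5967 wu457 wc458 rfl
theorem wc459 : allBelow (fun k => fw (Nat.add 5967 k)) 13 = true := by decide +kernel
theorem wu459 : ∀ i, i < 5980 → fw i = true := below_step fw 5967 13 5980 wu458 wc459 rfl
theorem wc460 : allBelow (fun k => fw (Nat.add 5980 k)) 13 = true := by decide +kernel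
theorem wu460 : ∀ i, i < 5993 → fw i = true := below_step fw 5980 13 5993 wu459 wc460 rfl
theorem wc461 : allBelow (fun k => fw (Nat.add 5993 k)) 13 = true := by decide +kernel
theorem wu461 : ∀ i, i < 6006 → fw i = true := below_step fw 5993 13 6006 wu460 wc461 rfl
theorem wc462 : allBelow (fun k => fw (Nat.add 6006 k)) 13 = true := by decide +kernel
theorem wu462 : ∀ i, i < 6019 → fw i = true := below_step fw 6006 13 6019 wu461 wc462 rfl
theorem wc463 : allBelow (fun k => fw (Nat.add 6019 k)) 13 = true := by decide +kernel
theorem wu463 : ∀ i, i < 6032 → fw i = true := below_step fw 6019 13 6032 wu462 wc463 rfl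
theorem wc464 : allBelow (fun k => fw (Nat.add 6032 k)) 13 = true := by decide +kernel
theorem wu464 : ∀ i, i < 6045 → fw i = true := below_step fw 6032 13 6045 wu463 wc464 rfl
theorem wc465 : allBelow (fun k => fw (Nat.add 6045 k)) 13 = true := by decide +kernel
theorem wu465 : ∀ i, i < 6058 → fw i = true := below_step fw 6045 13 6058 wu464 wc465 rfl
theorem wc466 : allBelow (fun k => fw (Nat.add 6058 k)) 13 = true := by decide +kernel
theorem wu466 : ∀ i, i < 6071 → fw i = true := below_step fw 6058 13 6071 wu465 wc466 rfl
theorem wc467 : allBelow (fun k => fw (Nat.add 6071 k)) 13 = true := by decide +kernel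
theorem wu467 : ∀ i, i < 6084 → fw i = true := below_step fw 6071 13 6084 wu466 wc467 rfl
theorem wc468 : allBelow (fun k => fw (Nat.add 6084 k)) 13 = true := by decide +kernel
theorem wu468 : ∀ i, i < 6097 → fw i = true := below_step fw 6084 13 6097 wu467 wc468 rfl
theorem wc469 : allBelow (fun k => fw (Nat.add 6097 k)) 13 = true := by decide +kernel
theorem wu469 : ∀ i, i < 6110 → fw i = true := below_step fw 6097 13 6110 wu468 wc469 rfl
theorem wc470 : allBelow (fun k => fw (Nat.add 6110 k)) 13 = true := by decide +kernel
theorem wu470 : ∀ i, i < 6123 → fw i = true := below_step fw 6110 13 6123 wu469 wc470 rfl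
theorem wc471 : allBelow (fun k => fw (Nat.add 6123 k)) 13 = true := by decide +kernel
theorem wu471 : ∀ i, i < 6136 → fw i = true := below_step fw 6123 13 6136 wu470 wc471 rfl
theorem wc472 : allBelow (fun k => fw (Nat.add 6136 k)) 13 = true := by decide +kernel
theorem wu472 : ∀ i, i < 6149 → fw i = true := below_step fw 6136 13 6149 wu471 wc472 rfl
theorem wc473 : allBelow (fun k => fw (Nat.add 6149 k)) 13 = true := by decide +kernel
theorem wu473 : ∀ i, i < 6162 → fw i = true := below_step fw 6149 13 6162 wu472 wc473 rfl
theorem wc474 : allBelow (fun k => fw (Nat.add 6162 k)) 13 = true := by decide +kernel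
theorem wu474 : ∀ i, i < 6175 → fw i = true := below_step fw 6162 13 6175 wu473 wc474 rfl
theorem wc475 : allBelow (fun k => fw (Nat.add 6175 k)) 13 = true := by decide +kernel
theorem wu475 : ∀ i, i < 6188 → fw i = true := below_step fw 6175 13 6188 wu474 wc475 rfl
theorem wc476 : allBelow (fun k => fw (Nat.add 6188 k)) 13 = true := by decide +kernel
theorem wu476 : ∀ i, i < 6201 → fw i = true := below_step fw 6188 13 6201 wu475 wc476 rfl
theorem wc477 : allBelow (fun k => fw (Nat.add 6201 k)) 13 = true := by decide +kernel
theorem wu477 : ∀ i, i < 6214 → fw i = true := below_step fw 6201 13 6214 wu476 wc477 rfl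
theorem wc478 : allBelow (fun k => fw (Nat.add 6214 k)) 13 = true := by decide +kernel
theorem wu478 : ∀ i, i < 6227 → fw i = true := below_step fw 6214 13 6227 wu477 wc478 rfl
theorem wc479 : allBelow (fun k => fw (Nat.add 6227 k)) 13 = true := by decide +kernel
theorem wu479 : ∀ i, i < 6240 → fw i = true := below_step fw 6227 13 6240 wu478 wc479 rfl
theorem wc480 : allBelow (fun k => fw (Nat.add 6240 k)) 13 = true := by decide +kernel
theorem wu480 : ∀ i, i < 6253 → fw i = true := below_step fw 6240 13 6253 wu479 wc480 rfl
theorem wc481 : allBelow (fun k => fw (Nat.add 6253 k)) 13 = true := by decide +kernel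
theorem wu481 : ∀ i, i < 6266 → fw i = true := below_step fw 6253 13 6266 wu480 wc481 rfl
theorem wc482 : allBelow (fun k => fw (Nat.add 6266 k)) 13 = true := by decide +kernel
theorem wu482 : ∀ i, i < 6279 → fw i = true := below_step fw 6266 13 6279 wu481 wc482 rfl
theorem wc483 : allBelow (fun k => fw (Nat.add 6279 k)) 13 = true := by decide +kernel
theorem wu483 : ∀ i, i < 6292 → fw i = true := below_step fw 6279 13 6292 wu482 wc483 rfl
theorem wc484 : allBelow (fun k => fw (Nat.add 6292 k)) 13 = true := by decide +kernel
theorem wu484 : ∀ i, i < 6305 → fw i = true := below_step fw 6292 13 6305 wu483 wc484 rfl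
theorem wc485 : allBelow (fun k => fw (Nat.add 6305 k)) 13 = true := by decide +kernel
theorem wu485 : ∀ i, i < 6318 → fw i = true := below_step fw 6305 13 6318 wu484 wc485 rfl
theorem wc486 : allBelow (fun k => fw (Nat.add 6318 k)) 13 = true := by decide +kernel
theorem wu486 : ∀ i, i < 6331 → fw i = true := below_step fw 6318 13 6331 wu485 wc486 rfl
theorem wc487 : allBelow (fun k => fw (Nat.add 6331 k)) 13 = true := by decide +kernel
theorem wu487 : ∀ i, i < 6344 → fw i = true := below_step fw 6331 13 6344 wu486 wc487 rfl
theorem wc488 : allBelow (fun k => fw (Nat.add 6344 k)) 13 = true := by decide +kernel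
theorem wu488 : ∀ i, i < 6357 → fw i = true := below_step fw 6344 13 6357 wu487 wc488 rfl
theorem wc489 : allBelow (fun k => fw (Nat.add 6357 k)) 13 = true := by decide +kernel
theorem wu489 : ∀ i, i < 6370 → fw i = true := below_step fw 6357 13 6370 wu488 wc489 rfl
theorem wc490 : allBelow (fun k => fw (Nat.add 6370 k)) 13 = true := by decide +kernel
theorem wu490 : ∀ i, i < 6383 → fw i = true := below_step fw 6370 13 6383 wu489 wc490 rfl
theorem wc491 : allBelow (fun k => fw (Nat.add 6383 k)) 13 = true := by decide +kernel
theorem wu491 : ∀ i, i < 6396 → fw i = true := below_step fw 6383 13 6396 wu490 wc491 rfl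
theorem wc492 : allBelow (fun k => fw (Nat.add 6396 k)) 13 = true := by decide +kernel
theorem wu492 : ∀ i, i < 6409 → fw i = true := below_step fw 6396 13 6409 wu491 wc492 rfl
theorem wc493 : allBelow (fun k => fw (Nat.add 6409 k)) 13 = true := by decide +kernel
theorem wu493 : ∀ i, i < 6422 → fw i = true := below_step fw 6409 13 6422 wu492 wc493 rfl
theorem wc494 : allBelow (fun k => fw (Nat.add 6422 k)) 13 = true := by decide +kernel
theorem wu494 : ∀ i, i < 6435 → fw i = true := below_step fw 6422 13 6435 wu493 wc494 rfl
theorem wc495 : allBelow (fun k => fw (Nat.add 6435 k)) 13 = true := by decide +kernel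
theorem wu495 : ∀ i, i < 6448 → fw i = true := below_step fw 6435 13 6448 wu494 wc495 rfl
theorem wc496 : allBelow (fun k => fw (Nat.add 6448 k)) 13 = true := by decide +kernel
theorem wu496 : ∀ i, i < 6461 → fw i = true := below_step fw 6448 13 6461 wu495 wc496 rfl
theorem wc497 : allBelow (fun k => fw (Nat.add 6461 k)) 13 = true := by decide +kernel
theorem wu497 : ∀ i, i < 6474 → fw i = true := below_step fw 6461 13 6474 wu496 wc497 rfl
theorem wc498 : allBelow (fun k => fw (Nat.add 6474 k)) 13 = true := by decide +kernel
theorem wu498 : ∀ i, i < 6487 → fw i = true := below_step fw 6474 13 6487 wu497 wc498 rfl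
theorem wc499 : allBelow (fun k => fw (Nat.add 6487 k)) 13 = true := by decide +kernel
theorem wu499 : ∀ i, i < 6500 → fw i = true := below_step fw 6487 13 6500 wu498 wc499 rfl
theorem wc500 : allBelow (fun k => fw (Nat.add 6500 k)) 13 = true := by decide +kernel
theorem wu500 : ∀ i, i < 6513 → fw i = true := below_step fw 6500 13 6513 wu499 wc500 rfl
theorem wc501 : allBelow (fun k => fw (Nat.add 6513 k)) 13 = true := by decide +kernel
theorem wu501 : ∀ i, i < 6526 → fw i = true := below_step fw 6513 13 6526 wu500 wc501 rfl
theorem wc502 : allBelow (fun k => fw (Nat.add 6526 k)) 13 = true := by decide +kernel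
theorem wu502 : ∀ i, i < 6539 → fw i = true := below_step fw 6526 13 6539 wu501 wc502 rfl
theorem wc503 : allBelow (fun k => fw (Nat.add 6539 k)) 13 = true := by decide +kernel
theorem wu503 : ∀ i, i < 6552 → fw i = true := below_step fw 6539 13 6552 wu502 wc503 rfl
theorem wc504 : allBelow (fun k => fw (Nat.add 6552 k)) 13 = true := by decide +kernel
theorem wu504 : ∀ i, i < 6565 → fw i = true := below_step fw 6552 13 6565 wu503 wc504 rfl
theorem wc505 : allBelow (fun k => fw (Nat.add 6565 k)) 13 = true := by decide +kernel
theorem wu505 : ∀ i, i < 6578 → fw i = true := below_step fw 6565 13 6578 wu504 wc505 rfl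
theorem wc506 : allBelow (fun k => fw (Nat.add 6578 k)) 13 = true := by decide +kernel
theorem wu506 : ∀ i, i < 6591 → fw i = true := below_step fw 6578 13 6591 wu505 wc506 rfl
theorem wc507 : allBelow (fun k => fw (Nat.add 6591 k)) 13 = true := by decide +kernel
theorem wu507 : ∀ i, i < 6604 → fw i = true := below_step fw 6591 13 6604 wu506 wc507 rfl
theorem wc508 : allBelow (fun k => fw (Nat.add 6604 k)) 13 = true := by decide +kernel
theorem wu508 : ∀ i, i < 6617 → fw i = true := below_step fw 6604 13 6617 wu507 wc508 rfl
theorem wc509 : allBelow (fun k => fw (Nat.add 6617 k)) 13 = true := by decide +kernel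
theorem wu509 : ∀ i, i < 6630 → fw i = true := below_step fw 6617 13 6630 wu508 wc509 rfl
theorem wc510 : allBelow (fun k => fw (Nat.add 6630 k)) 13 = true := by decide +kernel
theorem wu510 : ∀ i, i < 6643 → fw i = true := below_step fw 6630 13 6643 wu509 wc510 rfl
theorem wc511 : allBelow (fun k => fw (Nat.add 6643 k)) 13 = true := by decide +kernel
theorem wu511 : ∀ i, i < 6656 → fw i = true := below_step fw 6643 13 6656 wu510 wc511 rfl
theorem wc512 : allBelow (fun k => fw (Nat.add 6656 k)) 13 = true := by decide +kernel
theorem wu512 : ∀ i, i < 6669 → fw i = true := below_step fw 6656 13 6669 wu511 wc512 rfl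
theorem wc513 : allBelow (fun k => fw (Nat.add 6669 k)) 13 = true := by decide +kernel
theorem wu513 : ∀ i, i < 6682 → fw i = true := below_step fw 6669 13 6682 wu512 wc513 rfl
theorem wc514 : allBelow (fun k => fw (Nat.add 6682 k)) 13 = true := by decide +kernel
theorem wu514 : ∀ i, i < 6695 → fw i = true := below_step fw 6682 13 6695 wu513 wc514 rfl
theorem wc515 : allBelow (fun k => fw (Nat.add 6695 k)) 13 = true := by decide +kernel
theorem wu515 : ∀ i, i < 6708 → fw i = true := below_step fw 6695 13 6708 wu514 wc515 rfl
theorem wc516 : allBelow (fun k => fw (Nat.add 6708 k)) 13 = true := by decide +kernel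
theorem wu516 : ∀ i, i < 6721 → fw i = true := below_step fw 6708 13 6721 wu515 wc516 rfl
theorem wc517 : allBelow (fun k => fw (Nat.add 6721 k)) 13 = true := by decide +kernel
theorem wu517 : ∀ i, i < 6734 → fw i = true := below_step fw 6721 13 6734 wu516 wc517 rfl
theorem wc518 : allBelow (fun k => fw (Nat.add 6734 k)) 13 = true := by decide +kernel
theorem wu518 : ∀ i, i < 6747 → fw i = true := below_step fw 6734 13 6747 wu517 wc518 rfl
theorem wc519 : allBelow (fun k => fw (Nat.add 6747 k)) 13 = true := by decide +kernel
theorem wu519 : ∀ i, i < 6760 → fw i = true := below_step fw 6747 13 6760 wu518 wc519 rfl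
theorem wc520 : allBelow (fun k => fw (Nat.add 6760 k)) 13 = true := by decide +kernel
theorem wu520 : ∀ i, i < 6773 → fw i = true := below_step fw 6760 13 6773 wu519 wc520 rfl
theorem wc521 : allBelow (fun k => fw (Nat.add 6773 k)) 13 = true := by decide +kernel
theorem wu521 : ∀ i, i < 6786 → fw i = true := below_step fw 6773 13 6786 wu520 wc521 rfl
theorem wc522 : allBelow (fun k => fw (Nat.add 6786 k)) 13 = true := by decide +kernel
theorem wu522 : ∀ i, i < 6799 → fw i = true := below_step fw 6786 13 6799 wu521 wc522 rfl
theorem wc523 : allBelow (fun k => fw (Nat.add 6799 k)) 13 = true := by decide +kernel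
theorem wu523 : ∀ i, i < 6812 → fw i = true := below_step fw 6799 13 6812 wu522 wc523 rfl
theorem wc524 : allBelow (fun k => fw (Nat.add 6812 k)) 13 = true := by decide +kernel
theorem wu524 : ∀ i, i < 6825 → fw i = true := below_step fw 6812 13 6825 wu523 wc524 rfl
theorem wc525 : allBelow (fun k => fw (Nat.add 6825 k)) 13 = true := by decide +kernel
theorem wu525 : ∀ i, i < 6838 → fw i = true := below_step fw 6825 13 6838 wu524 wc525 rfl
theorem wc526 : allBelow (fun k => fw (Nat.add 6838 k)) 13 = true := by decide +kernel
theorem wu526 : ∀ i, i < 6851 → fw i = true := below_step fw 6838 13 6851 wu525 wc526 rfl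
theorem wc527 : allBelow (fun k => fw (Nat.add 6851 k)) 13 = true := by decide +kernel
theorem wu527 : ∀ i, i < 6864 → fw i = true := below_step fw 6851 13 6864 wu526 wc527 rfl
theorem wc528 : allBelow (fun k => fw (Nat.add 6864 k)) 13 = true := by decide +kernel
theorem wu528 : ∀ i, i < 6877 → fw i = true := below_step fw 6864 13 6877 wu527 wc528 rfl
theorem wc529 : allBelow (fun k => fw (Nat.add 6877 k)) 13 = true := by decide +kernel
theorem wu529 : ∀ i, i < 6890 → fw i = true := below_step fw 6877 13 6890 wu528 wc529 rfl
theorem wc530 : allBelow (fun k => fw (Nat.add 6890 k)) 13 = true := by decide +kernel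
theorem wu530 : ∀ i, i < 6903 → fw i = true := below_step fw 6890 13 6903 wu529 wc530 rfl
theorem wc531 : allBelow (fun k => fw (Nat.add 6903 k)) 13 = true := by decide +kernel
theorem wu531 : ∀ i, i < 6916 → fw i = true := below_step fw 6903 13 6916 wu530 wc531 rfl
theorem wc532 : allBelow (fun k => fw (Nat.add 6916 k)) 13 = true := by decide +kernel
theorem wu532 : ∀ i, i < 6929 → fw i = true := below_step fw 6916 13 6929 wu531 wc532 rfl
theorem wc533 : allBelow (fun k => fw (Nat.add 6929 k)) 13 = true := by decide +kernel
theorem wu533 : ∀ i, i < 6942 → fw i = true := below_step fw 6929 13 6942 wu532 wc533 rfl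
theorem wc534 : allBelow (fun k => fw (Nat.add 6942 k)) 13 = true := by decide +kernel
theorem wu534 : ∀ i, i < 6955 → fw i = true := below_step fw 6942 13 6955 wu533 wc534 rfl
theorem wc535 : allBelow (fun k => fw (Nat.add 6955 k)) 13 = true := by decide +kernel
theorem wu535 : ∀ i, i < 6968 → fw i = true := below_step fw 6955 13 6968 wu534 wc535 rfl
theorem wc536 : allBelow (fun k => fw (Nat.add 6968 k)) 13 = true := by decide +kernel
theorem wu536 : ∀ i, i < 6981 → fw i = true := below_step fw 6968 13 6981 wu535 wc536 rfl
theorem wc537 : allBelow (fun k => fw (Nat.add 6981 k)) 13 = true := by decide +kernel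
theorem wu537 : ∀ i, i < 6994 → fw i = true := below_step fw 6981 13 6994 wu536 wc537 rfl
theorem wc538 : allBelow (fun k => fw (Nat.add 6994 k)) 13 = true := by decide +kernel
theorem wu538 : ∀ i, i < 7007 → fw i = true := below_step fw 6994 13 7007 wu537 wc538 rfl
theorem wc539 : allBelow (fun k => fw (Nat.add 7007 k)) 13 = true := by decide +kernel
theorem wu539 : ∀ i, i < 7020 → fw i = true := below_step fw 7007 13 7020 wu538 wc539 rfl
theorem wc540 : allBelow (fun k => fw (Nat.add 7020 k)) 13 = true := by decide +kernel
theorem wu540 : ∀ i, i < 7033 → fw i = true := below_step fw 7020 13 7033 wu539 wc540 rfl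
theorem wc541 : allBelow (fun k => fw (Nat.add 7033 k)) 13 = true := by decide +kernel
theorem wu541 : ∀ i, i < 7046 → fw i = true := below_step fw 7033 13 7046 wu540 wc541 rfl
theorem wc542 : allBelow (fun k => fw (Nat.add 7046 k)) 13 = true := by decide +kernel
theorem wu542 : ∀ i, i < 7059 → fw i = true := below_step fw 7046 13 7059 wu541 wc542 rfl
theorem wc543 : allBelow (fun k => fw (Nat.add 7059 k)) 13 = true := by decide +kernel
theorem wu543 : ∀ i, i < 7072 → fw i = true := below_step fw 7059 13 7072 wu542 wc543 rfl
theorem wc544 : allBelow (fun k => fw (Nat.add 7072 k)) 13 = true := by decide +kernel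
theorem wu544 : ∀ i, i < 7085 → fw i = true := below_step fw 7072 13 7085 wu543 wc544 rfl
theorem wc545 : allBelow (fun k => fw (Nat.add 7085 k)) 13 = true := by decide +kernel
theorem wu545 : ∀ i, i < 7098 → fw i = true := below_step fw 7085 13 7098 wu544 wc545 rfl
theorem wc546 : allBelow (fun k => fw (Nat.add 7098 k)) 13 = true := by decide +kernel
theorem wu546 : ∀ i, i < 7111 → fw i = true := below_step fw 7098 13 7111 wu545 wc546 rfl
theorem wc547 : allBelow (fun k => fw (Nat.add 7111 k)) 13 = true := by decide +kernel
theorem wu547 : ∀ i, i < 7124 → fw i = true := below_step fw 7111 13 7124 wu546 wc547 rfl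
theorem wc548 : allBelow (fun k => fw (Nat.add 7124 k)) 13 = true := by decide +kernel
theorem wu548 : ∀ i, i < 7137 → fw i = true := below_step fw 7124 13 7137 wu547 wc548 rfl
theorem wc549 : allBelow (fun k => fw (Nat.add 7137 k)) 13 = true := by decide +kernel
theorem wu549 : ∀ i, i < 7150 → fw i = true := below_step fw 7137 13 7150 wu548 wc549 rfl
theorem wc550 : allBelow (fun k => fw (Nat.add 7150 k)) 13 = true := by decide +kernel
theorem wu550 : ∀ i, i < 7163 → fw i = true := below_step fw 7150 13 7163 wu549 wc550 rfl
theorem wc551 : allBelow (fun k => fw (Nat.add 7163 k)) 13 = true := by decide +kernel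
theorem wu551 : ∀ i, i < 7176 → fw i = true := below_step fw 7163 13 7176 wu550 wc551 rfl
theorem wc552 : allBelow (fun k => fw (Nat.add 7176 k)) 13 = true := by decide +kernel
theorem wu552 : ∀ i, i < 7189 → fw i = true := below_step fw 7176 13 7189 wu551 wc552 rfl
theorem wc553 : allBelow (fun k => fw (Nat.add 7189 k)) 13 = true := by decide +kernel
theorem wu553 : ∀ i, i < 7202 → fw i = true := below_step fw 7189 13 7202 wu552 wc553 rfl
theorem wc554 : allBelow (fun k => fw (Nat.add 7202 k)) 13 = true := by decide +kernel
theorem wu554 : ∀ i, i < 7215 → fw i = true := below_step fw 7202 13 7215 wu553 wc554 rfl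
theorem wc555 : allBelow (fun k => fw (Nat.add 7215 k)) 13 = true := by decide +kernel
theorem wu555 : ∀ i, i < 7228 → fw i = true := below_step fw 7215 13 7228 wu554 wc555 rfl
theorem wc556 : allBelow (fun k => fw (Nat.add 7228 k)) 13 = true := by decide +kernel
theorem wu556 : ∀ i, i < 7241 → fw i = true := below_step fw 7228 13 7241 wu555 wc556 rfl
theorem wc557 : allBelow (fun k => fw (Nat.add 7241 k)) 13 = true := by decide +kernel
theorem wu557 : ∀ i, i < 7254 → fw i = true := below_step fw 7241 13 7254 wu556 wc557 rfl
theorem wc558 : allBelow (fun k => fw (Nat.add 7254 k)) 13 = true := by decide +kernel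
theorem wu558 : ∀ i, i < 7267 → fw i = true := below_step fw 7254 13 7267 wu557 wc558 rfl
theorem wc559 : allBelow (fun k => fw (Nat.add 7267 k)) 13 = true := by decide +kernel
theorem wu559 : ∀ i, i < 7280 → fw i = true := below_step fw 7267 13 7280 wu558 wc559 rfl
theorem wc560 : allBelow (fun k => fw (Nat.add 7280 k)) 13 = true := by decide +kernel
theorem wu560 : ∀ i, i < 7293 → fw i = true := below_step fw 7280 13 7293 wu559 wc560 rfl
theorem wc561 : allBelow (fun k => fw (Nat.add 7293 k)) 13 = true := by decide +kernel
theorem wu561 : ∀ i, i < 7306 → fw i = true := below_step fw 7293 13 7306 wu560 wc561 rfl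
theorem wc562 : allBelow (fun k => fw (Nat.add 7306 k)) 13 = true := by decide +kernel
theorem wu562 : ∀ i, i < 7319 → fw i = true := below_step fw 7306 13 7319 wu561 wc562 rfl
theorem wc563 : allBelow (fun k => fw (Nat.add 7319 k)) 13 = true := by decide +kernel
theorem wu563 : ∀ i, i < 7332 → fw i = true := below_step fw 7319 13 7332 wu562 wc563 rfl
theorem wc564 : allBelow (fun k => fw (Nat.add 7332 k)) 13 = true := by decide +kernel
theorem wu564 : ∀ i, i < 7345 → fw i = true := below_step fw 7332 13 7345 wu563 wc564 rfl
theorem wc565 : allBelow (fun k => fw (Nat.add 7345 k)) 13 = true := by decide +kernel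
theorem wu565 : ∀ i, i < 7358 → fw i = true := below_step fw 7345 13 7358 wu564 wc565 rfl
theorem wc566 : allBelow (fun k => fw (Nat.add 7358 k)) 13 = true := by decide +kernel
theorem wu566 : ∀ i, i < 7371 → fw i = true := below_step fw 7358 13 7371 wu565 wc566 rfl
theorem wc567 : allBelow (fun k => fw (Nat.add 7371 k)) 13 = true := by decide +kernel
theorem wu567 : ∀ i, i < 7384 → fw i = true := below_step fw 7371 13 7384 wu566 wc567 rfl
theorem wc568 : allBelow (fun k => fw (Nat.add 7384 k)) 13 = true := by decide +kernel
theorem wu568 : ∀ i, i < 7397 → fw i = true := below_step fw 7384 13 7397 wu567 wc568 rfl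
theorem wc569 : allBelow (fun k => fw (Nat.add 7397 k)) 13 = true := by decide +kernel
theorem wu569 : ∀ i, i < 7410 → fw i = true := below_step fw 7397 13 7410 wu568 wc569 rfl
theorem wc570 : allBelow (fun k => fw (Nat.add 7410 k)) 13 = true := by decide +kernel
theorem wu570 : ∀ i, i < 7423 → fw i = true := below_step fw 7410 13 7423 wu569 wc570 rfl
theorem wc571 : allBelow (fun k => fw (Nat.add 7423 k)) 13 = true := by decide +kernel
theorem wu571 : ∀ i, i < 7436 → fw i = true := below_step fw 7423 13 7436 wu570 wc571 rfl
theorem wc572 : allBelow (fun k => fw (Nat.add 7436 k)) 13 = true := by decide +kernel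
theorem wu572 : ∀ i, i < 7449 → fw i = true := below_step fw 7436 13 7449 wu571 wc572 rfl
theorem wc573 : allBelow (fun k => fw (Nat.add 7449 k)) 13 = true := by decide +kernel
theorem wu573 : ∀ i, i < 7462 → fw i = true := below_step fw 7449 13 7462 wu572 wc573 rfl
theorem wc574 : allBelow (fun k => fw (Nat.add 7462 k)) 13 = true := by decide +kernel
theorem wu574 : ∀ i, i < 7475 → fw i = true := below_step fw 7462 13 7475 wu573 wc574 rfl
theorem wc575 : allBelow (fun k => fw (Nat.add 7475 k)) 13 = true := by decide +kernel
theorem wu575 : ∀ i, i < 7488 → fw i = true := below_step fw 7475 13 7488 wu574 wc575 rfl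
theorem wc576 : allBelow (fun k => fw (Nat.add 7488 k)) 13 = true := by decide +kernel
theorem wu576 : ∀ i, i < 7501 → fw i = true := below_step fw 7488 13 7501 wu575 wc576 rfl
theorem wc577 : allBelow (fun k => fw (Nat.add 7501 k)) 13 = true := by decide +kernel
theorem wu577 : ∀ i, i < 7514 → fw i = true := below_step fw 7501 13 7514 wu576 wc577 rfl
theorem wc578 : allBelow (fun k => fw (Nat.add 7514 k)) 13 = true := by decide +kernel
theorem wu578 : ∀ i, i < 7527 → fw i = true := below_step fw 7514 13 7527 wu577 wc578 rfl
theorem wc579 : allBelow (fun k => fw (Nat.add 7527 k)) 13 = true := by decide +kernel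
theorem wu579 : ∀ i, i < 7540 → fw i = true := below_step fw 7527 13 7540 wu578 wc579 rfl
theorem wc580 : allBelow (fun k => fw (Nat.add 7540 k)) 13 = true := by decide +kernel
theorem wu580 : ∀ i, i < 7553 → fw i = true := below_step fw 7540 13 7553 wu579 wc580 rfl
theorem wc581 : allBelow (fun k => fw (Nat.add 7553 k)) 13 = true := by decide +kernel
theorem wu581 : ∀ i, i < 7566 → fw i = true := below_step fw 7553 13 7566 wu580 wc581 rfl
theorem wc582 : allBelow (fun k => fw (Nat.add 7566 k)) 13 = true := by decide +kernel
theorem wu582 : ∀ i, i < 7579 → fw i = true := below_step fw 7566 13 7579 wu581 wc582 rfl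
theorem wc583 : allBelow (fun k => fw (Nat.add 7579 k)) 13 = true := by decide +kernel
theorem wu583 : ∀ i, i < 7592 → fw i = true := below_step fw 7579 13 7592 wu582 wc583 rfl
theorem wc584 : allBelow (fun k => fw (Nat.add 7592 k)) 13 = true := by decide +kernel
theorem wu584 : ∀ i, i < 7605 → fw i = true := below_step fw 7592 13 7605 wu583 wc584 rfl
theorem wc585 : allBelow (fun k => fw (Nat.add 7605 k)) 13 = true := by decide +kernel
theorem wu585 : ∀ i, i < 7618 → fw i = true := below_step fw 7605 13 7618 wu584 wc585 rfl
theorem wc586 : allBelow (fun k => fw (Nat.add 7618 k)) 13 = true := by decide +kernel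
theorem wu586 : ∀ i, i < 7631 → fw i = true := below_step fw 7618 13 7631 wu585 wc586 rfl
theorem wc587 : allBelow (fun k => fw (Nat.add 7631 k)) 13 = true := by decide +kernel
theorem wu587 : ∀ i, i < 7644 → fw i = true := below_step fw 7631 13 7644 wu586 wc587 rfl
theorem wc588 : allBelow (fun k => fw (Nat.add 7644 k)) 13 = true := by decide +kernel
theorem wu588 : ∀ i, i < 7657 → fw i = true := below_step fw 7644 13 7657 wu587 wc588 rfl
theorem wc589 : allBelow (fun k => fw (Nat.add 7657 k)) 13 = true := by decide +kernel
theorem wu589 : ∀ i, i < 7670 → fw i = true := below_step fw 7657 13 7670 wu588 wc589 rfl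
theorem wc590 : allBelow (fun k => fw (Nat.add 7670 k)) 13 = true := by decide +kernel
theorem wu590 : ∀ i, i < 7683 → fw i = true := below_step fw 7670 13 7683 wu589 wc590 rfl
theorem wc591 : allBelow (fun k => fw (Nat.add 7683 k)) 13 = true := by decide +kernel
theorem wu591 : ∀ i, i < 7696 → fw i = true := below_step fw 7683 13 7696 wu590 wc591 rfl
theorem wc592 : allBelow (fun k => fw (Nat.add 7696 k)) 13 = true := by decide +kernel
theorem wu592 : ∀ i, i < 7709 → fw i = true := below_step fw 7696 13 7709 wu591 wc592 rfl
theorem wc593 : allBelow (fun k => fw (Nat.add 7709 k)) 13 = true := by decide +kernel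
theorem wu593 : ∀ i, i < 7722 → fw i = true := below_step fw 7709 13 7722 wu592 wc593 rfl
theorem wc594 : allBelow (fun k => fw (Nat.add 7722 k)) 13 = true := by decide +kernel
theorem wu594 : ∀ i, i < 7735 → fw i = true := below_step fw 7722 13 7735 wu593 wc594 rfl
theorem wc595 : allBelow (fun k => fw (Nat.add 7735 k)) 13 = true := by decide +kernel
theorem wu595 : ∀ i, i < 7748 → fw i = true := below_step fw 7735 13 7748 wu594 wc595 rfl
theorem wc596 : allBelow (fun k => fw (Nat.add 7748 k)) 13 = true := by decide +kernel
theorem wu596 : ∀ i, i < 7761 → fw i = true := below_step fw 7748 13 7761 wu595 wc596 rfl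
theorem wc597 : allBelow (fun k => fw (Nat.add 7761 k)) 13 = true := by decide +kernel
theorem wu597 : ∀ i, i < 7774 → fw i = true := below_step fw 7761 13 7774 wu596 wc597 rfl
theorem wc598 : allBelow (fun k => fw (Nat.add 7774 k)) 13 = true := by decide +kernel
theorem wu598 : ∀ i, i < 7787 → fw i = true := below_step fw 7774 13 7787 wu597 wc598 rfl
theorem wc599 : allBelow (fun k => fw (Nat.add 7787 k)) 13 = true := by decide +kernel
theorem wu599 : ∀ i, i < 7800 → fw i = true := below_step fw 7787 13 7800 wu598 wc599 rfl
theorem wc600 : allBelow (fun k => fw (Nat.add 7800 k)) 13 = true := by decide +kernel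
theorem wu600 : ∀ i, i < 7813 → fw i = true := below_step fw 7800 13 7813 wu599 wc600 rfl
theorem wc601 : allBelow (fun k => fw (Nat.add 7813 k)) 13 = true := by decide +kernel
theorem wu601 : ∀ i, i < 7826 → fw i = true := below_step fw 7813 13 7826 wu600 wc601 rfl
theorem wc602 : allBelow (fun k => fw (Nat.add 7826 k)) 13 = true := by decide +kernel
theorem wu602 : ∀ i, i < 7839 → fw i = true := below_step fw 7826 13 7839 wu601 wc602 rfl
theorem wc603 : allBelow (fun k => fw (Nat.add 7839 k)) 13 = true := by decide +kernel
theorem wu603 : ∀ i, i < 7852 → fw i = true := below_step fw 7839 13 7852 wu602 wc603 rfl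
theorem wc604 : allBelow (fun k => fw (Nat.add 7852 k)) 13 = true := by decide +kernel
theorem wu604 : ∀ i, i < 7865 → fw i = true := below_step fw 7852 13 7865 wu603 wc604 rfl
theorem wc605 : allBelow (fun k => fw (Nat.add 7865 k)) 13 = true := by decide +kernel
theorem wu605 : ∀ i, i < 7878 → fw i = true := below_step fw 7865 13 7878 wu604 wc605 rfl
theorem wc606 : allBelow (fun k => fw (Nat.add 7878 k)) 13 = true := by decide +kernel
theorem wu606 : ∀ i, i < 7891 → fw i = true := below_step fw 7878 13 7891 wu605 wc606 rfl
theorem wc607 : allBelow (fun k => fw (Nat.add 7891 k)) 13 = true := by decide +kernel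
theorem wu607 : ∀ i, i < 7904 → fw i = true := below_step fw 7891 13 7904 wu606 wc607 rfl
theorem wc608 : allBelow (fun k => fw (Nat.add 7904 k)) 13 = true := by decide +kernel
theorem wu608 : ∀ i, i < 7917 → fw i = true := below_step fw 7904 13 7917 wu607 wc608 rfl
theorem wc609 : allBelow (fun k => fw (Nat.add 7917 k)) 13 = true := by decide +kernel
theorem wu609 : ∀ i, i < 7930 → fw i = true := below_step fw 7917 13 7930 wu608 wc609 rfl
theorem wc610 : allBelow (fun k => fw (Nat.add 7930 k)) 13 = true := by decide +kernel
theorem wu610 : ∀ i, i < 7943 → fw i = true := below_step fw 7930 13 7943 wu609 wc610 rfl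
theorem wc611 : allBelow (fun k => fw (Nat.add 7943 k)) 13 = true := by decide +kernel
theorem wu611 : ∀ i, i < 7956 → fw i = true := below_step fw 7943 13 7956 wu610 wc611 rfl
theorem wc612 : allBelow (fun k => fw (Nat.add 7956 k)) 13 = true := by decide +kernel
theorem wu612 : ∀ i, i < 7969 → fw i = true := below_step fw 7956 13 7969 wu611 wc612 rfl
theorem wc613 : allBelow (fun k => fw (Nat.add 7969 k)) 13 = true := by decide +kernel
theorem wu613 : ∀ i, i < 7982 → fw i = true := below_step fw 7969 13 7982 wu612 wc613 rfl
theorem wc614 : allBelow (fun k => fw (Nat.add 7982 k)) 13 = true := by decide +kernel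
theorem wu614 : ∀ i, i < 7995 → fw i = true := below_step fw 7982 13 7995 wu613 wc614 rfl
theorem wc615 : allBelow (fun k => fw (Nat.add 7995 k)) 13 = true := by decide +kernel
theorem wu615 : ∀ i, i < 8008 → fw i = true := below_step fw 7995 13 8008 wu614 wc615 rfl
theorem wc616 : allBelow (fun k => fw (Nat.add 8008 k)) 13 = true := by decide +kernel
theorem wu616 : ∀ i, i < 8021 → fw i = true := below_step fw 8008 13 8021 wu615 wc616 rfl
theorem wc617 : allBelow (fun k => fw (Nat.add 8021 k)) 13 = true := by decide +kernel
theorem wu617 : ∀ i, i < 8034 → fw i = true := below_step fw 8021 13 8034 wu616 wc617 rfl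
theorem wc618 : allBelow (fun k => fw (Nat.add 8034 k)) 13 = true := by decide +kernel
theorem wu618 : ∀ i, i < 8047 → fw i = true := below_step fw 8034 13 8047 wu617 wc618 rfl
theorem wc619 : allBelow (fun k => fw (Nat.add 8047 k)) 13 = true := by decide +kernel
theorem wu619 : ∀ i, i < 8060 → fw i = true := below_step fw 8047 13 8060 wu618 wc619 rfl
theorem wc620 : allBelow (fun k => fw (Nat.add 8060 k)) 13 = true := by decide +kernel
theorem wu620 : ∀ i, i < 8073 → fw i = true := below_step fw 8060 13 8073 wu619 wc620 rfl
theorem wc621 : allBelow (fun k => fw (Nat.add 8073 k)) 13 = true := by decide +kernel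
theorem wu621 : ∀ i, i < 8086 → fw i = true := below_step fw 8073 13 8086 wu620 wc621 rfl
theorem wc622 : allBelow (fun k => fw (Nat.add 8086 k)) 13 = true := by decide +kernel
theorem wu622 : ∀ i, i < 8099 → fw i = true := below_step fw 8086 13 8099 wu621 wc622 rfl
theorem wc623 : allBelow (fun k => fw (Nat.add 8099 k)) 13 = true := by decide +kernel
theorem wu623 : ∀ i, i < 8112 → fw i = true := below_step fw 8099 13 8112 wu622 wc623 rfl
theorem wc624 : allBelow (fun k => fw (Nat.add 8112 k)) 13 = true := by decide +kernel
theorem wu624 : ∀ i, i < 8125 → fw i = true := below_step fw 8112 13 8125 wu623 wc624 rfl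
theorem wc625 : allBelow (fun k => fw (Nat.add 8125 k)) 13 = true := by decide +kernel
theorem wu625 : ∀ i, i < 8138 → fw i = true := below_step fw 8125 13 8138 wu624 wc625 rfl
theorem wc626 : allBelow (fun k => fw (Nat.add 8138 k)) 13 = true := by decide +kernel
theorem wu626 : ∀ i, i < 8151 → fw i = true := below_step fw 8138 13 8151 wu625 wc626 rfl
theorem wc627 : allBelow (fun k => fw (Nat.add 8151 k)) 13 = true := by decide +kernel
theorem wu627 : ∀ i, i < 8164 → fw i = true := below_step fw 8151 13 8164 wu626 wc627 rfl
theorem wc628 : allBelow (fun k => fw (Nat.add 8164 k)) 13 = true := by decide +kernel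
theorem wu628 : ∀ i, i < 8177 → fw i = true := below_step fw 8164 13 8177 wu627 wc628 rfl
theorem wc629 : allBelow (fun k => fw (Nat.add 8177 k)) 13 = true := by decide +kernel
theorem wu629 : ∀ i, i < 8190 → fw i = true := below_step fw 8177 13 8190 wu628 wc629 rfl
theorem wc630 : allBelow (fun k => fw (Nat.add 8190 k)) 13 = true := by decide +kernel
theorem wu630 : ∀ i, i < 8203 → fw i = true := below_step fw 8190 13 8203 wu629 wc630 rfl
theorem wc631 : allBelow (fun k => fw (Nat.add 8203 k)) 13 = true := by decide +kernel
theorem wu631 : ∀ i, i < 8216 → fw i = true := below_step fw 8203 13 8216 wu630 wc631 rfl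
theorem wc632 : allBelow (fun k => fw (Nat.add 8216 k)) 13 = true := by decide +kernel
theorem wu632 : ∀ i, i < 8229 → fw i = true := below_step fw 8216 13 8229 wu631 wc632 rfl
theorem wc633 : allBelow (fun k => fw (Nat.add 8229 k)) 13 = true := by decide +kernel
theorem wu633 : ∀ i, i < 8242 → fw i = true := below_step fw 8229 13 8242 wu632 wc633 rfl
theorem wc634 : allBelow (fun k => fw (Nat.add 8242 k)) 13 = true := by decide +kernel
theorem wu634 : ∀ i, i < 8255 → fw i = true := below_step fw 8242 13 8255 wu633 wc634 rfl
theorem wc635 : allBelow (fun k => fw (Nat.add 8255 k)) 13 = true := by decide +kernel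
theorem wu635 : ∀ i, i < 8268 → fw i = true := below_step fw 8255 13 8268 wu634 wc635 rfl
theorem wc636 : allBelow (fun k => fw (Nat.add 8268 k)) 13 = true := by decide +kernel
theorem wu636 : ∀ i, i < 8281 → fw i = true := below_step fw 8268 13 8281 wu635 wc636 rfl
theorem wc637 : allBelow (fun k => fw (Nat.add 8281 k)) 13 = true := by decide +kernel
theorem wu637 : ∀ i, i < 8294 → fw i = true := below_step fw 8281 13 8294 wu636 wc637 rfl
theorem wc638 : allBelow (fun k => fw (Nat.add 8294 k)) 13 = true := by decide +kernel
theorem wu638 : ∀ i, i < 8307 → fw i = true := below_step fw 8294 13 8307 wu637 wc638 rfl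
theorem wc639 : allBelow (fun k => fw (Nat.add 8307 k)) 13 = true := by decide +kernel
theorem wu639 : ∀ i, i < 8320 → fw i = true := below_step fw 8307 13 8320 wu638 wc639 rfl
theorem wc640 : allBelow (fun k => fw (Nat.add 8320 k)) 13 = true := by decide +kernel
theorem wu640 : ∀ i, i < 8333 → fw i = true := below_step fw 8320 13 8333 wu639 wc640 rfl
theorem wc641 : allBelow (fun k => fw (Nat.add 8333 k)) 13 = true := by decide +kernel
theorem wu641 : ∀ i, i < 8346 → fw i = true := below_step fw 8333 13 8346 wu640 wc641 rfl
theorem wc642 : allBelow (fun k => fw (Nat.add 8346 k)) 13 = true := by decide +kernel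
theorem wu642 : ∀ i, i < 8359 → fw i = true := below_step fw 8346 13 8359 wu641 wc642 rfl
theorem wc643 : allBelow (fun k => fw (Nat.add 8359 k)) 13 = true := by decide +kernel
theorem wu643 : ∀ i, i < 8372 → fw i = true := below_step fw 8359 13 8372 wu642 wc643 rfl
theorem wc644 : allBelow (fun k => fw (Nat.add 8372 k)) 13 = true := by decide +kernel
theorem wu644 : ∀ i, i < 8385 → fw i = true := below_step fw 8372 13 8385 wu643 wc644 rfl
theorem wc645 : allBelow (fun k => fw (Nat.add 8385 k)) 13 = true := by decide +kernel
theorem wu645 : ∀ i, i < 8398 → fw i = true := below_step fw 8385 13 8398 wu644 wc645 rfl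
theorem wc646 : allBelow (fun k => fw (Nat.add 8398 k)) 13 = true := by decide +kernel
theorem wu646 : ∀ i, i < 8411 → fw i = true := below_step fw 8398 13 8411 wu645 wc646 rfl
theorem wc647 : allBelow (fun k => fw (Nat.add 8411 k)) 13 = true := by decide +kernel
theorem wu647 : ∀ i, i < 8424 → fw i = true := below_step fw 8411 13 8424 wu646 wc647 rfl
theorem wc648 : allBelow (fun k => fw (Nat.add 8424 k)) 13 = true := by decide +kernel
theorem wu648 : ∀ i, i < 8437 → fw i = true := below_step fw 8424 13 8437 wu647 wc648 rfl
theorem wc649 : allBelow (fun k => fw (Nat.add 8437 k)) 13 = true := by decide +kernel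
theorem wu649 : ∀ i, i < 8450 → fw i = true := below_step fw 8437 13 8450 wu648 wc649 rfl
theorem wc650 : allBelow (fun k => fw (Nat.add 8450 k)) 13 = true := by decide +kernel
theorem wu650 : ∀ i, i < 8463 → fw i = true := below_step fw 8450 13 8463 wu649 wc650 rfl
theorem wc651 : allBelow (fun k => fw (Nat.add 8463 k)) 13 = true := by decide +kernel
theorem wu651 : ∀ i, i < 8476 → fw i = true := below_step fw 8463 13 8476 wu650 wc651 rfl
theorem wc652 : allBelow (fun k => fw (Nat.add 8476 k)) 13 = true := by decide +kernel
theorem wu652 : ∀ i, i < 8489 → fw i = true := below_step fw 8476 13 8489 wu651 wc652 rfl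
theorem wc653 : allBelow (fun k => fw (Nat.add 8489 k)) 13 = true := by decide +kernel
theorem wu653 : ∀ i, i < 8502 → fw i = true := below_step fw 8489 13 8502 wu652 wc653 rfl
theorem wc654 : allBelow (fun k => fw (Nat.add 8502 k)) 13 = true := by decide +kernel
theorem wu654 : ∀ i, i < 8515 → fw i = true := below_step fw 8502 13 8515 wu653 wc654 rfl
theorem wc655 : allBelow (fun k => fw (Nat.add 8515 k)) 13 = true := by decide +kernel
theorem wu655 : ∀ i, i < 8528 → fw i = true := below_step fw 8515 13 8528 wu654 wc655 rfl
theorem wc656 : allBelow (fun k => fw (Nat.add 8528 k)) 13 = true := by decide +kernel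
theorem wu656 : ∀ i, i < 8541 → fw i = true := below_step fw 8528 13 8541 wu655 wc656 rfl
theorem wc657 : allBelow (fun k => fw (Nat.add 8541 k)) 13 = true := by decide +kernel
theorem wu657 : ∀ i, i < 8554 → fw i = true := below_step fw 8541 13 8554 wu656 wc657 rfl
theorem wc658 : allBelow (fun k => fw (Nat.add 8554 k)) 13 = true := by decide +kernel
theorem wu658 : ∀ i, i < 8567 → fw i = true := below_step fw 8554 13 8567 wu657 wc658 rfl
theorem wc659 : allBelow (fun k => fw (Nat.add 8567 k)) 13 = true := by decide +kernel
theorem wu659 : ∀ i, i < 8580 → fw i = true := below_step fw 8567 13 8580 wu658 wc659 rfl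
theorem wc660 : allBelow (fun k => fw (Nat.add 8580 k)) 13 = true := by decide +kernel
theorem wu660 : ∀ i, i < 8593 → fw i = true := below_step fw 8580 13 8593 wu659 wc660 rfl
theorem wc661 : allBelow (fun k => fw (Nat.add 8593 k)) 13 = true := by decide +kernel
theorem wu661 : ∀ i, i < 8606 → fw i = true := below_step fw 8593 13 8606 wu660 wc661 rfl
theorem wc662 : allBelow (fun k => fw (Nat.add 8606 k)) 13 = true := by decide +kernel
theorem wu662 : ∀ i, i < 8619 → fw i = true := below_step fw 8606 13 8619 wu661 wc662 rfl
theorem wc663 : allBelow (fun k => fw (Nat.add 8619 k)) 13 = true := by decide +kernel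
theorem wu663 : ∀ i, i < 8632 → fw i = true := below_step fw 8619 13 8632 wu662 wc663 rfl
theorem wc664 : allBelow (fun k => fw (Nat.add 8632 k)) 13 = true := by decide +kernel
theorem wu664 : ∀ i, i < 8645 → fw i = true := below_step fw 8632 13 8645 wu663 wc664 rfl
theorem wc665 : allBelow (fun k => fw (Nat.add 8645 k)) 13 = true := by decide +kernel
theorem wu665 : ∀ i, i < 8658 → fw i = true := below_step fw 8645 13 8658 wu664 wc665 rfl
theorem wc666 : allBelow (fun k => fw (Nat.add 8658 k)) 13 = true := by decide +kernel
theorem wu666 : ∀ i, i < 8671 → fw i = true := below_step fw 8658 13 8671 wu665 wc666 rfl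
theorem wc667 : allBelow (fun k => fw (Nat.add 8671 k)) 13 = true := by decide +kernel
theorem wu667 : ∀ i, i < 8684 → fw i = true := below_step fw 8671 13 8684 wu666 wc667 rfl
theorem wc668 : allBelow (fun k => fw (Nat.add 8684 k)) 13 = true := by decide +kernel
theorem wu668 : ∀ i, i < 8697 → fw i = true := below_step fw 8684 13 8697 wu667 wc668 rfl
theorem wc669 : allBelow (fun k => fw (Nat.add 8697 k)) 13 = true := by decide +kernel
theorem wu669 : ∀ i, i < 8710 → fw i = true := below_step fw 8697 13 8710 wu668 wc669 rfl
theorem wc670 : allBelow (fun k => fw (Nat.add 8710 k)) 13 = true := by decide +kernel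
theorem wu670 : ∀ i, i < 8723 → fw i = true := below_step fw 8710 13 8723 wu669 wc670 rfl
theorem wc671 : allBelow (fun k => fw (Nat.add 8723 k)) 13 = true := by decide +kernel
theorem wu671 : ∀ i, i < 8736 → fw i = true := below_step fw 8723 13 8736 wu670 wc671 rfl
theorem wc672 : allBelow (fun k => fw (Nat.add 8736 k)) 13 = true := by decide +kernel
theorem wu672 : ∀ i, i < 8749 → fw i = true := below_step fw 8736 13 8749 wu671 wc672 rfl
theorem wc673 : allBelow (fun k => fw (Nat.add 8749 k)) 13 = true := by decide +kernel
theorem wu673 : ∀ i, i < 8762 → fw i = true := below_step fw 8749 13 8762 wu672 wc673 rfl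
theorem wc674 : allBelow (fun k => fw (Nat.add 8762 k)) 13 = true := by decide +kernel
theorem wu674 : ∀ i, i < 8775 → fw i = true := below_step fw 8762 13 8775 wu673 wc674 rfl
theorem wc675 : allBelow (fun k => fw (Nat.add 8775 k)) 13 = true := by decide +kernel
theorem wu675 : ∀ i, i < 8788 → fw i = true := below_step fw 8775 13 8788 wu674 wc675 rfl
theorem wc676 : allBelow (fun k => fw (Nat.add 8788 k)) 13 = true := by decide +kernel
theorem wu676 : ∀ i, i < 8801 → fw i = true := below_step fw 8788 13 8801 wu675 wc676 rfl
theorem wc677 : allBelow (fun k => fw (Nat.add 8801 k)) 13 = true := by decide +kernel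
theorem wu677 : ∀ i, i < 8814 → fw i = true := below_step fw 8801 13 8814 wu676 wc677 rfl

end Cfsg.Agent.Lib.Helper35.Fi23Ord.X0
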