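import Cfsg.Agent.Lib.Helper35.Fi23Ord.X0.Chk4

set_option Elab.async false

namespace Cfsg.Agent.Lib.Helper35.Fi23Ord.X0

open Cfsg.Agent.Lib.Helper35

theorem wc678 : allBelow (fun k => fw (Nat.add 8814 k)) 13 = true := by decide +kernel
theorem wu678 : ∀ i, i < 8827 → fw i = true := below_step fw 8814 13 8827 wu677 wc678 rfl
theorem wc679 : allBelow (fun k => fw (Nat.add 8827 k)) 13 = true := by decide +kernel
theorem wu679 : ∀ i, i < 8840 → fw i = true := below_step fw 8827 13 8840 wu678 wc679 rfl
theorem wc680 : allBelow (fun k => fw (Nat.add 8840 k)) 13 = true := by decide +kernel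
theorem wu680 : ∀ i, i < 8853 → fw i = true := below_step fw 8840 13 8853 wu679 wc680 rfl
theorem wc681 : allBelow (fun k => fw (Nat.add 8853 k)) 13 = true := by decide +kernel
theorem wu681 : ∀ i, i < 8866 → fw i = true := below_step fw 8853 13 8866 wu680 wc681 rfl
theorem wc682 : allBelow (fun k => fw (Nat.add 8866 k)) 13 = true := by decide +kernel
theorem wu682 : ∀ i, i < 8879 → fw i = true := below_step fw 8866 13 8879 wu681 wc682 rfl
theorem wc683 : allBelow (fun k => fw (Nat.add 8879 k)) 13 = true := by decide +kernel
theorem wu683 : ∀ i, i < 8892 → fw i = true := below_step fw 8879 13 8892 wu682 wc683 rfl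
theorem wc684 : allBelow (fun k => fw (Nat.add 8892 k)) 13 = true := by decide +kernel
theorem wu684 : ∀ i, i < 8905 → fw i = true := below_step fw 8892 13 8905 wu683 wc684 rfl
theorem wc685 : allBelow (fun k => fw (Nat.add 8905 k)) 13 = true := by decide +kernel
theorem wu685 : ∀ i, i < 8918 → fw i = true := below_step fw 8905 13 8918 wu684 wc685 rfl
theorem wc686 : allBelow (fun k => fw (Nat.add 8918 k)) 13 = true := by decide +kernel
theorem wu686 : ∀ i, i < 8931 → fw i = true := below_step fw 8918 13 8931 wu685 wc686 rfl
theorem wc687 : allBelow (fun k => fw (Nat.add 8931 k)) 13 = true := by decide +kernel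
theorem wu687 : ∀ i, i < 8944 → fw i = true := below_step fw 8931 13 8944 wu686 wc687 rfl
theorem wc688 : allBelow (fun k => fw (Nat.add 8944 k)) 13 = true := by decide +kernel
theorem wu688 : ∀ i, i < 8957 → fw i = true := below_step fw 8944 13 8957 wu687 wc688 rfl
theorem wc689 : allBelow (fun k => fw (Nat.add 8957 k)) 13 = true := by decide +kernel
theorem wu689 : ∀ i, i < 8970 → fw i = true := below_step fw 8957 13 8970 wu688 wc689 rfl
theorem wc690 : allBelow (fun k => fw (Nat.add 8970 k)) 13 = true := by decide +kernel
theorem wu690 : ∀ i, i < 8983 → fw i = true := below_step fw 8970 13 8983 wu689 wc690 rfl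
theorem wc691 : allBelow (fun k => fw (Nat.add 8983 k)) 13 = true := by decide +kernel
theorem wu691 : ∀ i, i < 8996 → fw i = true := below_step fw 8983 13 8996 wu690 wc691 rfl
theorem wc692 : allBelow (fun k => fw (Nat.add 8996 k)) 13 = true := by decide +kernel
theorem wu692 : ∀ i, i < 9009 → fw i = true := below_step fw 8996 13 9009 wu691 wc692 rfl
theorem wc693 : allBelow (fun k => fw (Nat.add 9009 k)) 13 = true := by decide +kernel
theorem wu693 : ∀ i, i < 9022 → fw i = true := below_step fw 9009 13 9022 wu692 wc693 rfl
theorem wc694 : allBelow (fun k => fw (Nat.add 9022 k)) 13 = true := by decide +kernel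
theorem wu694 : ∀ i, i < 9035 → fw i = true := below_step fw 9022 13 9035 wu693 wc694 rfl
theorem wc695 : allBelow (fun k => fw (Nat.add 9035 k)) 13 = true := by decide +kernel
theorem wu695 : ∀ i, i < 9048 → fw i = true := below_step fw 9035 13 9048 wu694 wc695 rfl
theorem wc696 : allBelow (fun k => fw (Nat.add 9048 k)) 13 = true := by decide +kernel
theorem wu696 : ∀ i, i < 9061 → fw i = true := below_step fw 9048 13 9061 wu695 wc696 rfl
theorem wc697 : allBelow (fun k => fw (Nat.add 9061 k)) 13 = true := by decide +kernel
theorem wu697 : ∀ i, i < 9074 → fw i = true := below_step fw 9061 13 9074 wu696 wc697 rfl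
theorem wc698 : allBelow (fun k => fw (Nat.add 9074 k)) 13 = true := by decide +kernel
theorem wu698 : ∀ i, i < 9087 → fw i = true := below_step fw 9074 13 9087 wu697 wc698 rfl
theorem wc699 : allBelow (fun k => fw (Nat.add 9087 k)) 13 = true := by decide +kernel
theorem wu699 : ∀ i, i < 9100 → fw i = true := below_step fw 9087 13 9100 wu698 wc699 rfl
theorem wc700 : allBelow (fun k => fw (Nat.add 9100 k)) 13 = true := by decide +kernel
theorem wu700 : ∀ i, i < 9113 → fw i = true := below_step fw 9100 13 9113 wu699 wc700 rfl
theorem wc701 : allBelow (fun k => fw (Nat.add 9113 k)) 13 = true := by decide +kernel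
theorem wu701 : ∀ i, i < 9126 → fw i = true := below_step fw 9113 13 9126 wu700 wc701 rfl
theorem wc702 : allBelow (fun k => fw (Nat.add 9126 k)) 13 = true := by decide +kernel
theorem wu702 : ∀ i, i < 9139 → fw i = true := below_step fw 9126 13 9139 wu701 wc702 rfl
theorem wc703 : allBelow (fun k => fw (Nat.add 9139 k)) 13 = true := by decide +kernel
theorem wu703 : ∀ i, i < 9152 → fw i = true := below_step fw 9139 13 9152 wu702 wc703 rfl
theorem wc704 : allBelow (fun k => fw (Nat.add 9152 k)) 13 = true := by decide +kernel
theorem wu704 : ∀ i, i < 9165 → fw i = true := below_step fw 9152 13 9165 wu703 wc704 rfl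
theorem wc705 : allBelow (fun k => fw (Nat.add 9165 k)) 13 = true := by decide +kernel
theorem wu705 : ∀ i, i < 9178 → fw i = true := below_step fw 9165 13 9178 wu704 wc705 rfl
theorem wc706 : allBelow (fun k => fw (Nat.add 9178 k)) 13 = true := by decide +kernel
theorem wu706 : ∀ i, i < 9191 → fw i = true := below_step fw 9178 13 9191 wu705 wc706 rfl
theorem wc707 : allBelow (fun k => fw (Nat.add 9191 k)) 13 = true := by decide +kernel
theorem wu707 : ∀ i, i < 9204 → fw i = true := below_step fw 9191 13 9204 wu706 wc707 rfl
theorem wc708 : allBelow (fun k => fw (Nat.add 9204 k)) 13 = true := by decide +kernel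
theorem wu708 : ∀ i, i < 9217 → fw i = true := below_step fw 9204 13 9217 wu707 wc708 rfl
theorem wc709 : allBelow (fun k => fw (Nat.add 9217 k)) 13 = true := by decide +kernel
theorem wu709 : ∀ i, i < 9230 → fw i = true := below_step fw 9217 13 9230 wu708 wc709 rfl
theorem wc710 : allBelow (fun k => fw (Nat.add 9230 k)) 13 = true := by decide +kernel
theorem wu710 : ∀ i, i < 9243 → fw i = true := below_step fw 9230 13 9243 wu709 wc710 rfl
theorem wc711 : allBelow (fun k => fw (Nat.add 9243 k)) 13 = true := by decide +kernel
theorem wu711 : ∀ i, i < 9256 → fw i = true := below_step fw 9243 13 9256 wu710 wc711 rfl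
theorem wc712 : allBelow (fun k => fw (Nat.add 9256 k)) 13 = true := by decide +kernel
theorem wu712 : ∀ i, i < 9269 → fw i = true := below_step fw 9256 13 9269 wu711 wc712 rfl
theorem wc713 : allBelow (fun k => fw (Nat.add 9269 k)) 13 = true := by decide +kernel
theorem wu713 : ∀ i, i < 9282 → fw i = true := below_step fw 9269 13 9282 wu712 wc713 rfl
theorem wc714 : allBelow (fun k => fw (Nat.add 9282 k)) 13 = true := by decide +kernel
theorem wu714 : ∀ i, i < 9295 → fw i = true := below_step fw 9282 13 9295 wu713 wc714 rfl
theorem wc715 : allBelow (fun k => fw (Nat.add 9295 k)) 13 = true := by decide +kernel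
theorem wu715 : ∀ i, i < 9308 → fw i = true := below_step fw 9295 13 9308 wu714 wc715 rfl
theorem wc716 : allBelow (fun k => fw (Nat.add 9308 k)) 13 = true := by decide +kernel
theorem wu716 : ∀ i, i < 9321 → fw i = true := below_step fw 9308 13 9321 wu715 wc716 rfl
theorem wc717 : allBelow (fun k => fw (Nat.add 9321 k)) 13 = true := by decide +kernel
theorem wu717 : ∀ i, i < 9334 → fw i = true := below_step fw 9321 13 9334 wu716 wc717 rfl
theorem wc718 : allBelow (fun k => fw (Nat.add 9334 k)) 13 = true := by decide +kernel
theorem wu718 : ∀ i, i < 9347 → fw i = true := below_step fw 9334 13 9347 wu717 wc718 rfl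
theorem wc719 : allBelow (fun k => fw (Nat.add 9347 k)) 13 = true := by decide +kernel
theorem wu719 : ∀ i, i < 9360 → fw i = true := below_step fw 9347 13 9360 wu718 wc719 rfl
theorem wc720 : allBelow (fun k => fw (Nat.add 9360 k)) 13 = true := by decide +kernel
theorem wu720 : ∀ i, i < 9373 → fw i = true := below_step fw 9360 13 9373 wu719 wc720 rfl
theorem wc721 : allBelow (fun k => fw (Nat.add 9373 k)) 13 = true := by decide +kernel
theorem wu721 : ∀ i, i < 9386 → fw i = true := below_step fw 9373 13 9386 wu720 wc721 rfl
theorem wc722 : allBelow (fun k => fw (Nat.add 9386 k)) 13 = true := by decide +kernel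
theorem wu722 : ∀ i, i < 9399 → fw i = true := below_step fw 9386 13 9399 wu721 wc722 rfl
theorem wc723 : allBelow (fun k => fw (Nat.add 9399 k)) 13 = true := by decide +kernel
theorem wu723 : ∀ i, i < 9412 → fw i = true := below_step fw 9399 13 9412 wu722 wc723 rfl
theorem wc724 : allBelow (fun k => fw (Nat.add 9412 k)) 13 = true := by decide +kernel
theorem wu724 : ∀ i, i < 9425 → fw i = true := below_step fw 9412 13 9425 wu723 wc724 rfl
theorem wc725 : allBelow (fun k => fw (Nat.add 9425 k)) 13 = true := by decide +kernel
theorem wu725 : ∀ i, i < 9438 → fw i = true := below_step fw 9425 13 9438 wu724 wc725 rfl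
theorem wc726 : allBelow (fun k => fw (Nat.add 9438 k)) 13 = true := by decide +kernel
theorem wu726 : ∀ i, i < 9451 → fw i = true := below_step fw 9438 13 9451 wu725 wc726 rfl
theorem wc727 : allBelow (fun k => fw (Nat.add 9451 k)) 13 = true := by decide +kernel
theorem wu727 : ∀ i, i < 9464 → fw i = true := below_step fw 9451 13 9464 wu726 wc727 rfl
theorem wc728 : allBelow (fun k => fw (Nat.add 9464 k)) 13 = true := by decide +kernel
theorem wu728 : ∀ i, i < 9477 → fw i = true := below_step fw 9464 13 9477 wu727 wc728 rfl
theorem wc729 : allBelow (fun k => fw (Nat.add 9477 k)) 13 = true := by decide +kernel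
theorem wu729 : ∀ i, i < 9490 → fw i = true := below_step fw 9477 13 9490 wu728 wc729 rfl
theorem wc730 : allBelow (fun k => fw (Nat.add 9490 k)) 13 = true := by decide +kernel
theorem wu730 : ∀ i, i < 9503 → fw i = true := below_step fw 9490 13 9503 wu729 wc730 rfl
theorem wc731 : allBelow (fun k => fw (Nat.add 9503 k)) 13 = true := by decide +kernel
theorem wu731 : ∀ i, i < 9516 → fw i = true := below_step fw 9503 13 9516 wu730 wc731 rfl
theorem wc732 : allBelow (fun k => fw (Nat.add 9516 k)) 13 = true := by decide +kernel
theorem wu732 : ∀ i, i < 9529 → fw i = true := below_step fw 9516 13 9529 wu731 wc732 rfl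
theorem wc733 : allBelow (fun k => fw (Nat.add 9529 k)) 13 = true := by decide +kernel
theorem wu733 : ∀ i, i < 9542 → fw i = true := below_step fw 9529 13 9542 wu732 wc733 rfl
theorem wc734 : allBelow (fun k => fw (Nat.add 9542 k)) 13 = true := by decide +kernel
theorem wu734 : ∀ i, i < 9555 → fw i = true := below_step fw 9542 13 9555 wu733 wc734 rfl
theorem wc735 : allBelow (fun k => fw (Nat.add 9555 k)) 13 = true := by decide +kernel
theorem wu735 : ∀ i, i < 9568 → fw i = true := below_step fw 9555 13 9568 wu734 wc735 rfl
theorem wc736 : allBelow (fun k => fw (Nat.add 9568 k)) 13 = true := by decide +kernel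
theorem wu736 : ∀ i, i < 9581 → fw i = true := below_step fw 9568 13 9581 wu735 wc736 rfl
theorem wc737 : allBelow (fun k => fw (Nat.add 9581 k)) 13 = true := by decide +kernel
theorem wu737 : ∀ i, i < 9594 → fw i = true := below_step fw 9581 13 9594 wu736 wc737 rfl
theorem wc738 : allBelow (fun k => fw (Nat.add 9594 k)) 13 = true := by decide +kernel
theorem wu738 : ∀ i, i < 9607 → fw i = true := below_step fw 9594 13 9607 wu737 wc738 rfl
theorem wc739 : allBelow (fun k => fw (Nat.add 9607 k)) 13 = true := by decide +kernel
theorem wu739 : ∀ i, i < 9620 → fw i = true := below_step fw 9607 13 9620 wu738 wc739 rfl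
theorem wc740 : allBelow (fun k => fw (Nat.add 9620 k)) 13 = true := by decide +kernel
theorem wu740 : ∀ i, i < 9633 → fw i = true := below_step fw 9620 13 9633 wu739 wc740 rfl
theorem wc741 : allBelow (fun k => fw (Nat.add 9633 k)) 13 = true := by decide +kernel
theorem wu741 : ∀ i, i < 9646 → fw i = true := below_step fw 9633 13 9646 wu740 wc741 rfl
theorem wc742 : allBelow (fun k => fw (Nat.add 9646 k)) 13 = true := by decide +kernel
theorem wu742 : ∀ i, i < 9659 → fw i = true := below_step fw 9646 13 9659 wu741 wc742 rfl
theorem wc743 : allBelow (fun k => fw (Nat.add 9659 k)) 13 = true := by decide +kernel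
theorem wu743 : ∀ i, i < 9672 → fw i = true := below_step fw 9659 13 9672 wu742 wc743 rfl
theorem wc744 : allBelow (fun k => fw (Nat.add 9672 k)) 13 = true := by decide +kernel
theorem wu744 : ∀ i, i < 9685 → fw i = true := below_step fw 9672 13 9685 wu743 wc744 rfl
theorem wc745 : allBelow (fun k => fw (Nat.add 9685 k)) 13 = true := by decide +kernel
theorem wu745 : ∀ i, i < 9698 → fw i = true := below_step fw 9685 13 9698 wu744 wc745 rfl
theorem wc746 : allBelow (fun k => fw (Nat.add 9698 k)) 13 = true := by decide +kernel
theorem wu746 : ∀ i, i < 9711 → fw i = true := below_step fw 9698 13 9711 wu745 wc746 rfl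
theorem wc747 : allBelow (fun k => fw (Nat.add 9711 k)) 13 = true := by decide +kernel
theorem wu747 : ∀ i, i < 9724 → fw i = true := below_step fw 9711 13 9724 wu746 wc747 rfl
theorem wc748 : allBelow (fun k => fw (Nat.add 9724 k)) 13 = true := by decide +kernel
theorem wu748 : ∀ i, i < 9737 → fw i = true := below_step fw 9724 13 9737 wu747 wc748 rfl
theorem wc749 : allBelow (fun k => fw (Nat.add 9737 k)) 13 = true := by decide +kernel
theorem wu749 : ∀ i, i < 9750 → fw i = true := below_step fw 9737 13 9750 wu748 wc749 rfl
theorem wc750 : allBelow (fun k => fw (Nat.add 9750 k)) 13 = true := by decide +kernel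
theorem wu750 : ∀ i, i < 9763 → fw i = true := below_step fw 9750 13 9763 wu749 wc750 rfl
theorem wc751 : allBelow (fun k => fw (Nat.add 9763 k)) 13 = true := by decide +kernel
theorem wu751 : ∀ i, i < 9776 → fw i = true := below_step fw 9763 13 9776 wu750 wc751 rfl
theorem wc752 : allBelow (fun k => fw (Nat.add 9776 k)) 13 = true := by decide +kernel
theorem wu752 : ∀ i, i < 9789 → fw i = true := below_step fw 9776 13 9789 wu751 wc752 rfl
theorem wc753 : allBelow (fun k => fw (Nat.add 9789 k)) 13 = true := by decide +kernel
theorem wu753 : ∀ i, i < 9802 → fw i = true := below_step fw 9789 13 9802 wu752 wc753 rfl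
theorem wc754 : allBelow (fun k => fw (Nat.add 9802 k)) 13 = true := by decide +kernel
theorem wu754 : ∀ i, i < 9815 → fw i = true := below_step fw 9802 13 9815 wu753 wc754 rfl
theorem wc755 : allBelow (fun k => fw (Nat.add 9815 k)) 13 = true := by decide +kernel
theorem wu755 : ∀ i, i < 9828 → fw i = true := below_step fw 9815 13 9828 wu754 wc755 rfl
theorem wc756 : allBelow (fun k => fw (Nat.add 9828 k)) 13 = true := by decide +kernel
theorem wu756 : ∀ i, i < 9841 → fw i = true := below_step fw 9828 13 9841 wu755 wc756 rfl
theorem wc757 : allBelow (fun k => fw (Nat.add 9841 k)) 13 = true := by decide +kernel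
theorem wu757 : ∀ i, i < 9854 → fw i = true := below_step fw 9841 13 9854 wu756 wc757 rfl
theorem wc758 : allBelow (fun k => fw (Nat.add 9854 k)) 13 = true := by decide +kernel
theorem wu758 : ∀ i, i < 9867 → fw i = true := below_step fw 9854 13 9867 wu757 wc758 rfl
theorem wc759 : allBelow (fun k => fw (Nat.add 9867 k)) 13 = true := by decide +kernel
theorem wu759 : ∀ i, i < 9880 → fw i = true := below_step fw 9867 13 9880 wu758 wc759 rfl
theorem wc760 : allBelow (fun k => fw (Nat.add 9880 k)) 13 = true := by decide +kernel
theorem wu760 : ∀ i, i < 9893 → fw i = true := below_step fw 9880 13 9893 wu759 wc760 rfl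
theorem wc761 : allBelow (fun k => fw (Nat.add 9893 k)) 13 = true := by decide +kernel
theorem wu761 : ∀ i, i < 9906 → fw i = true := below_step fw 9893 13 9906 wu760 wc761 rfl
theorem wc762 : allBelow (fun k => fw (Nat.add 9906 k)) 13 = true := by decide +kernel
theorem wu762 : ∀ i, i < 9919 → fw i = true := below_step fw 9906 13 9919 wu761 wc762 rfl
theorem wc763 : allBelow (fun k => fw (Nat.add 9919 k)) 13 = true := by decide +kernel
theorem wu763 : ∀ i, i < 9932 → fw i = true := below_step fw 9919 13 9932 wu762 wc763 rfl
theorem wc764 : allBelow (fun k => fw (Nat.add 9932 k)) 13 = true := by decide +kernel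
theorem wu764 : ∀ i, i < 9945 → fw i = true := below_step fw 9932 13 9945 wu763 wc764 rfl
theorem wc765 : allBelow (fun k => fw (Nat.add 9945 k)) 13 = true := by decide +kernel
theorem wu765 : ∀ i, i < 9958 → fw i = true := below_step fw 9945 13 9958 wu764 wc765 rfl
theorem wc766 : allBelow (fun k => fw (Nat.add 9958 k)) 13 = true := by decide +kernel
theorem wu766 : ∀ i, i < 9971 → fw i = true := below_step fw 9958 13 9971 wu765 wc766 rfl
theorem wc767 : allBelow (fun k => fw (Nat.add 9971 k)) 13 = true := by decide +kernel
theorem wu767 : ∀ i, i < 9984 → fw i = true := below_step fw 9971 13 9984 wu766 wc767 rfl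
theorem wc768 : allBelow (fun k => fw (Nat.add 9984 k)) 13 = true := by decide +kernel
theorem wu768 : ∀ i, i < 9997 → fw i = true := below_step fw 9984 13 9997 wu767 wc768 rfl
theorem wc769 : allBelow (fun k => fw (Nat.add 9997 k)) 13 = true := by decide +kernel
theorem wu769 : ∀ i, i < 10010 → fw i = true := below_step fw 9997 13 10010 wu768 wc769 rfl
theorem wc770 : allBelow (fun k => fw (Nat.add 10010 k)) 13 = true := by decide +kernel
theorem wu770 : ∀ i, i < 10023 → fw i = true := below_step fw 10010 13 10023 wu769 wc770 rfl
theorem wc771 : allBelow (fun k => fw (Nat.add 10023 k)) 13 = true := by decide +kernel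
theorem wu771 : ∀ i, i < 10036 → fw i = true := below_step fw 10023 13 10036 wu770 wc771 rfl
theorem wc772 : allBelow (fun k => fw (Nat.add 10036 k)) 13 = true := by decide +kernel
theorem wu772 : ∀ i, i < 10049 → fw i = true := below_step fw 10036 13 10049 wu771 wc772 rfl
theorem wc773 : allBelow (fun k => fw (Nat.add 10049 k)) 13 = true := by decide +kernel
theorem wu773 : ∀ i, i < 10062 → fw i = true := below_step fw 10049 13 10062 wu772 wc773 rfl
theorem wc774 : allBelow (fun k => fw (Nat.add 10062 k)) 13 = true := by decide +kernel
theorem wu774 : ∀ i, i < 10075 → fw i = true := below_step fw 10062 13 10075 wu773 wc774 rfl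
theorem wc775 : allBelow (fun k => fw (Nat.add 10075 k)) 13 = true := by decide +kernel
theorem wu775 : ∀ i, i < 10088 → fw i = true := below_step fw 10075 13 10088 wu774 wc775 rfl
theorem wc776 : allBelow (fun k => fw (Nat.add 10088 k)) 13 = true := by decide +kernel
theorem wu776 : ∀ i, i < 10101 → fw i = true := below_step fw 10088 13 10101 wu775 wc776 rfl
theorem wc777 : allBelow (fun k => fw (Nat.add 10101 k)) 13 = true := by decide +kernel
theorem wu777 : ∀ i, i < 10114 → fw i = true := below_step fw 10101 13 10114 wu776 wc777 rfl
theorem wc778 : allBelow (fun k => fw (Nat.add 10114 k)) 13 = true := by decide +kernel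
theorem wu778 : ∀ i, i < 10127 → fw i = true := below_step fw 10114 13 10127 wu777 wc778 rfl
theorem wc779 : allBelow (fun k => fw (Nat.add 10127 k)) 13 = true := by decide +kernel
theorem wu779 : ∀ i, i < 10140 → fw i = true := below_step fw 10127 13 10140 wu778 wc779 rfl
theorem wc780 : allBelow (fun k => fw (Nat.add 10140 k)) 13 = true := by decide +kernel
theorem wu780 : ∀ i, i < 10153 → fw i = true := below_step fw 10140 13 10153 wu779 wc780 rfl
theorem wc781 : allBelow (fun k => fw (Nat.add 10153 k)) 13 = true := by decide +kernel
theorem wu781 : ∀ i, i < 10166 → fw i = true := below_step fw 10153 13 10166 wu780 wc781 rfl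
theorem wc782 : allBelow (fun k => fw (Nat.add 10166 k)) 13 = true := by decide +kernel
theorem wu782 : ∀ i, i < 10179 → fw i = true := below_step fw 10166 13 10179 wu781 wc782 rfl
theorem wc783 : allBelow (fun k => fw (Nat.add 10179 k)) 13 = true := by decide +kernel
theorem wu783 : ∀ i, i < 10192 → fw i = true := below_step fw 10179 13 10192 wu782 wc783 rfl
theorem wc784 : allBelow (fun k => fw (Nat.add 10192 k)) 13 = true := by decide +kernel
theorem wu784 : ∀ i, i < 10205 → fw i = true := below_step fw 10192 13 10205 wu783 wc784 rfl
theorem wc785 : allBelow (fun k => fw (Nat.add 10205 k)) 13 = true := by decide +kernel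
theorem wu785 : ∀ i, i < 10218 → fw i = true := below_step fw 10205 13 10218 wu784 wc785 rfl
theorem wc786 : allBelow (fun k => fw (Nat.add 10218 k)) 13 = true := by decide +kernel
theorem wu786 : ∀ i, i < 10231 → fw i = true := below_step fw 10218 13 10231 wu785 wc786 rfl
theorem wc787 : allBelow (fun k => fw (Nat.add 10231 k)) 13 = true := by decide +kernel
theorem wu787 : ∀ i, i < 10244 → fw i = true := below_step fw 10231 13 10244 wu786 wc787 rfl
theorem wc788 : allBelow (fun k => fw (Nat.add 10244 k)) 13 = true := by decide +kernel
theorem wu788 : ∀ i, i < 10257 → fw i = true := below_step fw 10244 13 10257 wu787 wc788 rfl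
theorem wc789 : allBelow (fun k => fw (Nat.add 10257 k)) 13 = true := by decide +kernel
theorem wu789 : ∀ i, i < 10270 → fw i = true := below_step fw 10257 13 10270 wu788 wc789 rfl
theorem wc790 : allBelow (fun k => fw (Nat.add 10270 k)) 13 = true := by decide +kernel
theorem wu790 : ∀ i, i < 10283 → fw i = true := below_step fw 10270 13 10283 wu789 wc790 rfl
theorem wc791 : allBelow (fun k => fw (Nat.add 10283 k)) 13 = true := by decide +kernel
theorem wu791 : ∀ i, i < 10296 → fw i = true := below_step fw 10283 13 10296 wu790 wc791 rfl
theorem wc792 : allBelow (fun k => fw (Nat.add 10296 k)) 13 = true := by decide +kernel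
theorem wu792 : ∀ i, i < 10309 → fw i = true := below_step fw 10296 13 10309 wu791 wc792 rfl
theorem wc793 : allBelow (fun k => fw (Nat.add 10309 k)) 13 = true := by decide +kernel
theorem wu793 : ∀ i, i < 10322 → fw i = true := below_step fw 10309 13 10322 wu792 wc793 rfl
theorem wc794 : allBelow (fun k => fw (Nat.add 10322 k)) 13 = true := by decide +kernel
theorem wu794 : ∀ i, i < 10335 → fw i = true := below_step fw 10322 13 10335 wu793 wc794 rfl
theorem wc795 : allBelow (fun k => fw (Nat.add 10335 k)) 13 = true := by decide +kernel
theorem wu795 : ∀ i, i < 10348 → fw i = true := below_step fw 10335 13 10348 wu794 wc795 rfl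
theorem wc796 : allBelow (fun k => fw (Nat.add 10348 k)) 13 = true := by decide +kernel
theorem wu796 : ∀ i, i < 10361 → fw i = true := below_step fw 10348 13 10361 wu795 wc796 rfl
theorem wc797 : allBelow (fun k => fw (Nat.add 10361 k)) 13 = true := by decide +kernel
theorem wu797 : ∀ i, i < 10374 → fw i = true := below_step fw 10361 13 10374 wu796 wc797 rfl
theorem wc798 : allBelow (fun k => fw (Nat.add 10374 k)) 13 = true := by decide +kernel
theorem wu798 : ∀ i, i < 10387 → fw i = true := below_step fw 10374 13 10387 wu797 wc798 rfl
theorem wc799 : allBelow (fun k => fw (Nat.add 10387 k)) 13 = true := by decide +kernel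
theorem wu799 : ∀ i, i < 10400 → fw i = true := below_step fw 10387 13 10400 wu798 wc799 rfl
theorem wc800 : allBelow (fun k => fw (Nat.add 10400 k)) 13 = true := by decide +kernel
theorem wu800 : ∀ i, i < 10413 → fw i = true := below_step fw 10400 13 10413 wu799 wc800 rfl
theorem wc801 : allBelow (fun k => fw (Nat.add 10413 k)) 13 = true := by decide +kernel
theorem wu801 : ∀ i, i < 10426 → fw i = true := below_step fw 10413 13 10426 wu800 wc801 rfl
theorem wc802 : allBelow (fun k => fw (Nat.add 10426 k)) 13 = true := by decide +kernel
theorem wu802 : ∀ i, i < 10439 → fw i = true := below_step fw 10426 13 10439 wu801 wc802 rfl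
theorem wc803 : allBelow (fun k => fw (Nat.add 10439 k)) 13 = true := by decide +kernel
theorem wu803 : ∀ i, i < 10452 → fw i = true := below_step fw 10439 13 10452 wu802 wc803 rfl
theorem wc804 : allBelow (fun k => fw (Nat.add 10452 k)) 13 = true := by decide +kernel
theorem wu804 : ∀ i, i < 10465 → fw i = true := below_step fw 10452 13 10465 wu803 wc804 rfl
theorem wc805 : allBelow (fun k => fw (Nat.add 10465 k)) 13 = true := by decide +kernel
theorem wu805 : ∀ i, i < 10478 → fw i = true := below_step fw 10465 13 10478 wu804 wc805 rfl
theorem wc806 : allBelow (fun k => fw (Nat.add 10478 k)) 13 = true := by decide +kernel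
theorem wu806 : ∀ i, i < 10491 → fw i = true := below_step fw 10478 13 10491 wu805 wc806 rfl
theorem wc807 : allBelow (fun k => fw (Nat.add 10491 k)) 13 = true := by decide +kernel
theorem wu807 : ∀ i, i < 10504 → fw i = true := below_step fw 10491 13 10504 wu806 wc807 rfl
theorem wc808 : allBelow (fun k => fw (Nat.add 10504 k)) 13 = true := by decide +kernel
theorem wu808 : ∀ i, i < 10517 → fw i = true := below_step fw 10504 13 10517 wu807 wc808 rfl
theorem wc809 : allBelow (fun k => fw (Nat.add 10517 k)) 13 = true := by decide +kernel
theorem wu809 : ∀ i, i < 10530 → fw i = true := below_step fw 10517 13 10530 wu808 wc809 rfl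
theorem wc810 : allBelow (fun k => fw (Nat.add 10530 k)) 13 = true := by decide +kernel
theorem wu810 : ∀ i, i < 10543 → fw i = true := below_step fw 10530 13 10543 wu809 wc810 rfl
theorem wc811 : allBelow (fun k => fw (Nat.add 10543 k)) 13 = true := by decide +kernel
theorem wu811 : ∀ i, i < 10556 → fw i = true := below_step fw 10543 13 10556 wu810 wc811 rfl
theorem wc812 : allBelow (fun k => fw (Nat.add 10556 k)) 13 = true := by decide +kernel
theorem wu812 : ∀ i, i < 10569 → fw i = true := below_step fw 10556 13 10569 wu811 wc812 rfl
theorem wc813 : allBelow (fun k => fw (Nat.add 10569 k)) 13 = true := by decide +kernel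
theorem wu813 : ∀ i, i < 10582 → fw i = true := below_step fw 10569 13 10582 wu812 wc813 rfl
theorem wc814 : allBelow (fun k => fw (Nat.add 10582 k)) 13 = true := by decide +kernel
theorem wu814 : ∀ i, i < 10595 → fw i = true := below_step fw 10582 13 10595 wu813 wc814 rfl
theorem wc815 : allBelow (fun k => fw (Nat.add 10595 k)) 13 = true := by decide +kernel
theorem wu815 : ∀ i, i < 10608 → fw i = true := below_step fw 10595 13 10608 wu814 wc815 rfl
theorem wc816 : allBelow (fun k => fw (Nat.add 10608 k)) 13 = true := by decide +kernel
theorem wu816 : ∀ i, i < 10621 → fw i = true := below_step fw 10608 13 10621 wu815 wc816 rfl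
theorem wc817 : allBelow (fun k => fw (Nat.add 10621 k)) 13 = true := by decide +kernel
theorem wu817 : ∀ i, i < 10634 → fw i = true := below_step fw 10621 13 10634 wu816 wc817 rfl
theorem wc818 : allBelow (fun k => fw (Nat.add 10634 k)) 13 = true := by decide +kernel
theorem wu818 : ∀ i, i < 10647 → fw i = true := below_step fw 10634 13 10647 wu817 wc818 rfl
theorem wc819 : allBelow (fun k => fw (Nat.add 10647 k)) 13 = true := by decide +kernel
theorem wu819 : ∀ i, i < 10660 → fw i = true := below_step fw 10647 13 10660 wu818 wc819 rfl
theorem wc820 : allBelow (fun k => fw (Nat.add 10660 k)) 13 = true := by decide +kernel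
theorem wu820 : ∀ i, i < 10673 → fw i = true := below_step fw 10660 13 10673 wu819 wc820 rfl
theorem wc821 : allBelow (fun k => fw (Nat.add 10673 k)) 13 = true := by decide +kernel
theorem wu821 : ∀ i, i < 10686 → fw i = true := below_step fw 10673 13 10686 wu820 wc821 rfl
theorem wc822 : allBelow (fun k => fw (Nat.add 10686 k)) 13 = true := by decide +kernel
theorem wu822 : ∀ i, i < 10699 → fw i = true := below_step fw 10686 13 10699 wu821 wc822 rfl
theorem wc823 : allBelow (fun k => fw (Nat.add 10699 k)) 13 = true := by decide +kernel
theorem wu823 : ∀ i, i < 10712 → fw i = true := below_step fw 10699 13 10712 wu822 wc823 rfl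
theorem wc824 : allBelow (fun k => fw (Nat.add 10712 k)) 13 = true := by decide +kernel
theorem wu824 : ∀ i, i < 10725 → fw i = true := below_step fw 10712 13 10725 wu823 wc824 rfl
theorem wc825 : allBelow (fun k => fw (Nat.add 10725 k)) 13 = true := by decide +kernel
theorem wu825 : ∀ i, i < 10738 → fw i = true := below_step fw 10725 13 10738 wu824 wc825 rfl
theorem wc826 : allBelow (fun k => fw (Nat.add 10738 k)) 13 = true := by decide +kernel
theorem wu826 : ∀ i, i < 10751 → fw i = true := below_step fw 10738 13 10751 wu825 wc826 rfl
theorem wc827 : allBelow (fun k => fw (Nat.add 10751 k)) 13 = true := by decide +kernel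
theorem wu827 : ∀ i, i < 10764 → fw i = true := below_step fw 10751 13 10764 wu826 wc827 rfl
theorem wc828 : allBelow (fun k => fw (Nat.add 10764 k)) 13 = true := by decide +kernel
theorem wu828 : ∀ i, i < 10777 → fw i = true := below_step fw 10764 13 10777 wu827 wc828 rfl
theorem wc829 : allBelow (fun k => fw (Nat.add 10777 k)) 13 = true := by decide +kernel
theorem wu829 : ∀ i, i < 10790 → fw i = true := below_step fw 10777 13 10790 wu828 wc829 rfl
theorem wc830 : allBelow (fun k => fw (Nat.add 10790 k)) 13 = true := by decide +kernel
theorem wu830 : ∀ i, i < 10803 → fw i = true := below_step fw 10790 13 10803 wu829 wc830 rfl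
theorem wc831 : allBelow (fun k => fw (Nat.add 10803 k)) 13 = true := by decide +kernel
theorem wu831 : ∀ i, i < 10816 → fw i = true := below_step fw 10803 13 10816 wu830 wc831 rfl
theorem wc832 : allBelow (fun k => fw (Nat.add 10816 k)) 13 = true := by decide +kernel
theorem wu832 : ∀ i, i < 10829 → fw i = true := below_step fw 10816 13 10829 wu831 wc832 rfl
theorem wc833 : allBelow (fun k => fw (Nat.add 10829 k)) 13 = true := by decide +kernel
theorem wu833 : ∀ i, i < 10842 → fw i = true := below_step fw 10829 13 10842 wu832 wc833 rfl
theorem wc834 : allBelow (fun k => fw (Nat.add 10842 k)) 13 = true := by decide +kernel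
theorem wu834 : ∀ i, i < 10855 → fw i = true := below_step fw 10842 13 10855 wu833 wc834 rfl
theorem wc835 : allBelow (fun k => fw (Nat.add 10855 k)) 13 = true := by decide +kernel
theorem wu835 : ∀ i, i < 10868 → fw i = true := below_step fw 10855 13 10868 wu834 wc835 rfl
theorem wc836 : allBelow (fun k => fw (Nat.add 10868 k)) 13 = true := by decide +kernel
theorem wu836 : ∀ i, i < 10881 → fw i = true := below_step fw 10868 13 10881 wu835 wc836 rfl
theorem wc837 : allBelow (fun k => fw (Nat.add 10881 k)) 13 = true := by decide +kernel
theorem wu837 : ∀ i, i < 10894 → fw i = true := below_step fw 10881 13 10894 wu836 wc837 rfl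
theorem wc838 : allBelow (fun k => fw (Nat.add 10894 k)) 13 = true := by decide +kernel
theorem wu838 : ∀ i, i < 10907 → fw i = true := below_step fw 10894 13 10907 wu837 wc838 rfl
theorem wc839 : allBelow (fun k => fw (Nat.add 10907 k)) 13 = true := by decide +kernel
theorem wu839 : ∀ i, i < 10920 → fw i = true := below_step fw 10907 13 10920 wu838 wc839 rfl
theorem wc840 : allBelow (fun k => fw (Nat.add 10920 k)) 13 = true := by decide +kernel
theorem wu840 : ∀ i, i < 10933 → fw i = true := below_step fw 10920 13 10933 wu839 wc840 rfl
theorem wc841 : allBelow (fun k => fw (Nat.add 10933 k)) 13 = true := by decide +kernel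
theorem wu841 : ∀ i, i < 10946 → fw i = true := below_step fw 10933 13 10946 wu840 wc841 rfl
theorem wc842 : allBelow (fun k => fw (Nat.add 10946 k)) 13 = true := by decide +kernel
theorem wu842 : ∀ i, i < 10959 → fw i = true := below_step fw 10946 13 10959 wu841 wc842 rfl
theorem wc843 : allBelow (fun k => fw (Nat.add 10959 k)) 13 = true := by decide +kernel
theorem wu843 : ∀ i, i < 10972 → fw i = true := below_step fw 10959 13 10972 wu842 wc843 rfl
theorem wc844 : allBelow (fun k => fw (Nat.add 10972 k)) 13 = true := by decide +kernel
theorem wu844 : ∀ i, i < 10985 → fw i = true := below_step fw 10972 13 10985 wu843 wc844 rfl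
theorem wc845 : allBelow (fun k => fw (Nat.add 10985 k)) 13 = true := by decide +kernel
theorem wu845 : ∀ i, i < 10998 → fw i = true := below_step fw 10985 13 10998 wu844 wc845 rfl
theorem wc846 : allBelow (fun k => fw (Nat.add 10998 k)) 13 = true := by decide +kernel
theorem wu846 : ∀ i, i < 11011 → fw i = true := below_step fw 10998 13 11011 wu845 wc846 rfl
theorem wc847 : allBelow (fun k => fw (Nat.add 11011 k)) 13 = true := by decide +kernel
theorem wu847 : ∀ i, i < 11024 → fw i = true := below_step fw 11011 13 11024 wu846 wc847 rfl
theorem wc848 : allBelow (fun k => fw (Nat.add 11024 k)) 13 = true := by decide +kernel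
theorem wu848 : ∀ i, i < 11037 → fw i = true := below_step fw 11024 13 11037 wu847 wc848 rfl
theorem wc849 : allBelow (fun k => fw (Nat.add 11037 k)) 13 = true := by decide +kernel
theorem wu849 : ∀ i, i < 11050 → fw i = true := below_step fw 11037 13 11050 wu848 wc849 rfl
theorem wc850 : allBelow (fun k => fw (Nat.add 11050 k)) 13 = true := by decide +kernel
theorem wu850 : ∀ i, i < 11063 → fw i = true := below_step fw 11050 13 11063 wu849 wc850 rfl
theorem wc851 : allBelow (fun k => fw (Nat.add 11063 k)) 13 = true := by decide +kernel
theorem wu851 : ∀ i, i < 11076 → fw i = true := below_step fw 11063 13 11076 wu850 wc851 rfl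
theorem wc852 : allBelow (fun k => fw (Nat.add 11076 k)) 13 = true := by decide +kernel
theorem wu852 : ∀ i, i < 11089 → fw i = true := below_step fw 11076 13 11089 wu851 wc852 rfl
theorem wc853 : allBelow (fun k => fw (Nat.add 11089 k)) 13 = true := by decide +kernel
theorem wu853 : ∀ i, i < 11102 → fw i = true := below_step fw 11089 13 11102 wu852 wc853 rfl
theorem wc854 : allBelow (fun k => fw (Nat.add 11102 k)) 13 = true := by decide +kernel
theorem wu854 : ∀ i, i < 11115 → fw i = true := below_step fw 11102 13 11115 wu853 wc854 rfl
theorem wc855 : allBelow (fun k => fw (Nat.add 11115 k)) 13 = true := by decide +kernel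
theorem wu855 : ∀ i, i < 11128 → fw i = true := below_step fw 11115 13 11128 wu854 wc855 rfl
theorem wc856 : allBelow (fun k => fw (Nat.add 11128 k)) 13 = true := by decide +kernel
theorem wu856 : ∀ i, i < 11141 → fw i = true := below_step fw 11128 13 11141 wu855 wc856 rfl
theorem wc857 : allBelow (fun k => fw (Nat.add 11141 k)) 13 = true := by decide +kernel
theorem wu857 : ∀ i, i < 11154 → fw i = true := below_step fw 11141 13 11154 wu856 wc857 rfl
theorem wc858 : allBelow (fun k => fw (Nat.add 11154 k)) 13 = true := by decide +kernel
theorem wu858 : ∀ i, i < 11167 → fw i = true := below_step fw 11154 13 11167 wu857 wc858 rfl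
theorem wc859 : allBelow (fun k => fw (Nat.add 11167 k)) 13 = true := by decide +kernel
theorem wu859 : ∀ i, i < 11180 → fw i = true := below_step fw 11167 13 11180 wu858 wc859 rfl
theorem wc860 : allBelow (fun k => fw (Nat.add 11180 k)) 13 = true := by decide +kernel
theorem wu860 : ∀ i, i < 11193 → fw i = true := below_step fw 11180 13 11193 wu859 wc860 rfl
theorem wc861 : allBelow (fun k => fw (Nat.add 11193 k)) 13 = true := by decide +kernel
theorem wu861 : ∀ i, i < 11206 → fw i = true := below_step fw 11193 13 11206 wu860 wc861 rfl
theorem wc862 : allBelow (fun k => fw (Nat.add 11206 k)) 13 = true := by decide +kernel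
theorem wu862 : ∀ i, i < 11219 → fw i = true := below_step fw 11206 13 11219 wu861 wc862 rfl
theorem wc863 : allBelow (fun k => fw (Nat.add 11219 k)) 13 = true := by decide +kernel
theorem wu863 : ∀ i, i < 11232 → fw i = true := below_step fw 11219 13 11232 wu862 wc863 rfl
theorem wc864 : allBelow (fun k => fw (Nat.add 11232 k)) 13 = true := by decide +kernel
theorem wu864 : ∀ i, i < 11245 → fw i = true := below_step fw 11232 13 11245 wu863 wc864 rfl
theorem wc865 : allBelow (fun k => fw (Nat.add 11245 k)) 13 = true := by decide +kernel
theorem wu865 : ∀ i, i < 11258 → fw i = true := below_step fw 11245 13 11258 wu864 wc865 rfl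
theorem wc866 : allBelow (fun k => fw (Nat.add 11258 k)) 13 = true := by decide +kernel
theorem wu866 : ∀ i, i < 11271 → fw i = true := below_step fw 11258 13 11271 wu865 wc866 rfl
theorem wc867 : allBelow (fun k => fw (Nat.add 11271 k)) 13 = true := by decide +kernel
theorem wu867 : ∀ i, i < 11284 → fw i = true := below_step fw 11271 13 11284 wu866 wc867 rfl
theorem wc868 : allBelow (fun k => fw (Nat.add 11284 k)) 13 = true := by decide +kernel
theorem wu868 : ∀ i, i < 11297 → fw i = true := below_step fw 11284 13 11297 wu867 wc868 rfl
theorem wc869 : allBelow (fun k => fw (Nat.add 11297 k)) 13 = true := by decide +kernel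
theorem wu869 : ∀ i, i < 11310 → fw i = true := below_step fw 11297 13 11310 wu868 wc869 rfl
theorem wc870 : allBelow (fun k => fw (Nat.add 11310 k)) 13 = true := by decide +kernel
theorem wu870 : ∀ i, i < 11323 → fw i = true := below_step fw 11310 13 11323 wu869 wc870 rfl
theorem wc871 : allBelow (fun k => fw (Nat.add 11323 k)) 13 = true := by decide +kernel
theorem wu871 : ∀ i, i < 11336 → fw i = true := below_step fw 11323 13 11336 wu870 wc871 rfl
theorem wc872 : allBelow (fun k => fw (Nat.add 11336 k)) 13 = true := by decide +kernel
theorem wu872 : ∀ i, i < 11349 → fw i = true := below_step fw 11336 13 11349 wu871 wc872 rfl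
theorem wc873 : allBelow (fun k => fw (Nat.add 11349 k)) 13 = true := by decide +kernel
theorem wu873 : ∀ i, i < 11362 → fw i = true := below_step fw 11349 13 11362 wu872 wc873 rfl
theorem wc874 : allBelow (fun k => fw (Nat.add 11362 k)) 13 = true := by decide +kernel
theorem wu874 : ∀ i, i < 11375 → fw i = true := below_step fw 11362 13 11375 wu873 wc874 rfl
theorem wc875 : allBelow (fun k => fw (Nat.add 11375 k)) 13 = true := by decide +kernel
theorem wu875 : ∀ i, i < 11388 → fw i = true := below_step fw 11375 13 11388 wu874 wc875 rfl
theorem wc876 : allBelow (fun k => fw (Nat.add 11388 k)) 13 = true := by decide +kernel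
theorem wu876 : ∀ i, i < 11401 → fw i = true := below_step fw 11388 13 11401 wu875 wc876 rfl
theorem wc877 : allBelow (fun k => fw (Nat.add 11401 k)) 13 = true := by decide +kernel
theorem wu877 : ∀ i, i < 11414 → fw i = true := below_step fw 11401 13 11414 wu876 wc877 rfl
theorem wc878 : allBelow (fun k => fw (Nat.add 11414 k)) 13 = true := by decide +kernel
theorem wu878 : ∀ i, i < 11427 → fw i = true := below_step fw 11414 13 11427 wu877 wc878 rfl
theorem wc879 : allBelow (fun k => fw (Nat.add 11427 k)) 13 = true := by decide +kernel
theorem wu879 : ∀ i, i < 11440 → fw i = true := below_step fw 11427 13 11440 wu878 wc879 rfl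
theorem wc880 : allBelow (fun k => fw (Nat.add 11440 k)) 13 = true := by decide +kernel
theorem wu880 : ∀ i, i < 11453 → fw i = true := below_step fw 11440 13 11453 wu879 wc880 rfl
theorem wc881 : allBelow (fun k => fw (Nat.add 11453 k)) 13 = true := by decide +kernel
theorem wu881 : ∀ i, i < 11466 → fw i = true := below_step fw 11453 13 11466 wu880 wc881 rfl
theorem wc882 : allBelow (fun k => fw (Nat.add 11466 k)) 13 = true := by decide +kernel
theorem wu882 : ∀ i, i < 11479 → fw i = true := below_step fw 11466 13 11479 wu881 wc882 rfl
theorem wc883 : allBelow (fun k => fw (Nat.add 11479 k)) 13 = true := by decide +kernel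
theorem wu883 : ∀ i, i < 11492 → fw i = true := below_step fw 11479 13 11492 wu882 wc883 rfl
theorem wc884 : allBelow (fun k => fw (Nat.add 11492 k)) 13 = true := by decide +kernel
theorem wu884 : ∀ i, i < 11505 → fw i = true := below_step fw 11492 13 11505 wu883 wc884 rfl
theorem wc885 : allBelow (fun k => fw (Nat.add 11505 k)) 13 = true := by decide +kernel
theorem wu885 : ∀ i, i < 11518 → fw i = true := below_step fw 11505 13 11518 wu884 wc885 rfl
theorem wc886 : allBelow (fun k => fw (Nat.add 11518 k)) 13 = true := by decide +kernel
theorem wu886 : ∀ i, i < 11531 → fw i = true := below_step fw 11518 13 11531 wu885 wc886 rfl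
theorem wc887 : allBelow (fun k => fw (Nat.add 11531 k)) 13 = true := by decide +kernel
theorem wu887 : ∀ i, i < 11544 → fw i = true := below_step fw 11531 13 11544 wu886 wc887 rfl
theorem wc888 : allBelow (fun k => fw (Nat.add 11544 k)) 13 = true := by decide +kernel
theorem wu888 : ∀ i, i < 11557 → fw i = true := below_step fw 11544 13 11557 wu887 wc888 rfl
theorem wc889 : allBelow (fun k => fw (Nat.add 11557 k)) 13 = true := by decide +kernel
theorem wu889 : ∀ i, i < 11570 → fw i = true := below_step fw 11557 13 11570 wu888 wc889 rfl
theorem wc890 : allBelow (fun k => fw (Nat.add 11570 k)) 13 = true := by decide +kernel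
theorem wu890 : ∀ i, i < 11583 → fw i = true := below_step fw 11570 13 11583 wu889 wc890 rfl
theorem wc891 : allBelow (fun k => fw (Nat.add 11583 k)) 13 = true := by decide +kernel
theorem wu891 : ∀ i, i < 11596 → fw i = true := below_step fw 11583 13 11596 wu890 wc891 rfl
theorem wc892 : allBelow (fun k => fw (Nat.add 11596 k)) 13 = true := by decide +kernel
theorem wu892 : ∀ i, i < 11609 → fw i = true := below_step fw 11596 13 11609 wu891 wc892 rfl
theorem wc893 : allBelow (fun k => fw (Nat.add 11609 k)) 13 = true := by decide +kernel
theorem wu893 : ∀ i, i < 11622 → fw i = true := below_step fw 11609 13 11622 wu892 wc893 rfl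
theorem wc894 : allBelow (fun k => fw (Nat.add 11622 k)) 13 = true := by decide +kernel
theorem wu894 : ∀ i, i < 11635 → fw i = true := below_step fw 11622 13 11635 wu893 wc894 rfl
theorem wc895 : allBelow (fun k => fw (Nat.add 11635 k)) 13 = true := by decide +kernel
theorem wu895 : ∀ i, i < 11648 → fw i = true := below_step fw 11635 13 11648 wu894 wc895 rfl
theorem wc896 : allBelow (fun k => fw (Nat.add 11648 k)) 13 = true := by decide +kernel
theorem wu896 : ∀ i, i < 11661 → fw i = true := below_step fw 11648 13 11661 wu895 wc896 rfl
theorem wc897 : allBelow (fun k => fw (Nat.add 11661 k)) 13 = true := by decide +kernel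
theorem wu897 : ∀ i, i < 11674 → fw i = true := below_step fw 11661 13 11674 wu896 wc897 rfl
theorem wc898 : allBelow (fun k => fw (Nat.add 11674 k)) 13 = true := by decide +kernel
theorem wu898 : ∀ i, i < 11687 → fw i = true := below_step fw 11674 13 11687 wu897 wc898 rfl
theorem wc899 : allBelow (fun k => fw (Nat.add 11687 k)) 13 = true := by decide +kernel
theorem wu899 : ∀ i, i < 11700 → fw i = true := below_step fw 11687 13 11700 wu898 wc899 rfl
theorem wc900 : allBelow (fun k => fw (Nat.add 11700 k)) 13 = true := by decide +kernel
theorem wu900 : ∀ i, i < 11713 → fw i = true := below_step fw 11700 13 11713 wu899 wc900 rfl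
theorem wc901 : allBelow (fun k => fw (Nat.add 11713 k)) 13 = true := by decide +kernel
theorem wu901 : ∀ i, i < 11726 → fw i = true := below_step fw 11713 13 11726 wu900 wc901 rfl
theorem wc902 : allBelow (fun k => fw (Nat.add 11726 k)) 13 = true := by decide +kernel
theorem wu902 : ∀ i, i < 11739 → fw i = true := below_step fw 11726 13 11739 wu901 wc902 rfl
theorem wc903 : allBelow (fun k => fw (Nat.add 11739 k)) 13 = true := by decide +kernel
theorem wu903 : ∀ i, i < 11752 → fw i = true := below_step fw 11739 13 11752 wu902 wc903 rfl
theorem wc904 : allBelow (fun k => fw (Nat.add 11752 k)) 13 = true := by decide +kernel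
theorem wu904 : ∀ i, i < 11765 → fw i = true := below_step fw 11752 13 11765 wu903 wc904 rfl
theorem wc905 : allBelow (fun k => fw (Nat.add 11765 k)) 13 = true := by decide +kernel
theorem wu905 : ∀ i, i < 11778 → fw i = true := below_step fw 11765 13 11778 wu904 wc905 rfl
theorem wc906 : allBelow (fun k => fw (Nat.add 11778 k)) 13 = true := by decide +kernel
theorem wu906 : ∀ i, i < 11791 → fw i = true := below_step fw 11778 13 11791 wu905 wc906 rfl
theorem wc907 : allBelow (fun k => fw (Nat.add 11791 k)) 13 = true := by decide +kernel
theorem wu907 : ∀ i, i < 11804 → fw i = true := below_step fw 11791 13 11804 wu906 wc907 rfl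
theorem wc908 : allBelow (fun k => fw (Nat.add 11804 k)) 13 = true := by decide +kernel
theorem wu908 : ∀ i, i < 11817 → fw i = true := below_step fw 11804 13 11817 wu907 wc908 rfl
theorem wc909 : allBelow (fun k => fw (Nat.add 11817 k)) 13 = true := by decide +kernel
theorem wu909 : ∀ i, i < 11830 → fw i = true := below_step fw 11817 13 11830 wu908 wc909 rfl
theorem wc910 : allBelow (fun k => fw (Nat.add 11830 k)) 13 = true := by decide +kernel
theorem wu910 : ∀ i, i < 11843 → fw i = true := below_step fw 11830 13 11843 wu909 wc910 rfl
theorem wc911 : allBelow (fun k => fw (Nat.add 11843 k)) 13 = true := by decide +kernel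
theorem wu911 : ∀ i, i < 11856 → fw i = true := below_step fw 11843 13 11856 wu910 wc911 rfl
theorem wc912 : allBelow (fun k => fw (Nat.add 11856 k)) 13 = true := by decide +kernel
theorem wu912 : ∀ i, i < 11869 → fw i = true := below_step fw 11856 13 11869 wu911 wc912 rfl
theorem wc913 : allBelow (fun k => fw (Nat.add 11869 k)) 13 = true := by decide +kernel
theorem wu913 : ∀ i, i < 11882 → fw i = true := below_step fw 11869 13 11882 wu912 wc913 rfl
theorem wc914 : allBelow (fun k => fw (Nat.add 11882 k)) 13 = true := by decide +kernel
theorem wu914 : ∀ i, i < 11895 → fw i = true := below_step fw 11882 13 11895 wu913 wc914 rfl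
theorem wc915 : allBelow (fun k => fw (Nat.add 11895 k)) 13 = true := by decide +kernel
theorem wu915 : ∀ i, i < 11908 → fw i = true := below_step fw 11895 13 11908 wu914 wc915 rfl
theorem wc916 : allBelow (fun k => fw (Nat.add 11908 k)) 13 = true := by decide +kernel
theorem wu916 : ∀ i, i < 11921 → fw i = true := below_step fw 11908 13 11921 wu915 wc916 rfl
theorem wc917 : allBelow (fun k => fw (Nat.add 11921 k)) 13 = true := by decide +kernel
theorem wu917 : ∀ i, i < 11934 → fw i = true := below_step fw 11921 13 11934 wu916 wc917 rfl
theorem wc918 : allBelow (fun k => fw (Nat.add 11934 k)) 13 = true := by decide +kernel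
theorem wu918 : ∀ i, i < 11947 → fw i = true := below_step fw 11934 13 11947 wu917 wc918 rfl

end Cfsg.Agent.Lib.Helper35.Fi23Ord.X0
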