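import Cfsg.Agent.Lib.Helper35.Fi23Ord.X0.Chk5

set_option Elab.async false

namespace Cfsg.Agent.Lib.Helper35.Fi23Ord.X0

open Cfsg.Agent.Lib.Helper35

theorem wc919 : allBelow (fun k => fw (Nat.add 11947 k)) 13 = true := by decide +kernel
theorem wu919 : ∀ i, i < 11960 → fw i = true := below_step fw 11947 13 11960 wu918 wc919 rfl
theorem wc920 : allBelow (fun k => fw (Nat.add 11960 k)) 13 = true := by decide +kernel
theorem wu920 : ∀ i, i < 11973 → fw i = true := below_step fw 11960 13 11973 wu919 wc920 rfl
theorem wc921 : allBelow (fun k => fw (Nat.add 11973 k)) 13 = true := by decide +kernel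
theorem wu921 : ∀ i, i < 11986 → fw i = true := below_step fw 11973 13 11986 wu920 wc921 rfl
theorem wc922 : allBelow (fun k => fw (Nat.add 11986 k)) 13 = true := by decide +kernel
theorem wu922 : ∀ i, i < 11999 → fw i = true := below_step fw 11986 13 11999 wu921 wc922 rfl
theorem wc923 : allBelow (fun k => fw (Nat.add 11999 k)) 13 = true := by decide +kernel
theorem wu923 : ∀ i, i < 12012 → fw i = true := below_step fw 11999 13 12012 wu922 wc923 rfl
theorem wc924 : allBelow (fun k => fw (Nat.add 12012 k)) 13 = true := by decide +kernel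
theorem wu924 : ∀ i, i < 12025 → fw i = true := below_step fw 12012 13 12025 wu923 wc924 rfl
theorem wc925 : allBelow (fun k => fw (Nat.add 12025 k)) 13 = true := by decide +kernel
theorem wu925 : ∀ i, i < 12038 → fw i = true := below_step fw 12025 13 12038 wu924 wc925 rfl
theorem wc926 : allBelow (fun k => fw (Nat.add 12038 k)) 13 = true := by decide +kernel
theorem wu926 : ∀ i, i < 12051 → fw i = true := below_step fw 12038 13 12051 wu925 wc926 rfl
theorem wc927 : allBelow (fun k => fw (Nat.add 12051 k)) 13 = true := by decide +kernel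
theorem wu927 : ∀ i, i < 12064 → fw i = true := below_step fw 12051 13 12064 wu926 wc927 rfl
theorem wc928 : allBelow (fun k => fw (Nat.add 12064 k)) 13 = true := by decide +kernel
theorem wu928 : ∀ i, i < 12077 → fw i = true := below_step fw 12064 13 12077 wu927 wc928 rfl
theorem wc929 : allBelow (fun k => fw (Nat.add 12077 k)) 13 = true := by decide +kernel
theorem wu929 : ∀ i, i < 12090 → fw i = true := below_step fw 12077 13 12090 wu928 wc929 rfl
theorem wc930 : allBelow (fun k => fw (Nat.add 12090 k)) 13 = true := by decide +kernel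
theorem wu930 : ∀ i, i < 12103 → fw i = true := below_step fw 12090 13 12103 wu929 wc930 rfl
theorem wc931 : allBelow (fun k => fw (Nat.add 12103 k)) 13 = true := by decide +kernel
theorem wu931 : ∀ i, i < 12116 → fw i = true := below_step fw 12103 13 12116 wu930 wc931 rfl
theorem wc932 : allBelow (fun k => fw (Nat.add 12116 k)) 13 = true := by decide +kernel
theorem wu932 : ∀ i, i < 12129 → fw i = true := below_step fw 12116 13 12129 wu931 wc932 rfl
theorem wc933 : allBelow (fun k => fw (Nat.add 12129 k)) 13 = true := by decide +kernel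
theorem wu933 : ∀ i, i < 12142 → fw i = true := below_step fw 12129 13 12142 wu932 wc933 rfl
theorem wc934 : allBelow (fun k => fw (Nat.add 12142 k)) 13 = true := by decide +kernel
theorem wu934 : ∀ i, i < 12155 → fw i = true := below_step fw 12142 13 12155 wu933 wc934 rfl
theorem wc935 : allBelow (fun k => fw (Nat.add 12155 k)) 13 = true := by decide +kernel
theorem wu935 : ∀ i, i < 12168 → fw i = true := below_step fw 12155 13 12168 wu934 wc935 rfl
theorem wc936 : allBelow (fun k => fw (Nat.add 12168 k)) 13 = true := by decide +kernel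
theorem wu936 : ∀ i, i < 12181 → fw i = true := below_step fw 12168 13 12181 wu935 wc936 rfl
theorem wc937 : allBelow (fun k => fw (Nat.add 12181 k)) 13 = true := by decide +kernel
theorem wu937 : ∀ i, i < 12194 → fw i = true := below_step fw 12181 13 12194 wu936 wc937 rfl
theorem wc938 : allBelow (fun k => fw (Nat.add 12194 k)) 13 = true := by decide +kernel
theorem wu938 : ∀ i, i < 12207 → fw i = true := below_step fw 12194 13 12207 wu937 wc938 rfl
theorem wc939 : allBelow (fun k => fw (Nat.add 12207 k)) 13 = true := by decide +kernel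
theorem wu939 : ∀ i, i < 12220 → fw i = true := below_step fw 12207 13 12220 wu938 wc939 rfl
theorem wc940 : allBelow (fun k => fw (Nat.add 12220 k)) 13 = true := by decide +kernel
theorem wu940 : ∀ i, i < 12233 → fw i = true := below_step fw 12220 13 12233 wu939 wc940 rfl
theorem wc941 : allBelow (fun k => fw (Nat.add 12233 k)) 13 = true := by decide +kernel
theorem wu941 : ∀ i, i < 12246 → fw i = true := below_step fw 12233 13 12246 wu940 wc941 rfl
theorem wc942 : allBelow (fun k => fw (Nat.add 12246 k)) 13 = true := by decide +kernel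
theorem wu942 : ∀ i, i < 12259 → fw i = true := below_step fw 12246 13 12259 wu941 wc942 rfl
theorem wc943 : allBelow (fun k => fw (Nat.add 12259 k)) 13 = true := by decide +kernel
theorem wu943 : ∀ i, i < 12272 → fw i = true := below_step fw 12259 13 12272 wu942 wc943 rfl
theorem wc944 : allBelow (fun k => fw (Nat.add 12272 k)) 13 = true := by decide +kernel
theorem wu944 : ∀ i, i < 12285 → fw i = true := below_step fw 12272 13 12285 wu943 wc944 rfl
theorem wc945 : allBelow (fun k => fw (Nat.add 12285 k)) 13 = true := by decide +kernel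
theorem wu945 : ∀ i, i < 12298 → fw i = true := below_step fw 12285 13 12298 wu944 wc945 rfl
theorem wc946 : allBelow (fun k => fw (Nat.add 12298 k)) 13 = true := by decide +kernel
theorem wu946 : ∀ i, i < 12311 → fw i = true := below_step fw 12298 13 12311 wu945 wc946 rfl
theorem wc947 : allBelow (fun k => fw (Nat.add 12311 k)) 13 = true := by decide +kernel
theorem wu947 : ∀ i, i < 12324 → fw i = true := below_step fw 12311 13 12324 wu946 wc947 rfl
theorem wc948 : allBelow (fun k => fw (Nat.add 12324 k)) 13 = true := by decide +kernel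
theorem wu948 : ∀ i, i < 12337 → fw i = true := below_step fw 12324 13 12337 wu947 wc948 rfl
theorem wc949 : allBelow (fun k => fw (Nat.add 12337 k)) 13 = true := by decide +kernel
theorem wu949 : ∀ i, i < 12350 → fw i = true := below_step fw 12337 13 12350 wu948 wc949 rfl
theorem wc950 : allBelow (fun k => fw (Nat.add 12350 k)) 13 = true := by decide +kernel
theorem wu950 : ∀ i, i < 12363 → fw i = true := below_step fw 12350 13 12363 wu949 wc950 rfl
theorem wc951 : allBelow (fun k => fw (Nat.add 12363 k)) 13 = true := by decide +kernel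
theorem wu951 : ∀ i, i < 12376 → fw i = true := below_step fw 12363 13 12376 wu950 wc951 rfl
theorem wc952 : allBelow (fun k => fw (Nat.add 12376 k)) 13 = true := by decide +kernel
theorem wu952 : ∀ i, i < 12389 → fw i = true := below_step fw 12376 13 12389 wu951 wc952 rfl
theorem wc953 : allBelow (fun k => fw (Nat.add 12389 k)) 13 = true := by decide +kernel
theorem wu953 : ∀ i, i < 12402 → fw i = true := below_step fw 12389 13 12402 wu952 wc953 rfl
theorem wc954 : allBelow (fun k => fw (Nat.add 12402 k)) 13 = true := by decide +kernel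
theorem wu954 : ∀ i, i < 12415 → fw i = true := below_step fw 12402 13 12415 wu953 wc954 rfl
theorem wc955 : allBelow (fun k => fw (Nat.add 12415 k)) 13 = true := by decide +kernel
theorem wu955 : ∀ i, i < 12428 → fw i = true := below_step fw 12415 13 12428 wu954 wc955 rfl
theorem wc956 : allBelow (fun k => fw (Nat.add 12428 k)) 13 = true := by decide +kernel
theorem wu956 : ∀ i, i < 12441 → fw i = true := below_step fw 12428 13 12441 wu955 wc956 rfl
theorem wc957 : allBelow (fun k => fw (Nat.add 12441 k)) 13 = true := by decide +kernel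
theorem wu957 : ∀ i, i < 12454 → fw i = true := below_step fw 12441 13 12454 wu956 wc957 rfl
theorem wc958 : allBelow (fun k => fw (Nat.add 12454 k)) 13 = true := by decide +kernel
theorem wu958 : ∀ i, i < 12467 → fw i = true := below_step fw 12454 13 12467 wu957 wc958 rfl
theorem wc959 : allBelow (fun k => fw (Nat.add 12467 k)) 13 = true := by decide +kernel
theorem wu959 : ∀ i, i < 12480 → fw i = true := below_step fw 12467 13 12480 wu958 wc959 rfl
theorem wc960 : allBelow (fun k => fw (Nat.add 12480 k)) 13 = true := by decide +kernel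
theorem wu960 : ∀ i, i < 12493 → fw i = true := below_step fw 12480 13 12493 wu959 wc960 rfl
theorem wc961 : allBelow (fun k => fw (Nat.add 12493 k)) 13 = true := by decide +kernel
theorem wu961 : ∀ i, i < 12506 → fw i = true := below_step fw 12493 13 12506 wu960 wc961 rfl
theorem wc962 : allBelow (fun k => fw (Nat.add 12506 k)) 13 = true := by decide +kernel
theorem wu962 : ∀ i, i < 12519 → fw i = true := below_step fw 12506 13 12519 wu961 wc962 rfl
theorem wc963 : allBelow (fun k => fw (Nat.add 12519 k)) 13 = true := by decide +kernel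
theorem wu963 : ∀ i, i < 12532 → fw i = true := below_step fw 12519 13 12532 wu962 wc963 rfl
theorem wc964 : allBelow (fun k => fw (Nat.add 12532 k)) 13 = true := by decide +kernel
theorem wu964 : ∀ i, i < 12545 → fw i = true := below_step fw 12532 13 12545 wu963 wc964 rfl
theorem wc965 : allBelow (fun k => fw (Nat.add 12545 k)) 13 = true := by decide +kernel
theorem wu965 : ∀ i, i < 12558 → fw i = true := below_step fw 12545 13 12558 wu964 wc965 rfl
theorem wc966 : allBelow (fun k => fw (Nat.add 12558 k)) 13 = true := by decide +kernel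
theorem wu966 : ∀ i, i < 12571 → fw i = true := below_step fw 12558 13 12571 wu965 wc966 rfl
theorem wc967 : allBelow (fun k => fw (Nat.add 12571 k)) 13 = true := by decide +kernel
theorem wu967 : ∀ i, i < 12584 → fw i = true := below_step fw 12571 13 12584 wu966 wc967 rfl
theorem wc968 : allBelow (fun k => fw (Nat.add 12584 k)) 13 = true := by decide +kernel
theorem wu968 : ∀ i, i < 12597 → fw i = true := below_step fw 12584 13 12597 wu967 wc968 rfl
theorem wc969 : allBelow (fun k => fw (Nat.add 12597 k)) 13 = true := by decide +kernel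
theorem wu969 : ∀ i, i < 12610 → fw i = true := below_step fw 12597 13 12610 wu968 wc969 rfl
theorem wc970 : allBelow (fun k => fw (Nat.add 12610 k)) 13 = true := by decide +kernel
theorem wu970 : ∀ i, i < 12623 → fw i = true := below_step fw 12610 13 12623 wu969 wc970 rfl
theorem wc971 : allBelow (fun k => fw (Nat.add 12623 k)) 13 = true := by decide +kernel
theorem wu971 : ∀ i, i < 12636 → fw i = true := below_step fw 12623 13 12636 wu970 wc971 rfl
theorem wc972 : allBelow (fun k => fw (Nat.add 12636 k)) 13 = true := by decide +kernel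
theorem wu972 : ∀ i, i < 12649 → fw i = true := below_step fw 12636 13 12649 wu971 wc972 rfl
theorem wc973 : allBelow (fun k => fw (Nat.add 12649 k)) 13 = true := by decide +kernel
theorem wu973 : ∀ i, i < 12662 → fw i = true := below_step fw 12649 13 12662 wu972 wc973 rfl
theorem wc974 : allBelow (fun k => fw (Nat.add 12662 k)) 13 = true := by decide +kernel
theorem wu974 : ∀ i, i < 12675 → fw i = true := below_step fw 12662 13 12675 wu973 wc974 rfl
theorem wc975 : allBelow (fun k => fw (Nat.add 12675 k)) 13 = true := by decide +kernel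
theorem wu975 : ∀ i, i < 12688 → fw i = true := below_step fw 12675 13 12688 wu974 wc975 rfl
theorem wc976 : allBelow (fun k => fw (Nat.add 12688 k)) 13 = true := by decide +kernel
theorem wu976 : ∀ i, i < 12701 → fw i = true := below_step fw 12688 13 12701 wu975 wc976 rfl
theorem wc977 : allBelow (fun k => fw (Nat.add 12701 k)) 13 = true := by decide +kernel
theorem wu977 : ∀ i, i < 12714 → fw i = true := below_step fw 12701 13 12714 wu976 wc977 rfl
theorem wc978 : allBelow (fun k => fw (Nat.add 12714 k)) 13 = true := by decide +kernel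
theorem wu978 : ∀ i, i < 12727 → fw i = true := below_step fw 12714 13 12727 wu977 wc978 rfl
theorem wc979 : allBelow (fun k => fw (Nat.add 12727 k)) 13 = true := by decide +kernel
theorem wu979 : ∀ i, i < 12740 → fw i = true := below_step fw 12727 13 12740 wu978 wc979 rfl
theorem wc980 : allBelow (fun k => fw (Nat.add 12740 k)) 13 = true := by decide +kernel
theorem wu980 : ∀ i, i < 12753 → fw i = true := below_step fw 12740 13 12753 wu979 wc980 rfl
theorem wc981 : allBelow (fun k => fw (Nat.add 12753 k)) 13 = true := by decide +kernel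
theorem wu981 : ∀ i, i < 12766 → fw i = true := below_step fw 12753 13 12766 wu980 wc981 rfl
theorem wc982 : allBelow (fun k => fw (Nat.add 12766 k)) 13 = true := by decide +kernel
theorem wu982 : ∀ i, i < 12779 → fw i = true := below_step fw 12766 13 12779 wu981 wc982 rfl
theorem wc983 : allBelow (fun k => fw (Nat.add 12779 k)) 13 = true := by decide +kernel
theorem wu983 : ∀ i, i < 12792 → fw i = true := below_step fw 12779 13 12792 wu982 wc983 rfl
theorem wc984 : allBelow (fun k => fw (Nat.add 12792 k)) 13 = true := by decide +kernel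
theorem wu984 : ∀ i, i < 12805 → fw i = true := below_step fw 12792 13 12805 wu983 wc984 rfl
theorem wc985 : allBelow (fun k => fw (Nat.add 12805 k)) 13 = true := by decide +kernel
theorem wu985 : ∀ i, i < 12818 → fw i = true := below_step fw 12805 13 12818 wu984 wc985 rfl
theorem wc986 : allBelow (fun k => fw (Nat.add 12818 k)) 13 = true := by decide +kernel
theorem wu986 : ∀ i, i < 12831 → fw i = true := below_step fw 12818 13 12831 wu985 wc986 rfl
theorem wc987 : allBelow (fun k => fw (Nat.add 12831 k)) 13 = true := by decide +kernel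
theorem wu987 : ∀ i, i < 12844 → fw i = true := below_step fw 12831 13 12844 wu986 wc987 rfl
theorem wc988 : allBelow (fun k => fw (Nat.add 12844 k)) 13 = true := by decide +kernel
theorem wu988 : ∀ i, i < 12857 → fw i = true := below_step fw 12844 13 12857 wu987 wc988 rfl
theorem wc989 : allBelow (fun k => fw (Nat.add 12857 k)) 13 = true := by decide +kernel
theorem wu989 : ∀ i, i < 12870 → fw i = true := below_step fw 12857 13 12870 wu988 wc989 rfl
theorem wc990 : allBelow (fun k => fw (Nat.add 12870 k)) 13 = true := by decide +kernel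
theorem wu990 : ∀ i, i < 12883 → fw i = true := below_step fw 12870 13 12883 wu989 wc990 rfl
theorem wc991 : allBelow (fun k => fw (Nat.add 12883 k)) 13 = true := by decide +kernel
theorem wu991 : ∀ i, i < 12896 → fw i = true := below_step fw 12883 13 12896 wu990 wc991 rfl
theorem wc992 : allBelow (fun k => fw (Nat.add 12896 k)) 13 = true := by decide +kernel
theorem wu992 : ∀ i, i < 12909 → fw i = true := below_step fw 12896 13 12909 wu991 wc992 rfl
theorem wc993 : allBelow (fun k => fw (Nat.add 12909 k)) 13 = true := by decide +kernel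
theorem wu993 : ∀ i, i < 12922 → fw i = true := below_step fw 12909 13 12922 wu992 wc993 rfl
theorem wc994 : allBelow (fun k => fw (Nat.add 12922 k)) 13 = true := by decide +kernel
theorem wu994 : ∀ i, i < 12935 → fw i = true := below_step fw 12922 13 12935 wu993 wc994 rfl
theorem wc995 : allBelow (fun k => fw (Nat.add 12935 k)) 13 = true := by decide +kernel
theorem wu995 : ∀ i, i < 12948 → fw i = true := below_step fw 12935 13 12948 wu994 wc995 rfl
theorem wc996 : allBelow (fun k => fw (Nat.add 12948 k)) 13 = true := by decide +kernel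
theorem wu996 : ∀ i, i < 12961 → fw i = true := below_step fw 12948 13 12961 wu995 wc996 rfl
theorem wc997 : allBelow (fun k => fw (Nat.add 12961 k)) 13 = true := by decide +kernel
theorem wu997 : ∀ i, i < 12974 → fw i = true := below_step fw 12961 13 12974 wu996 wc997 rfl
theorem wc998 : allBelow (fun k => fw (Nat.add 12974 k)) 13 = true := by decide +kernel
theorem wu998 : ∀ i, i < 12987 → fw i = true := below_step fw 12974 13 12987 wu997 wc998 rfl
theorem wc999 : allBelow (fun k => fw (Nat.add 12987 k)) 13 = true := by decide +kernel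
theorem wu999 : ∀ i, i < 13000 → fw i = true := below_step fw 12987 13 13000 wu998 wc999 rfl
theorem wc1000 : allBelow (fun k => fw (Nat.add 13000 k)) 13 = true := by decide +kernel
theorem wu1000 : ∀ i, i < 13013 → fw i = true := below_step fw 13000 13 13013 wu999 wc1000 rfl
theorem wc1001 : allBelow (fun k => fw (Nat.add 13013 k)) 13 = true := by decide +kernel
theorem wu1001 : ∀ i, i < 13026 → fw i = true := below_step fw 13013 13 13026 wu1000 wc1001 rfl
theorem wc1002 : allBelow (fun k => fw (Nat.add 13026 k)) 13 = true := by decide +kernel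
theorem wu1002 : ∀ i, i < 13039 → fw i = true := below_step fw 13026 13 13039 wu1001 wc1002 rfl
theorem wc1003 : allBelow (fun k => fw (Nat.add 13039 k)) 13 = true := by decide +kernel
theorem wu1003 : ∀ i, i < 13052 → fw i = true := below_step fw 13039 13 13052 wu1002 wc1003 rfl
theorem wc1004 : allBelow (fun k => fw (Nat.add 13052 k)) 13 = true := by decide +kernel
theorem wu1004 : ∀ i, i < 13065 → fw i = true := below_step fw 13052 13 13065 wu1003 wc1004 rfl
theorem wc1005 : allBelow (fun k => fw (Nat.add 13065 k)) 13 = true := by decide +kernel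
theorem wu1005 : ∀ i, i < 13078 → fw i = true := below_step fw 13065 13 13078 wu1004 wc1005 rfl
theorem wc1006 : allBelow (fun k => fw (Nat.add 13078 k)) 13 = true := by decide +kernel
theorem wu1006 : ∀ i, i < 13091 → fw i = true := below_step fw 13078 13 13091 wu1005 wc1006 rfl
theorem wc1007 : allBelow (fun k => fw (Nat.add 13091 k)) 13 = true := by decide +kernel
theorem wu1007 : ∀ i, i < 13104 → fw i = true := below_step fw 13091 13 13104 wu1006 wc1007 rfl
theorem wc1008 : allBelow (fun k => fw (Nat.add 13104 k)) 13 = true := by decide +kernel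
theorem wu1008 : ∀ i, i < 13117 → fw i = true := below_step fw 13104 13 13117 wu1007 wc1008 rfl
theorem wc1009 : allBelow (fun k => fw (Nat.add 13117 k)) 13 = true := by decide +kernel
theorem wu1009 : ∀ i, i < 13130 → fw i = true := below_step fw 13117 13 13130 wu1008 wc1009 rfl
theorem wc1010 : allBelow (fun k => fw (Nat.add 13130 k)) 13 = true := by decide +kernel
theorem wu1010 : ∀ i, i < 13143 → fw i = true := below_step fw 13130 13 13143 wu1009 wc1010 rfl
theorem wc1011 : allBelow (fun k => fw (Nat.add 13143 k)) 13 = true := by decide +kernel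
theorem wu1011 : ∀ i, i < 13156 → fw i = true := below_step fw 13143 13 13156 wu1010 wc1011 rfl
theorem wc1012 : allBelow (fun k => fw (Nat.add 13156 k)) 13 = true := by decide +kernel
theorem wu1012 : ∀ i, i < 13169 → fw i = true := below_step fw 13156 13 13169 wu1011 wc1012 rfl
theorem wc1013 : allBelow (fun k => fw (Nat.add 13169 k)) 13 = true := by decide +kernel
theorem wu1013 : ∀ i, i < 13182 → fw i = true := below_step fw 13169 13 13182 wu1012 wc1013 rfl
theorem wc1014 : allBelow (fun k => fw (Nat.add 13182 k)) 13 = true := by decide +kernel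
theorem wu1014 : ∀ i, i < 13195 → fw i = true := below_step fw 13182 13 13195 wu1013 wc1014 rfl
theorem wc1015 : allBelow (fun k => fw (Nat.add 13195 k)) 13 = true := by decide +kernel
theorem wu1015 : ∀ i, i < 13208 → fw i = true := below_step fw 13195 13 13208 wu1014 wc1015 rfl
theorem wc1016 : allBelow (fun k => fw (Nat.add 13208 k)) 13 = true := by decide +kernel
theorem wu1016 : ∀ i, i < 13221 → fw i = true := below_step fw 13208 13 13221 wu1015 wc1016 rfl
theorem wc1017 : allBelow (fun k => fw (Nat.add 13221 k)) 13 = true := by decide +kernel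
theorem wu1017 : ∀ i, i < 13234 → fw i = true := below_step fw 13221 13 13234 wu1016 wc1017 rfl
theorem wc1018 : allBelow (fun k => fw (Nat.add 13234 k)) 13 = true := by decide +kernel
theorem wu1018 : ∀ i, i < 13247 → fw i = true := below_step fw 13234 13 13247 wu1017 wc1018 rfl
theorem wc1019 : allBelow (fun k => fw (Nat.add 13247 k)) 13 = true := by decide +kernel
theorem wu1019 : ∀ i, i < 13260 → fw i = true := below_step fw 13247 13 13260 wu1018 wc1019 rfl
theorem wc1020 : allBelow (fun k => fw (Nat.add 13260 k)) 13 = true := by decide +kernel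
theorem wu1020 : ∀ i, i < 13273 → fw i = true := below_step fw 13260 13 13273 wu1019 wc1020 rfl
theorem wc1021 : allBelow (fun k => fw (Nat.add 13273 k)) 13 = true := by decide +kernel
theorem wu1021 : ∀ i, i < 13286 → fw i = true := below_step fw 13273 13 13286 wu1020 wc1021 rfl
theorem wc1022 : allBelow (fun k => fw (Nat.add 13286 k)) 13 = true := by decide +kernel
theorem wu1022 : ∀ i, i < 13299 → fw i = true := below_step fw 13286 13 13299 wu1021 wc1022 rfl
theorem wc1023 : allBelow (fun k => fw (Nat.add 13299 k)) 13 = true := by decide +kernel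
theorem wu1023 : ∀ i, i < 13312 → fw i = true := below_step fw 13299 13 13312 wu1022 wc1023 rfl
theorem wc1024 : allBelow (fun k => fw (Nat.add 13312 k)) 13 = true := by decide +kernel
theorem wu1024 : ∀ i, i < 13325 → fw i = true := below_step fw 13312 13 13325 wu1023 wc1024 rfl
theorem wc1025 : allBelow (fun k => fw (Nat.add 13325 k)) 13 = true := by decide +kernel
theorem wu1025 : ∀ i, i < 13338 → fw i = true := below_step fw 13325 13 13338 wu1024 wc1025 rfl
theorem wc1026 : allBelow (fun k => fw (Nat.add 13338 k)) 13 = true := by decide +kernel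
theorem wu1026 : ∀ i, i < 13351 → fw i = true := below_step fw 13338 13 13351 wu1025 wc1026 rfl
theorem wc1027 : allBelow (fun k => fw (Nat.add 13351 k)) 13 = true := by decide +kernel
theorem wu1027 : ∀ i, i < 13364 → fw i = true := below_step fw 13351 13 13364 wu1026 wc1027 rfl
theorem wc1028 : allBelow (fun k => fw (Nat.add 13364 k)) 13 = true := by decide +kernel
theorem wu1028 : ∀ i, i < 13377 → fw i = true := below_step fw 13364 13 13377 wu1027 wc1028 rfl
theorem wc1029 : allBelow (fun k => fw (Nat.add 13377 k)) 13 = true := by decide +kernel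
theorem wu1029 : ∀ i, i < 13390 → fw i = true := below_step fw 13377 13 13390 wu1028 wc1029 rfl
theorem wc1030 : allBelow (fun k => fw (Nat.add 13390 k)) 13 = true := by decide +kernel
theorem wu1030 : ∀ i, i < 13403 → fw i = true := below_step fw 13390 13 13403 wu1029 wc1030 rfl
theorem wc1031 : allBelow (fun k => fw (Nat.add 13403 k)) 13 = true := by decide +kernel
theorem wu1031 : ∀ i, i < 13416 → fw i = true := below_step fw 13403 13 13416 wu1030 wc1031 rfl
theorem wc1032 : allBelow (fun k => fw (Nat.add 13416 k)) 13 = true := by decide +kernel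
theorem wu1032 : ∀ i, i < 13429 → fw i = true := below_step fw 13416 13 13429 wu1031 wc1032 rfl
theorem wc1033 : allBelow (fun k => fw (Nat.add 13429 k)) 13 = true := by decide +kernel
theorem wu1033 : ∀ i, i < 13442 → fw i = true := below_step fw 13429 13 13442 wu1032 wc1033 rfl
theorem wc1034 : allBelow (fun k => fw (Nat.add 13442 k)) 13 = true := by decide +kernel
theorem wu1034 : ∀ i, i < 13455 → fw i = true := below_step fw 13442 13 13455 wu1033 wc1034 rfl
theorem wc1035 : allBelow (fun k => fw (Nat.add 13455 k)) 13 = true := by decide +kernel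
theorem wu1035 : ∀ i, i < 13468 → fw i = true := below_step fw 13455 13 13468 wu1034 wc1035 rfl
theorem wc1036 : allBelow (fun k => fw (Nat.add 13468 k)) 13 = true := by decide +kernel
theorem wu1036 : ∀ i, i < 13481 → fw i = true := below_step fw 13468 13 13481 wu1035 wc1036 rfl
theorem wc1037 : allBelow (fun k => fw (Nat.add 13481 k)) 13 = true := by decide +kernel
theorem wu1037 : ∀ i, i < 13494 → fw i = true := below_step fw 13481 13 13494 wu1036 wc1037 rfl
theorem wc1038 : allBelow (fun k => fw (Nat.add 13494 k)) 13 = true := by decide +kernel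
theorem wu1038 : ∀ i, i < 13507 → fw i = true := below_step fw 13494 13 13507 wu1037 wc1038 rfl
theorem wc1039 : allBelow (fun k => fw (Nat.add 13507 k)) 13 = true := by decide +kernel
theorem wu1039 : ∀ i, i < 13520 → fw i = true := below_step fw 13507 13 13520 wu1038 wc1039 rfl
theorem wc1040 : allBelow (fun k => fw (Nat.add 13520 k)) 13 = true := by decide +kernel
theorem wu1040 : ∀ i, i < 13533 → fw i = true := below_step fw 13520 13 13533 wu1039 wc1040 rfl
theorem wc1041 : allBelow (fun k => fw (Nat.add 13533 k)) 13 = true := by decide +kernel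
theorem wu1041 : ∀ i, i < 13546 → fw i = true := below_step fw 13533 13 13546 wu1040 wc1041 rfl
theorem wc1042 : allBelow (fun k => fw (Nat.add 13546 k)) 13 = true := by decide +kernel
theorem wu1042 : ∀ i, i < 13559 → fw i = true := below_step fw 13546 13 13559 wu1041 wc1042 rfl
theorem wc1043 : allBelow (fun k => fw (Nat.add 13559 k)) 13 = true := by decide +kernel
theorem wu1043 : ∀ i, i < 13572 → fw i = true := below_step fw 13559 13 13572 wu1042 wc1043 rfl
theorem wc1044 : allBelow (fun k => fw (Nat.add 13572 k)) 13 = true := by decide +kernel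
theorem wu1044 : ∀ i, i < 13585 → fw i = true := below_step fw 13572 13 13585 wu1043 wc1044 rfl
theorem wc1045 : allBelow (fun k => fw (Nat.add 13585 k)) 13 = true := by decide +kernel
theorem wu1045 : ∀ i, i < 13598 → fw i = true := below_step fw 13585 13 13598 wu1044 wc1045 rfl
theorem wc1046 : allBelow (fun k => fw (Nat.add 13598 k)) 13 = true := by decide +kernel
theorem wu1046 : ∀ i, i < 13611 → fw i = true := below_step fw 13598 13 13611 wu1045 wc1046 rfl
theorem wc1047 : allBelow (fun k => fw (Nat.add 13611 k)) 13 = true := by decide +kernel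
theorem wu1047 : ∀ i, i < 13624 → fw i = true := below_step fw 13611 13 13624 wu1046 wc1047 rfl
theorem wc1048 : allBelow (fun k => fw (Nat.add 13624 k)) 13 = true := by decide +kernel
theorem wu1048 : ∀ i, i < 13637 → fw i = true := below_step fw 13624 13 13637 wu1047 wc1048 rfl
theorem wc1049 : allBelow (fun k => fw (Nat.add 13637 k)) 13 = true := by decide +kernel
theorem wu1049 : ∀ i, i < 13650 → fw i = true := below_step fw 13637 13 13650 wu1048 wc1049 rfl
theorem wc1050 : allBelow (fun k => fw (Nat.add 13650 k)) 13 = true := by decide +kernel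
theorem wu1050 : ∀ i, i < 13663 → fw i = true := below_step fw 13650 13 13663 wu1049 wc1050 rfl
theorem wc1051 : allBelow (fun k => fw (Nat.add 13663 k)) 13 = true := by decide +kernel
theorem wu1051 : ∀ i, i < 13676 → fw i = true := below_step fw 13663 13 13676 wu1050 wc1051 rfl
theorem wc1052 : allBelow (fun k => fw (Nat.add 13676 k)) 13 = true := by decide +kernel
theorem wu1052 : ∀ i, i < 13689 → fw i = true := below_step fw 13676 13 13689 wu1051 wc1052 rfl
theorem wc1053 : allBelow (fun k => fw (Nat.add 13689 k)) 13 = true := by decide +kernel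
theorem wu1053 : ∀ i, i < 13702 → fw i = true := below_step fw 13689 13 13702 wu1052 wc1053 rfl
theorem wc1054 : allBelow (fun k => fw (Nat.add 13702 k)) 13 = true := by decide +kernel
theorem wu1054 : ∀ i, i < 13715 → fw i = true := below_step fw 13702 13 13715 wu1053 wc1054 rfl
theorem wc1055 : allBelow (fun k => fw (Nat.add 13715 k)) 13 = true := by decide +kernel
theorem wu1055 : ∀ i, i < 13728 → fw i = true := below_step fw 13715 13 13728 wu1054 wc1055 rfl
theorem wc1056 : allBelow (fun k => fw (Nat.add 13728 k)) 13 = true := by decide +kernel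
theorem wu1056 : ∀ i, i < 13741 → fw i = true := below_step fw 13728 13 13741 wu1055 wc1056 rfl
theorem wc1057 : allBelow (fun k => fw (Nat.add 13741 k)) 13 = true := by decide +kernel
theorem wu1057 : ∀ i, i < 13754 → fw i = true := below_step fw 13741 13 13754 wu1056 wc1057 rfl
theorem wc1058 : allBelow (fun k => fw (Nat.add 13754 k)) 13 = true := by decide +kernel
theorem wu1058 : ∀ i, i < 13767 → fw i = true := below_step fw 13754 13 13767 wu1057 wc1058 rfl
theorem wc1059 : allBelow (fun k => fw (Nat.add 13767 k)) 13 = true := by decide +kernel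
theorem wu1059 : ∀ i, i < 13780 → fw i = true := below_step fw 13767 13 13780 wu1058 wc1059 rfl
theorem wc1060 : allBelow (fun k => fw (Nat.add 13780 k)) 13 = true := by decide +kernel
theorem wu1060 : ∀ i, i < 13793 → fw i = true := below_step fw 13780 13 13793 wu1059 wc1060 rfl
theorem wc1061 : allBelow (fun k => fw (Nat.add 13793 k)) 13 = true := by decide +kernel
theorem wu1061 : ∀ i, i < 13806 → fw i = true := below_step fw 13793 13 13806 wu1060 wc1061 rfl
theorem wc1062 : allBelow (fun k => fw (Nat.add 13806 k)) 13 = true := by decide +kernel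
theorem wu1062 : ∀ i, i < 13819 → fw i = true := below_step fw 13806 13 13819 wu1061 wc1062 rfl
theorem wc1063 : allBelow (fun k => fw (Nat.add 13819 k)) 13 = true := by decide +kernel
theorem wu1063 : ∀ i, i < 13832 → fw i = true := below_step fw 13819 13 13832 wu1062 wc1063 rfl
theorem wc1064 : allBelow (fun k => fw (Nat.add 13832 k)) 13 = true := by decide +kernel
theorem wu1064 : ∀ i, i < 13845 → fw i = true := below_step fw 13832 13 13845 wu1063 wc1064 rfl
theorem wc1065 : allBelow (fun k => fw (Nat.add 13845 k)) 13 = true := by decide +kernel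
theorem wu1065 : ∀ i, i < 13858 → fw i = true := below_step fw 13845 13 13858 wu1064 wc1065 rfl
theorem wc1066 : allBelow (fun k => fw (Nat.add 13858 k)) 13 = true := by decide +kernel
theorem wu1066 : ∀ i, i < 13871 → fw i = true := below_step fw 13858 13 13871 wu1065 wc1066 rfl
theorem wc1067 : allBelow (fun k => fw (Nat.add 13871 k)) 13 = true := by decide +kernel
theorem wu1067 : ∀ i, i < 13884 → fw i = true := below_step fw 13871 13 13884 wu1066 wc1067 rfl
theorem wc1068 : allBelow (fun k => fw (Nat.add 13884 k)) 13 = true := by decide +kernel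
theorem wu1068 : ∀ i, i < 13897 → fw i = true := below_step fw 13884 13 13897 wu1067 wc1068 rfl
theorem wc1069 : allBelow (fun k => fw (Nat.add 13897 k)) 13 = true := by decide +kernel
theorem wu1069 : ∀ i, i < 13910 → fw i = true := below_step fw 13897 13 13910 wu1068 wc1069 rfl
theorem wc1070 : allBelow (fun k => fw (Nat.add 13910 k)) 13 = true := by decide +kernel
theorem wu1070 : ∀ i, i < 13923 → fw i = true := below_step fw 13910 13 13923 wu1069 wc1070 rfl
theorem wc1071 : allBelow (fun k => fw (Nat.add 13923 k)) 13 = true := by decide +kernel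
theorem wu1071 : ∀ i, i < 13936 → fw i = true := below_step fw 13923 13 13936 wu1070 wc1071 rfl
theorem wc1072 : allBelow (fun k => fw (Nat.add 13936 k)) 13 = true := by decide +kernel
theorem wu1072 : ∀ i, i < 13949 → fw i = true := below_step fw 13936 13 13949 wu1071 wc1072 rfl
theorem wc1073 : allBelow (fun k => fw (Nat.add 13949 k)) 13 = true := by decide +kernel
theorem wu1073 : ∀ i, i < 13962 → fw i = true := below_step fw 13949 13 13962 wu1072 wc1073 rfl
theorem wc1074 : allBelow (fun k => fw (Nat.add 13962 k)) 13 = true := by decide +kernel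
theorem wu1074 : ∀ i, i < 13975 → fw i = true := below_step fw 13962 13 13975 wu1073 wc1074 rfl
theorem wc1075 : allBelow (fun k => fw (Nat.add 13975 k)) 13 = true := by decide +kernel
theorem wu1075 : ∀ i, i < 13988 → fw i = true := below_step fw 13975 13 13988 wu1074 wc1075 rfl
theorem wc1076 : allBelow (fun k => fw (Nat.add 13988 k)) 13 = true := by decide +kernel
theorem wu1076 : ∀ i, i < 14001 → fw i = true := below_step fw 13988 13 14001 wu1075 wc1076 rfl
theorem wc1077 : allBelow (fun k => fw (Nat.add 14001 k)) 13 = true := by decide +kernel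
theorem wu1077 : ∀ i, i < 14014 → fw i = true := below_step fw 14001 13 14014 wu1076 wc1077 rfl
theorem wc1078 : allBelow (fun k => fw (Nat.add 14014 k)) 13 = true := by decide +kernel
theorem wu1078 : ∀ i, i < 14027 → fw i = true := below_step fw 14014 13 14027 wu1077 wc1078 rfl
theorem wc1079 : allBelow (fun k => fw (Nat.add 14027 k)) 13 = true := by decide +kernel
theorem wu1079 : ∀ i, i < 14040 → fw i = true := below_step fw 14027 13 14040 wu1078 wc1079 rfl
theorem wc1080 : allBelow (fun k => fw (Nat.add 14040 k)) 13 = true := by decide +kernel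
theorem wu1080 : ∀ i, i < 14053 → fw i = true := below_step fw 14040 13 14053 wu1079 wc1080 rfl
theorem wc1081 : allBelow (fun k => fw (Nat.add 14053 k)) 13 = true := by decide +kernel
theorem wu1081 : ∀ i, i < 14066 → fw i = true := below_step fw 14053 13 14066 wu1080 wc1081 rfl
theorem wc1082 : allBelow (fun k => fw (Nat.add 14066 k)) 13 = true := by decide +kernel
theorem wu1082 : ∀ i, i < 14079 → fw i = true := below_step fw 14066 13 14079 wu1081 wc1082 rfl
theorem wc1083 : allBelow (fun k => fw (Nat.add 14079 k)) 13 = true := by decide +kernel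
theorem wu1083 : ∀ i, i < 14092 → fw i = true := below_step fw 14079 13 14092 wu1082 wc1083 rfl
theorem wc1084 : allBelow (fun k => fw (Nat.add 14092 k)) 13 = true := by decide +kernel
theorem wu1084 : ∀ i, i < 14105 → fw i = true := below_step fw 14092 13 14105 wu1083 wc1084 rfl
theorem wc1085 : allBelow (fun k => fw (Nat.add 14105 k)) 13 = true := by decide +kernel
theorem wu1085 : ∀ i, i < 14118 → fw i = true := below_step fw 14105 13 14118 wu1084 wc1085 rfl
theorem wc1086 : allBelow (fun k => fw (Nat.add 14118 k)) 13 = true := by decide +kernel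
theorem wu1086 : ∀ i, i < 14131 → fw i = true := below_step fw 14118 13 14131 wu1085 wc1086 rfl
theorem wc1087 : allBelow (fun k => fw (Nat.add 14131 k)) 13 = true := by decide +kernel
theorem wu1087 : ∀ i, i < 14144 → fw i = true := below_step fw 14131 13 14144 wu1086 wc1087 rfl
theorem wc1088 : allBelow (fun k => fw (Nat.add 14144 k)) 13 = true := by decide +kernel
theorem wu1088 : ∀ i, i < 14157 → fw i = true := below_step fw 14144 13 14157 wu1087 wc1088 rfl
theorem wc1089 : allBelow (fun k => fw (Nat.add 14157 k)) 13 = true := by decide +kernel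
theorem wu1089 : ∀ i, i < 14170 → fw i = true := below_step fw 14157 13 14170 wu1088 wc1089 rfl
theorem wc1090 : allBelow (fun k => fw (Nat.add 14170 k)) 13 = true := by decide +kernel
theorem wu1090 : ∀ i, i < 14183 → fw i = true := below_step fw 14170 13 14183 wu1089 wc1090 rfl
theorem wc1091 : allBelow (fun k => fw (Nat.add 14183 k)) 13 = true := by decide +kernel
theorem wu1091 : ∀ i, i < 14196 → fw i = true := below_step fw 14183 13 14196 wu1090 wc1091 rfl
theorem wc1092 : allBelow (fun k => fw (Nat.add 14196 k)) 13 = true := by decide +kernel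
theorem wu1092 : ∀ i, i < 14209 → fw i = true := below_step fw 14196 13 14209 wu1091 wc1092 rfl
theorem wc1093 : allBelow (fun k => fw (Nat.add 14209 k)) 13 = true := by decide +kernel
theorem wu1093 : ∀ i, i < 14222 → fw i = true := below_step fw 14209 13 14222 wu1092 wc1093 rfl
theorem wc1094 : allBelow (fun k => fw (Nat.add 14222 k)) 13 = true := by decide +kernel
theorem wu1094 : ∀ i, i < 14235 → fw i = true := below_step fw 14222 13 14235 wu1093 wc1094 rfl
theorem wc1095 : allBelow (fun k => fw (Nat.add 14235 k)) 13 = true := by decide +kernel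
theorem wu1095 : ∀ i, i < 14248 → fw i = true := below_step fw 14235 13 14248 wu1094 wc1095 rfl
theorem wc1096 : allBelow (fun k => fw (Nat.add 14248 k)) 13 = true := by decide +kernel
theorem wu1096 : ∀ i, i < 14261 → fw i = true := below_step fw 14248 13 14261 wu1095 wc1096 rfl
theorem wc1097 : allBelow (fun k => fw (Nat.add 14261 k)) 13 = true := by decide +kernel
theorem wu1097 : ∀ i, i < 14274 → fw i = true := below_step fw 14261 13 14274 wu1096 wc1097 rfl
theorem wc1098 : allBelow (fun k => fw (Nat.add 14274 k)) 13 = true := by decide +kernel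
theorem wu1098 : ∀ i, i < 14287 → fw i = true := below_step fw 14274 13 14287 wu1097 wc1098 rfl
theorem wc1099 : allBelow (fun k => fw (Nat.add 14287 k)) 13 = true := by decide +kernel
theorem wu1099 : ∀ i, i < 14300 → fw i = true := below_step fw 14287 13 14300 wu1098 wc1099 rfl
theorem wc1100 : allBelow (fun k => fw (Nat.add 14300 k)) 13 = true := by decide +kernel
theorem wu1100 : ∀ i, i < 14313 → fw i = true := below_step fw 14300 13 14313 wu1099 wc1100 rfl
theorem wc1101 : allBelow (fun k => fw (Nat.add 14313 k)) 13 = true := by decide +kernel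
theorem wu1101 : ∀ i, i < 14326 → fw i = true := below_step fw 14313 13 14326 wu1100 wc1101 rfl
theorem wc1102 : allBelow (fun k => fw (Nat.add 14326 k)) 13 = true := by decide +kernel
theorem wu1102 : ∀ i, i < 14339 → fw i = true := below_step fw 14326 13 14339 wu1101 wc1102 rfl
theorem wc1103 : allBelow (fun k => fw (Nat.add 14339 k)) 13 = true := by decide +kernel
theorem wu1103 : ∀ i, i < 14352 → fw i = true := below_step fw 14339 13 14352 wu1102 wc1103 rfl
theorem wc1104 : allBelow (fun k => fw (Nat.add 14352 k)) 13 = true := by decide +kernel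
theorem wu1104 : ∀ i, i < 14365 → fw i = true := below_step fw 14352 13 14365 wu1103 wc1104 rfl
theorem wc1105 : allBelow (fun k => fw (Nat.add 14365 k)) 13 = true := by decide +kernel
theorem wu1105 : ∀ i, i < 14378 → fw i = true := below_step fw 14365 13 14378 wu1104 wc1105 rfl
theorem wc1106 : allBelow (fun k => fw (Nat.add 14378 k)) 13 = true := by decide +kernel
theorem wu1106 : ∀ i, i < 14391 → fw i = true := below_step fw 14378 13 14391 wu1105 wc1106 rfl
theorem wc1107 : allBelow (fun k => fw (Nat.add 14391 k)) 13 = true := by decide +kernel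
theorem wu1107 : ∀ i, i < 14404 → fw i = true := below_step fw 14391 13 14404 wu1106 wc1107 rfl
theorem wc1108 : allBelow (fun k => fw (Nat.add 14404 k)) 13 = true := by decide +kernel
theorem wu1108 : ∀ i, i < 14417 → fw i = true := below_step fw 14404 13 14417 wu1107 wc1108 rfl
theorem wc1109 : allBelow (fun k => fw (Nat.add 14417 k)) 13 = true := by decide +kernel
theorem wu1109 : ∀ i, i < 14430 → fw i = true := below_step fw 14417 13 14430 wu1108 wc1109 rfl
theorem wc1110 : allBelow (fun k => fw (Nat.add 14430 k)) 13 = true := by decide +kernel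
theorem wu1110 : ∀ i, i < 14443 → fw i = true := below_step fw 14430 13 14443 wu1109 wc1110 rfl
theorem wc1111 : allBelow (fun k => fw (Nat.add 14443 k)) 13 = true := by decide +kernel
theorem wu1111 : ∀ i, i < 14456 → fw i = true := below_step fw 14443 13 14456 wu1110 wc1111 rfl
theorem wc1112 : allBelow (fun k => fw (Nat.add 14456 k)) 13 = true := by decide +kernel
theorem wu1112 : ∀ i, i < 14469 → fw i = true := below_step fw 14456 13 14469 wu1111 wc1112 rfl
theorem wc1113 : allBelow (fun k => fw (Nat.add 14469 k)) 13 = true := by decide +kernel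
theorem wu1113 : ∀ i, i < 14482 → fw i = true := below_step fw 14469 13 14482 wu1112 wc1113 rfl
theorem wc1114 : allBelow (fun k => fw (Nat.add 14482 k)) 13 = true := by decide +kernel
theorem wu1114 : ∀ i, i < 14495 → fw i = true := below_step fw 14482 13 14495 wu1113 wc1114 rfl
theorem wc1115 : allBelow (fun k => fw (Nat.add 14495 k)) 13 = true := by decide +kernel
theorem wu1115 : ∀ i, i < 14508 → fw i = true := below_step fw 14495 13 14508 wu1114 wc1115 rfl
theorem wc1116 : allBelow (fun k => fw (Nat.add 14508 k)) 13 = true := by decide +kernel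
theorem wu1116 : ∀ i, i < 14521 → fw i = true := below_step fw 14508 13 14521 wu1115 wc1116 rfl
theorem wc1117 : allBelow (fun k => fw (Nat.add 14521 k)) 13 = true := by decide +kernel
theorem wu1117 : ∀ i, i < 14534 → fw i = true := below_step fw 14521 13 14534 wu1116 wc1117 rfl
theorem wc1118 : allBelow (fun k => fw (Nat.add 14534 k)) 13 = true := by decide +kernel
theorem wu1118 : ∀ i, i < 14547 → fw i = true := below_step fw 14534 13 14547 wu1117 wc1118 rfl
theorem wc1119 : allBelow (fun k => fw (Nat.add 14547 k)) 13 = true := by decide +kernel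
theorem wu1119 : ∀ i, i < 14560 → fw i = true := below_step fw 14547 13 14560 wu1118 wc1119 rfl
theorem wc1120 : allBelow (fun k => fw (Nat.add 14560 k)) 13 = true := by decide +kernel
theorem wu1120 : ∀ i, i < 14573 → fw i = true := below_step fw 14560 13 14573 wu1119 wc1120 rfl
theorem wc1121 : allBelow (fun k => fw (Nat.add 14573 k)) 13 = true := by decide +kernel
theorem wu1121 : ∀ i, i < 14586 → fw i = true := below_step fw 14573 13 14586 wu1120 wc1121 rfl
theorem wc1122 : allBelow (fun k => fw (Nat.add 14586 k)) 13 = true := by decide +kernel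
theorem wu1122 : ∀ i, i < 14599 → fw i = true := below_step fw 14586 13 14599 wu1121 wc1122 rfl
theorem wc1123 : allBelow (fun k => fw (Nat.add 14599 k)) 13 = true := by decide +kernel
theorem wu1123 : ∀ i, i < 14612 → fw i = true := below_step fw 14599 13 14612 wu1122 wc1123 rfl
theorem wc1124 : allBelow (fun k => fw (Nat.add 14612 k)) 13 = true := by decide +kernel
theorem wu1124 : ∀ i, i < 14625 → fw i = true := below_step fw 14612 13 14625 wu1123 wc1124 rfl
theorem wc1125 : allBelow (fun k => fw (Nat.add 14625 k)) 13 = true := by decide +kernel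
theorem wu1125 : ∀ i, i < 14638 → fw i = true := below_step fw 14625 13 14638 wu1124 wc1125 rfl
theorem wc1126 : allBelow (fun k => fw (Nat.add 14638 k)) 13 = true := by decide +kernel
theorem wu1126 : ∀ i, i < 14651 → fw i = true := below_step fw 14638 13 14651 wu1125 wc1126 rfl
theorem wc1127 : allBelow (fun k => fw (Nat.add 14651 k)) 13 = true := by decide +kernel
theorem wu1127 : ∀ i, i < 14664 → fw i = true := below_step fw 14651 13 14664 wu1126 wc1127 rfl
theorem wc1128 : allBelow (fun k => fw (Nat.add 14664 k)) 13 = true := by decide +kernel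
theorem wu1128 : ∀ i, i < 14677 → fw i = true := below_step fw 14664 13 14677 wu1127 wc1128 rfl
theorem wc1129 : allBelow (fun k => fw (Nat.add 14677 k)) 13 = true := by decide +kernel
theorem wu1129 : ∀ i, i < 14690 → fw i = true := below_step fw 14677 13 14690 wu1128 wc1129 rfl
theorem wc1130 : allBelow (fun k => fw (Nat.add 14690 k)) 13 = true := by decide +kernel
theorem wu1130 : ∀ i, i < 14703 → fw i = true := below_step fw 14690 13 14703 wu1129 wc1130 rfl
theorem wc1131 : allBelow (fun k => fw (Nat.add 14703 k)) 13 = true := by decide +kernel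
theorem wu1131 : ∀ i, i < 14716 → fw i = true := below_step fw 14703 13 14716 wu1130 wc1131 rfl
theorem wc1132 : allBelow (fun k => fw (Nat.add 14716 k)) 13 = true := by decide +kernel
theorem wu1132 : ∀ i, i < 14729 → fw i = true := below_step fw 14716 13 14729 wu1131 wc1132 rfl
theorem wc1133 : allBelow (fun k => fw (Nat.add 14729 k)) 13 = true := by decide +kernel
theorem wu1133 : ∀ i, i < 14742 → fw i = true := below_step fw 14729 13 14742 wu1132 wc1133 rfl
theorem wc1134 : allBelow (fun k => fw (Nat.add 14742 k)) 13 = true := by decide +kernel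
theorem wu1134 : ∀ i, i < 14755 → fw i = true := below_step fw 14742 13 14755 wu1133 wc1134 rfl
theorem wc1135 : allBelow (fun k => fw (Nat.add 14755 k)) 13 = true := by decide +kernel
theorem wu1135 : ∀ i, i < 14768 → fw i = true := below_step fw 14755 13 14768 wu1134 wc1135 rfl
theorem wc1136 : allBelow (fun k => fw (Nat.add 14768 k)) 13 = true := by decide +kernel
theorem wu1136 : ∀ i, i < 14781 → fw i = true := below_step fw 14768 13 14781 wu1135 wc1136 rfl
theorem wc1137 : allBelow (fun k => fw (Nat.add 14781 k)) 13 = true := by decide +kernel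
theorem wu1137 : ∀ i, i < 14794 → fw i = true := below_step fw 14781 13 14794 wu1136 wc1137 rfl
theorem wc1138 : allBelow (fun k => fw (Nat.add 14794 k)) 13 = true := by decide +kernel
theorem wu1138 : ∀ i, i < 14807 → fw i = true := below_step fw 14794 13 14807 wu1137 wc1138 rfl
theorem wc1139 : allBelow (fun k => fw (Nat.add 14807 k)) 13 = true := by decide +kernel
theorem wu1139 : ∀ i, i < 14820 → fw i = true := below_step fw 14807 13 14820 wu1138 wc1139 rfl
theorem wc1140 : allBelow (fun k => fw (Nat.add 14820 k)) 13 = true := by decide +kernel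
theorem wu1140 : ∀ i, i < 14833 → fw i = true := below_step fw 14820 13 14833 wu1139 wc1140 rfl
theorem wc1141 : allBelow (fun k => fw (Nat.add 14833 k)) 13 = true := by decide +kernel
theorem wu1141 : ∀ i, i < 14846 → fw i = true := below_step fw 14833 13 14846 wu1140 wc1141 rfl
theorem wc1142 : allBelow (fun k => fw (Nat.add 14846 k)) 13 = true := by decide +kernel
theorem wu1142 : ∀ i, i < 14859 → fw i = true := below_step fw 14846 13 14859 wu1141 wc1142 rfl
theorem wc1143 : allBelow (fun k => fw (Nat.add 14859 k)) 13 = true := by decide +kernel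
theorem wu1143 : ∀ i, i < 14872 → fw i = true := below_step fw 14859 13 14872 wu1142 wc1143 rfl
theorem wc1144 : allBelow (fun k => fw (Nat.add 14872 k)) 13 = true := by decide +kernel
theorem wu1144 : ∀ i, i < 14885 → fw i = true := below_step fw 14872 13 14885 wu1143 wc1144 rfl
theorem wc1145 : allBelow (fun k => fw (Nat.add 14885 k)) 13 = true := by decide +kernel
theorem wu1145 : ∀ i, i < 14898 → fw i = true := below_step fw 14885 13 14898 wu1144 wc1145 rfl
theorem wc1146 : allBelow (fun k => fw (Nat.add 14898 k)) 13 = true := by decide +kernel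
theorem wu1146 : ∀ i, i < 14911 → fw i = true := below_step fw 14898 13 14911 wu1145 wc1146 rfl
theorem wc1147 : allBelow (fun k => fw (Nat.add 14911 k)) 13 = true := by decide +kernel
theorem wu1147 : ∀ i, i < 14924 → fw i = true := below_step fw 14911 13 14924 wu1146 wc1147 rfl
theorem wc1148 : allBelow (fun k => fw (Nat.add 14924 k)) 13 = true := by decide +kernel
theorem wu1148 : ∀ i, i < 14937 → fw i = true := below_step fw 14924 13 14937 wu1147 wc1148 rfl
theorem wc1149 : allBelow (fun k => fw (Nat.add 14937 k)) 13 = true := by decide +kernel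
theorem wu1149 : ∀ i, i < 14950 → fw i = true := below_step fw 14937 13 14950 wu1148 wc1149 rfl
theorem wc1150 : allBelow (fun k => fw (Nat.add 14950 k)) 13 = true := by decide +kernel
theorem wu1150 : ∀ i, i < 14963 → fw i = true := below_step fw 14950 13 14963 wu1149 wc1150 rfl
theorem wc1151 : allBelow (fun k => fw (Nat.add 14963 k)) 13 = true := by decide +kernel
theorem wu1151 : ∀ i, i < 14976 → fw i = true := below_step fw 14963 13 14976 wu1150 wc1151 rfl
theorem wc1152 : allBelow (fun k => fw (Nat.add 14976 k)) 13 = true := by decide +kernel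
theorem wu1152 : ∀ i, i < 14989 → fw i = true := below_step fw 14976 13 14989 wu1151 wc1152 rfl
theorem wc1153 : allBelow (fun k => fw (Nat.add 14989 k)) 13 = true := by decide +kernel
theorem wu1153 : ∀ i, i < 15002 → fw i = true := below_step fw 14989 13 15002 wu1152 wc1153 rfl
theorem wc1154 : allBelow (fun k => fw (Nat.add 15002 k)) 13 = true := by decide +kernel
theorem wu1154 : ∀ i, i < 15015 → fw i = true := below_step fw 15002 13 15015 wu1153 wc1154 rfl
theorem wc1155 : allBelow (fun k => fw (Nat.add 15015 k)) 13 = true := by decide +kernel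
theorem wu1155 : ∀ i, i < 15028 → fw i = true := below_step fw 15015 13 15028 wu1154 wc1155 rfl
theorem wc1156 : allBelow (fun k => fw (Nat.add 15028 k)) 13 = true := by decide +kernel
theorem wu1156 : ∀ i, i < 15041 → fw i = true := below_step fw 15028 13 15041 wu1155 wc1156 rfl
theorem wc1157 : allBelow (fun k => fw (Nat.add 15041 k)) 13 = true := by decide +kernel
theorem wu1157 : ∀ i, i < 15054 → fw i = true := below_step fw 15041 13 15054 wu1156 wc1157 rfl
theorem wc1158 : allBelow (fun k => fw (Nat.add 15054 k)) 13 = true := by decide +kernel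
theorem wu1158 : ∀ i, i < 15067 → fw i = true := below_step fw 15054 13 15067 wu1157 wc1158 rfl
theorem wc1159 : allBelow (fun k => fw (Nat.add 15067 k)) 13 = true := by decide +kernel
theorem wu1159 : ∀ i, i < 15080 → fw i = true := below_step fw 15067 13 15080 wu1158 wc1159 rfl

end Cfsg.Agent.Lib.Helper35.Fi23Ord.X0
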