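import Cfsg.Agent.Lib.Helper35.Fi23Ord.X0.Chk6

set_option Elab.async false

namespace Cfsg.Agent.Lib.Helper35.Fi23Ord.X0

open Cfsg.Agent.Lib.Helper35

theorem wc1160 : allBelow (fun k => fw (Nat.add 15080 k)) 13 = true := by decide +kernel
theorem wu1160 : ∀ i, i < 15093 → fw i = true := below_step fw 15080 13 15093 wu1159 wc1160 rfl
theorem wc1161 : allBelow (fun k => fw (Nat.add 15093 k)) 13 = true := by decide +kernel
theorem wu1161 : ∀ i, i < 15106 → fw i = true := below_step fw 15093 13 15106 wu1160 wc1161 rfl
theorem wc1162 : allBelow (fun k => fw (Nat.add 15106 k)) 13 = true := by decide +kernel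
theorem wu1162 : ∀ i, i < 15119 → fw i = true := below_step fw 15106 13 15119 wu1161 wc1162 rfl
theorem wc1163 : allBelow (fun k => fw (Nat.add 15119 k)) 13 = true := by decide +kernel
theorem wu1163 : ∀ i, i < 15132 → fw i = true := below_step fw 15119 13 15132 wu1162 wc1163 rfl
theorem wc1164 : allBelow (fun k => fw (Nat.add 15132 k)) 13 = true := by decide +kernel
theorem wu1164 : ∀ i, i < 15145 → fw i = true := below_step fw 15132 13 15145 wu1163 wc1164 rfl
theorem wc1165 : allBelow (fun k => fw (Nat.add 15145 k)) 13 = true := by decide +kernel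
theorem wu1165 : ∀ i, i < 15158 → fw i = true := below_step fw 15145 13 15158 wu1164 wc1165 rfl
theorem wc1166 : allBelow (fun k => fw (Nat.add 15158 k)) 13 = true := by decide +kernel
theorem wu1166 : ∀ i, i < 15171 → fw i = true := below_step fw 15158 13 15171 wu1165 wc1166 rfl
theorem wc1167 : allBelow (fun k => fw (Nat.add 15171 k)) 13 = true := by decide +kernel
theorem wu1167 : ∀ i, i < 15184 → fw i = true := below_step fw 15171 13 15184 wu1166 wc1167 rfl
theorem wc1168 : allBelow (fun k => fw (Nat.add 15184 k)) 13 = true := by decide +kernel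
theorem wu1168 : ∀ i, i < 15197 → fw i = true := below_step fw 15184 13 15197 wu1167 wc1168 rfl
theorem wc1169 : allBelow (fun k => fw (Nat.add 15197 k)) 13 = true := by decide +kernel
theorem wu1169 : ∀ i, i < 15210 → fw i = true := below_step fw 15197 13 15210 wu1168 wc1169 rfl
theorem wc1170 : allBelow (fun k => fw (Nat.add 15210 k)) 13 = true := by decide +kernel
theorem wu1170 : ∀ i, i < 15223 → fw i = true := below_step fw 15210 13 15223 wu1169 wc1170 rfl
theorem wc1171 : allBelow (fun k => fw (Nat.add 15223 k)) 13 = true := by decide +kernel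
theorem wu1171 : ∀ i, i < 15236 → fw i = true := below_step fw 15223 13 15236 wu1170 wc1171 rfl
theorem wc1172 : allBelow (fun k => fw (Nat.add 15236 k)) 13 = true := by decide +kernel
theorem wu1172 : ∀ i, i < 15249 → fw i = true := below_step fw 15236 13 15249 wu1171 wc1172 rfl
theorem wc1173 : allBelow (fun k => fw (Nat.add 15249 k)) 13 = true := by decide +kernel
theorem wu1173 : ∀ i, i < 15262 → fw i = true := below_step fw 15249 13 15262 wu1172 wc1173 rfl
theorem wc1174 : allBelow (fun k => fw (Nat.add 15262 k)) 13 = true := by decide +kernel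
theorem wu1174 : ∀ i, i < 15275 → fw i = true := below_step fw 15262 13 15275 wu1173 wc1174 rfl
theorem wc1175 : allBelow (fun k => fw (Nat.add 15275 k)) 13 = true := by decide +kernel
theorem wu1175 : ∀ i, i < 15288 → fw i = true := below_step fw 15275 13 15288 wu1174 wc1175 rfl
theorem wc1176 : allBelow (fun k => fw (Nat.add 15288 k)) 13 = true := by decide +kernel
theorem wu1176 : ∀ i, i < 15301 → fw i = true := below_step fw 15288 13 15301 wu1175 wc1176 rfl
theorem wc1177 : allBelow (fun k => fw (Nat.add 15301 k)) 13 = true := by decide +kernel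
theorem wu1177 : ∀ i, i < 15314 → fw i = true := below_step fw 15301 13 15314 wu1176 wc1177 rfl
theorem wc1178 : allBelow (fun k => fw (Nat.add 15314 k)) 13 = true := by decide +kernel
theorem wu1178 : ∀ i, i < 15327 → fw i = true := below_step fw 15314 13 15327 wu1177 wc1178 rfl
theorem wc1179 : allBelow (fun k => fw (Nat.add 15327 k)) 13 = true := by decide +kernel
theorem wu1179 : ∀ i, i < 15340 → fw i = true := below_step fw 15327 13 15340 wu1178 wc1179 rfl
theorem wc1180 : allBelow (fun k => fw (Nat.add 15340 k)) 13 = true := by decide +kernel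
theorem wu1180 : ∀ i, i < 15353 → fw i = true := below_step fw 15340 13 15353 wu1179 wc1180 rfl
theorem wc1181 : allBelow (fun k => fw (Nat.add 15353 k)) 13 = true := by decide +kernel
theorem wu1181 : ∀ i, i < 15366 → fw i = true := below_step fw 15353 13 15366 wu1180 wc1181 rfl
theorem wc1182 : allBelow (fun k => fw (Nat.add 15366 k)) 13 = true := by decide +kernel
theorem wu1182 : ∀ i, i < 15379 → fw i = true := below_step fw 15366 13 15379 wu1181 wc1182 rfl
theorem wc1183 : allBelow (fun k => fw (Nat.add 15379 k)) 13 = true := by decide +kernel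
theorem wu1183 : ∀ i, i < 15392 → fw i = true := below_step fw 15379 13 15392 wu1182 wc1183 rfl
theorem wc1184 : allBelow (fun k => fw (Nat.add 15392 k)) 13 = true := by decide +kernel
theorem wu1184 : ∀ i, i < 15405 → fw i = true := below_step fw 15392 13 15405 wu1183 wc1184 rfl
theorem wc1185 : allBelow (fun k => fw (Nat.add 15405 k)) 13 = true := by decide +kernel
theorem wu1185 : ∀ i, i < 15418 → fw i = true := below_step fw 15405 13 15418 wu1184 wc1185 rfl
theorem wc1186 : allBelow (fun k => fw (Nat.add 15418 k)) 13 = true := by decide +kernel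
theorem wu1186 : ∀ i, i < 15431 → fw i = true := below_step fw 15418 13 15431 wu1185 wc1186 rfl
theorem wc1187 : allBelow (fun k => fw (Nat.add 15431 k)) 13 = true := by decide +kernel
theorem wu1187 : ∀ i, i < 15444 → fw i = true := below_step fw 15431 13 15444 wu1186 wc1187 rfl
theorem wc1188 : allBelow (fun k => fw (Nat.add 15444 k)) 13 = true := by decide +kernel
theorem wu1188 : ∀ i, i < 15457 → fw i = true := below_step fw 15444 13 15457 wu1187 wc1188 rfl
theorem wc1189 : allBelow (fun k => fw (Nat.add 15457 k)) 13 = true := by decide +kernel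
theorem wu1189 : ∀ i, i < 15470 → fw i = true := below_step fw 15457 13 15470 wu1188 wc1189 rfl
theorem wc1190 : allBelow (fun k => fw (Nat.add 15470 k)) 13 = true := by decide +kernel
theorem wu1190 : ∀ i, i < 15483 → fw i = true := below_step fw 15470 13 15483 wu1189 wc1190 rfl
theorem wc1191 : allBelow (fun k => fw (Nat.add 15483 k)) 13 = true := by decide +kernel
theorem wu1191 : ∀ i, i < 15496 → fw i = true := below_step fw 15483 13 15496 wu1190 wc1191 rfl
theorem wc1192 : allBelow (fun k => fw (Nat.add 15496 k)) 13 = true := by decide +kernel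
theorem wu1192 : ∀ i, i < 15509 → fw i = true := below_step fw 15496 13 15509 wu1191 wc1192 rfl
theorem wc1193 : allBelow (fun k => fw (Nat.add 15509 k)) 13 = true := by decide +kernel
theorem wu1193 : ∀ i, i < 15522 → fw i = true := below_step fw 15509 13 15522 wu1192 wc1193 rfl
theorem wc1194 : allBelow (fun k => fw (Nat.add 15522 k)) 13 = true := by decide +kernel
theorem wu1194 : ∀ i, i < 15535 → fw i = true := below_step fw 15522 13 15535 wu1193 wc1194 rfl
theorem wc1195 : allBelow (fun k => fw (Nat.add 15535 k)) 13 = true := by decide +kernel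
theorem wu1195 : ∀ i, i < 15548 → fw i = true := below_step fw 15535 13 15548 wu1194 wc1195 rfl
theorem wc1196 : allBelow (fun k => fw (Nat.add 15548 k)) 13 = true := by decide +kernel
theorem wu1196 : ∀ i, i < 15561 → fw i = true := below_step fw 15548 13 15561 wu1195 wc1196 rfl
theorem wc1197 : allBelow (fun k => fw (Nat.add 15561 k)) 13 = true := by decide +kernel
theorem wu1197 : ∀ i, i < 15574 → fw i = true := below_step fw 15561 13 15574 wu1196 wc1197 rfl
theorem wc1198 : allBelow (fun k => fw (Nat.add 15574 k)) 13 = true := by decide +kernel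
theorem wu1198 : ∀ i, i < 15587 → fw i = true := below_step fw 15574 13 15587 wu1197 wc1198 rfl
theorem wc1199 : allBelow (fun k => fw (Nat.add 15587 k)) 13 = true := by decide +kernel
theorem wu1199 : ∀ i, i < 15600 → fw i = true := below_step fw 15587 13 15600 wu1198 wc1199 rfl
theorem wc1200 : allBelow (fun k => fw (Nat.add 15600 k)) 13 = true := by decide +kernel
theorem wu1200 : ∀ i, i < 15613 → fw i = true := below_step fw 15600 13 15613 wu1199 wc1200 rfl
theorem wc1201 : allBelow (fun k => fw (Nat.add 15613 k)) 13 = true := by decide +kernel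
theorem wu1201 : ∀ i, i < 15626 → fw i = true := below_step fw 15613 13 15626 wu1200 wc1201 rfl
theorem wc1202 : allBelow (fun k => fw (Nat.add 15626 k)) 13 = true := by decide +kernel
theorem wu1202 : ∀ i, i < 15639 → fw i = true := below_step fw 15626 13 15639 wu1201 wc1202 rfl
theorem wc1203 : allBelow (fun k => fw (Nat.add 15639 k)) 13 = true := by decide +kernel
theorem wu1203 : ∀ i, i < 15652 → fw i = true := below_step fw 15639 13 15652 wu1202 wc1203 rfl
theorem wc1204 : allBelow (fun k => fw (Nat.add 15652 k)) 13 = true := by decide +kernel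
theorem wu1204 : ∀ i, i < 15665 → fw i = true := below_step fw 15652 13 15665 wu1203 wc1204 rfl
theorem wc1205 : allBelow (fun k => fw (Nat.add 15665 k)) 13 = true := by decide +kernel
theorem wu1205 : ∀ i, i < 15678 → fw i = true := below_step fw 15665 13 15678 wu1204 wc1205 rfl
theorem wc1206 : allBelow (fun k => fw (Nat.add 15678 k)) 13 = true := by decide +kernel
theorem wu1206 : ∀ i, i < 15691 → fw i = true := below_step fw 15678 13 15691 wu1205 wc1206 rfl
theorem wc1207 : allBelow (fun k => fw (Nat.add 15691 k)) 13 = true := by decide +kernel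
theorem wu1207 : ∀ i, i < 15704 → fw i = true := below_step fw 15691 13 15704 wu1206 wc1207 rfl
theorem wc1208 : allBelow (fun k => fw (Nat.add 15704 k)) 13 = true := by decide +kernel
theorem wu1208 : ∀ i, i < 15717 → fw i = true := below_step fw 15704 13 15717 wu1207 wc1208 rfl
theorem wc1209 : allBelow (fun k => fw (Nat.add 15717 k)) 13 = true := by decide +kernel
theorem wu1209 : ∀ i, i < 15730 → fw i = true := below_step fw 15717 13 15730 wu1208 wc1209 rfl
theorem wc1210 : allBelow (fun k => fw (Nat.add 15730 k)) 13 = true := by decide +kernel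
theorem wu1210 : ∀ i, i < 15743 → fw i = true := below_step fw 15730 13 15743 wu1209 wc1210 rfl
theorem wc1211 : allBelow (fun k => fw (Nat.add 15743 k)) 13 = true := by decide +kernel
theorem wu1211 : ∀ i, i < 15756 → fw i = true := below_step fw 15743 13 15756 wu1210 wc1211 rfl
theorem wc1212 : allBelow (fun k => fw (Nat.add 15756 k)) 13 = true := by decide +kernel
theorem wu1212 : ∀ i, i < 15769 → fw i = true := below_step fw 15756 13 15769 wu1211 wc1212 rfl
theorem wc1213 : allBelow (fun k => fw (Nat.add 15769 k)) 13 = true := by decide +kernel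
theorem wu1213 : ∀ i, i < 15782 → fw i = true := below_step fw 15769 13 15782 wu1212 wc1213 rfl
theorem wc1214 : allBelow (fun k => fw (Nat.add 15782 k)) 13 = true := by decide +kernel
theorem wu1214 : ∀ i, i < 15795 → fw i = true := below_step fw 15782 13 15795 wu1213 wc1214 rfl
theorem wc1215 : allBelow (fun k => fw (Nat.add 15795 k)) 13 = true := by decide +kernel
theorem wu1215 : ∀ i, i < 15808 → fw i = true := below_step fw 15795 13 15808 wu1214 wc1215 rfl
theorem wc1216 : allBelow (fun k => fw (Nat.add 15808 k)) 13 = true := by decide +kernel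
theorem wu1216 : ∀ i, i < 15821 → fw i = true := below_step fw 15808 13 15821 wu1215 wc1216 rfl
theorem wc1217 : allBelow (fun k => fw (Nat.add 15821 k)) 13 = true := by decide +kernel
theorem wu1217 : ∀ i, i < 15834 → fw i = true := below_step fw 15821 13 15834 wu1216 wc1217 rfl
theorem wc1218 : allBelow (fun k => fw (Nat.add 15834 k)) 13 = true := by decide +kernel
theorem wu1218 : ∀ i, i < 15847 → fw i = true := below_step fw 15834 13 15847 wu1217 wc1218 rfl
theorem wc1219 : allBelow (fun k => fw (Nat.add 15847 k)) 13 = true := by decide +kernel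
theorem wu1219 : ∀ i, i < 15860 → fw i = true := below_step fw 15847 13 15860 wu1218 wc1219 rfl
theorem wc1220 : allBelow (fun k => fw (Nat.add 15860 k)) 13 = true := by decide +kernel
theorem wu1220 : ∀ i, i < 15873 → fw i = true := below_step fw 15860 13 15873 wu1219 wc1220 rfl
theorem wc1221 : allBelow (fun k => fw (Nat.add 15873 k)) 13 = true := by decide +kernel
theorem wu1221 : ∀ i, i < 15886 → fw i = true := below_step fw 15873 13 15886 wu1220 wc1221 rfl
theorem wc1222 : allBelow (fun k => fw (Nat.add 15886 k)) 13 = true := by decide +kernel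
theorem wu1222 : ∀ i, i < 15899 → fw i = true := below_step fw 15886 13 15899 wu1221 wc1222 rfl
theorem wc1223 : allBelow (fun k => fw (Nat.add 15899 k)) 13 = true := by decide +kernel
theorem wu1223 : ∀ i, i < 15912 → fw i = true := below_step fw 15899 13 15912 wu1222 wc1223 rfl
theorem wc1224 : allBelow (fun k => fw (Nat.add 15912 k)) 13 = true := by decide +kernel
theorem wu1224 : ∀ i, i < 15925 → fw i = true := below_step fw 15912 13 15925 wu1223 wc1224 rfl
theorem wc1225 : allBelow (fun k => fw (Nat.add 15925 k)) 13 = true := by decide +kernel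
theorem wu1225 : ∀ i, i < 15938 → fw i = true := below_step fw 15925 13 15938 wu1224 wc1225 rfl
theorem wc1226 : allBelow (fun k => fw (Nat.add 15938 k)) 13 = true := by decide +kernel
theorem wu1226 : ∀ i, i < 15951 → fw i = true := below_step fw 15938 13 15951 wu1225 wc1226 rfl
theorem wc1227 : allBelow (fun k => fw (Nat.add 15951 k)) 13 = true := by decide +kernel
theorem wu1227 : ∀ i, i < 15964 → fw i = true := below_step fw 15951 13 15964 wu1226 wc1227 rfl
theorem wc1228 : allBelow (fun k => fw (Nat.add 15964 k)) 13 = true := by decide +kernel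
theorem wu1228 : ∀ i, i < 15977 → fw i = true := below_step fw 15964 13 15977 wu1227 wc1228 rfl
theorem wc1229 : allBelow (fun k => fw (Nat.add 15977 k)) 13 = true := by decide +kernel
theorem wu1229 : ∀ i, i < 15990 → fw i = true := below_step fw 15977 13 15990 wu1228 wc1229 rfl
theorem wc1230 : allBelow (fun k => fw (Nat.add 15990 k)) 13 = true := by decide +kernel
theorem wu1230 : ∀ i, i < 16003 → fw i = true := below_step fw 15990 13 16003 wu1229 wc1230 rfl
theorem wc1231 : allBelow (fun k => fw (Nat.add 16003 k)) 13 = true := by decide +kernel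
theorem wu1231 : ∀ i, i < 16016 → fw i = true := below_step fw 16003 13 16016 wu1230 wc1231 rfl
theorem wc1232 : allBelow (fun k => fw (Nat.add 16016 k)) 13 = true := by decide +kernel
theorem wu1232 : ∀ i, i < 16029 → fw i = true := below_step fw 16016 13 16029 wu1231 wc1232 rfl
theorem wc1233 : allBelow (fun k => fw (Nat.add 16029 k)) 13 = true := by decide +kernel
theorem wu1233 : ∀ i, i < 16042 → fw i = true := below_step fw 16029 13 16042 wu1232 wc1233 rfl
theorem wc1234 : allBelow (fun k => fw (Nat.add 16042 k)) 13 = true := by decide +kernel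
theorem wu1234 : ∀ i, i < 16055 → fw i = true := below_step fw 16042 13 16055 wu1233 wc1234 rfl
theorem wc1235 : allBelow (fun k => fw (Nat.add 16055 k)) 13 = true := by decide +kernel
theorem wu1235 : ∀ i, i < 16068 → fw i = true := below_step fw 16055 13 16068 wu1234 wc1235 rfl
theorem wc1236 : allBelow (fun k => fw (Nat.add 16068 k)) 13 = true := by decide +kernel
theorem wu1236 : ∀ i, i < 16081 → fw i = true := below_step fw 16068 13 16081 wu1235 wc1236 rfl
theorem wc1237 : allBelow (fun k => fw (Nat.add 16081 k)) 13 = true := by decide +kernel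
theorem wu1237 : ∀ i, i < 16094 → fw i = true := below_step fw 16081 13 16094 wu1236 wc1237 rfl
theorem wc1238 : allBelow (fun k => fw (Nat.add 16094 k)) 13 = true := by decide +kernel
theorem wu1238 : ∀ i, i < 16107 → fw i = true := below_step fw 16094 13 16107 wu1237 wc1238 rfl
theorem wc1239 : allBelow (fun k => fw (Nat.add 16107 k)) 13 = true := by decide +kernel
theorem wu1239 : ∀ i, i < 16120 → fw i = true := below_step fw 16107 13 16120 wu1238 wc1239 rfl
theorem wc1240 : allBelow (fun k => fw (Nat.add 16120 k)) 13 = true := by decide +kernel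
theorem wu1240 : ∀ i, i < 16133 → fw i = true := below_step fw 16120 13 16133 wu1239 wc1240 rfl
theorem wc1241 : allBelow (fun k => fw (Nat.add 16133 k)) 13 = true := by decide +kernel
theorem wu1241 : ∀ i, i < 16146 → fw i = true := below_step fw 16133 13 16146 wu1240 wc1241 rfl
theorem wc1242 : allBelow (fun k => fw (Nat.add 16146 k)) 13 = true := by decide +kernel
theorem wu1242 : ∀ i, i < 16159 → fw i = true := below_step fw 16146 13 16159 wu1241 wc1242 rfl
theorem wc1243 : allBelow (fun k => fw (Nat.add 16159 k)) 13 = true := by decide +kernel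
theorem wu1243 : ∀ i, i < 16172 → fw i = true := below_step fw 16159 13 16172 wu1242 wc1243 rfl
theorem wc1244 : allBelow (fun k => fw (Nat.add 16172 k)) 13 = true := by decide +kernel
theorem wu1244 : ∀ i, i < 16185 → fw i = true := below_step fw 16172 13 16185 wu1243 wc1244 rfl
theorem wc1245 : allBelow (fun k => fw (Nat.add 16185 k)) 13 = true := by decide +kernel
theorem wu1245 : ∀ i, i < 16198 → fw i = true := below_step fw 16185 13 16198 wu1244 wc1245 rfl
theorem wc1246 : allBelow (fun k => fw (Nat.add 16198 k)) 13 = true := by decide +kernel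
theorem wu1246 : ∀ i, i < 16211 → fw i = true := below_step fw 16198 13 16211 wu1245 wc1246 rfl
theorem wc1247 : allBelow (fun k => fw (Nat.add 16211 k)) 13 = true := by decide +kernel
theorem wu1247 : ∀ i, i < 16224 → fw i = true := below_step fw 16211 13 16224 wu1246 wc1247 rfl
theorem wc1248 : allBelow (fun k => fw (Nat.add 16224 k)) 13 = true := by decide +kernel
theorem wu1248 : ∀ i, i < 16237 → fw i = true := below_step fw 16224 13 16237 wu1247 wc1248 rfl
theorem wc1249 : allBelow (fun k => fw (Nat.add 16237 k)) 13 = true := by decide +kernel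
theorem wu1249 : ∀ i, i < 16250 → fw i = true := below_step fw 16237 13 16250 wu1248 wc1249 rfl
theorem wc1250 : allBelow (fun k => fw (Nat.add 16250 k)) 13 = true := by decide +kernel
theorem wu1250 : ∀ i, i < 16263 → fw i = true := below_step fw 16250 13 16263 wu1249 wc1250 rfl
theorem wc1251 : allBelow (fun k => fw (Nat.add 16263 k)) 13 = true := by decide +kernel
theorem wu1251 : ∀ i, i < 16276 → fw i = true := below_step fw 16263 13 16276 wu1250 wc1251 rfl
theorem wc1252 : allBelow (fun k => fw (Nat.add 16276 k)) 13 = true := by decide +kernel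
theorem wu1252 : ∀ i, i < 16289 → fw i = true := below_step fw 16276 13 16289 wu1251 wc1252 rfl
theorem wc1253 : allBelow (fun k => fw (Nat.add 16289 k)) 13 = true := by decide +kernel
theorem wu1253 : ∀ i, i < 16302 → fw i = true := below_step fw 16289 13 16302 wu1252 wc1253 rfl
theorem wc1254 : allBelow (fun k => fw (Nat.add 16302 k)) 13 = true := by decide +kernel
theorem wu1254 : ∀ i, i < 16315 → fw i = true := below_step fw 16302 13 16315 wu1253 wc1254 rfl
theorem wc1255 : allBelow (fun k => fw (Nat.add 16315 k)) 13 = true := by decide +kernel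
theorem wu1255 : ∀ i, i < 16328 → fw i = true := below_step fw 16315 13 16328 wu1254 wc1255 rfl
theorem wc1256 : allBelow (fun k => fw (Nat.add 16328 k)) 13 = true := by decide +kernel
theorem wu1256 : ∀ i, i < 16341 → fw i = true := below_step fw 16328 13 16341 wu1255 wc1256 rfl
theorem wc1257 : allBelow (fun k => fw (Nat.add 16341 k)) 13 = true := by decide +kernel
theorem wu1257 : ∀ i, i < 16354 → fw i = true := below_step fw 16341 13 16354 wu1256 wc1257 rfl
theorem wc1258 : allBelow (fun k => fw (Nat.add 16354 k)) 13 = true := by decide +kernel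
theorem wu1258 : ∀ i, i < 16367 → fw i = true := below_step fw 16354 13 16367 wu1257 wc1258 rfl
theorem wc1259 : allBelow (fun k => fw (Nat.add 16367 k)) 13 = true := by decide +kernel
theorem wu1259 : ∀ i, i < 16380 → fw i = true := below_step fw 16367 13 16380 wu1258 wc1259 rfl
theorem wc1260 : allBelow (fun k => fw (Nat.add 16380 k)) 13 = true := by decide +kernel
theorem wu1260 : ∀ i, i < 16393 → fw i = true := below_step fw 16380 13 16393 wu1259 wc1260 rfl
theorem wc1261 : allBelow (fun k => fw (Nat.add 16393 k)) 13 = true := by decide +kernel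
theorem wu1261 : ∀ i, i < 16406 → fw i = true := below_step fw 16393 13 16406 wu1260 wc1261 rfl
theorem wc1262 : allBelow (fun k => fw (Nat.add 16406 k)) 13 = true := by decide +kernel
theorem wu1262 : ∀ i, i < 16419 → fw i = true := below_step fw 16406 13 16419 wu1261 wc1262 rfl
theorem wc1263 : allBelow (fun k => fw (Nat.add 16419 k)) 13 = true := by decide +kernel
theorem wu1263 : ∀ i, i < 16432 → fw i = true := below_step fw 16419 13 16432 wu1262 wc1263 rfl
theorem wc1264 : allBelow (fun k => fw (Nat.add 16432 k)) 13 = true := by decide +kernel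
theorem wu1264 : ∀ i, i < 16445 → fw i = true := below_step fw 16432 13 16445 wu1263 wc1264 rfl
theorem wc1265 : allBelow (fun k => fw (Nat.add 16445 k)) 13 = true := by decide +kernel
theorem wu1265 : ∀ i, i < 16458 → fw i = true := below_step fw 16445 13 16458 wu1264 wc1265 rfl
theorem wc1266 : allBelow (fun k => fw (Nat.add 16458 k)) 13 = true := by decide +kernel
theorem wu1266 : ∀ i, i < 16471 → fw i = true := below_step fw 16458 13 16471 wu1265 wc1266 rfl
theorem wc1267 : allBelow (fun k => fw (Nat.add 16471 k)) 13 = true := by decide +kernel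
theorem wu1267 : ∀ i, i < 16484 → fw i = true := below_step fw 16471 13 16484 wu1266 wc1267 rfl
theorem wc1268 : allBelow (fun k => fw (Nat.add 16484 k)) 13 = true := by decide +kernel
theorem wu1268 : ∀ i, i < 16497 → fw i = true := below_step fw 16484 13 16497 wu1267 wc1268 rfl
theorem wc1269 : allBelow (fun k => fw (Nat.add 16497 k)) 13 = true := by decide +kernel
theorem wu1269 : ∀ i, i < 16510 → fw i = true := below_step fw 16497 13 16510 wu1268 wc1269 rfl
theorem wc1270 : allBelow (fun k => fw (Nat.add 16510 k)) 13 = true := by decide +kernel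
theorem wu1270 : ∀ i, i < 16523 → fw i = true := below_step fw 16510 13 16523 wu1269 wc1270 rfl
theorem wc1271 : allBelow (fun k => fw (Nat.add 16523 k)) 13 = true := by decide +kernel
theorem wu1271 : ∀ i, i < 16536 → fw i = true := below_step fw 16523 13 16536 wu1270 wc1271 rfl
theorem wc1272 : allBelow (fun k => fw (Nat.add 16536 k)) 13 = true := by decide +kernel
theorem wu1272 : ∀ i, i < 16549 → fw i = true := below_step fw 16536 13 16549 wu1271 wc1272 rfl
theorem wc1273 : allBelow (fun k => fw (Nat.add 16549 k)) 13 = true := by decide +kernel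
theorem wu1273 : ∀ i, i < 16562 → fw i = true := below_step fw 16549 13 16562 wu1272 wc1273 rfl
theorem wc1274 : allBelow (fun k => fw (Nat.add 16562 k)) 13 = true := by decide +kernel
theorem wu1274 : ∀ i, i < 16575 → fw i = true := below_step fw 16562 13 16575 wu1273 wc1274 rfl
theorem wc1275 : allBelow (fun k => fw (Nat.add 16575 k)) 13 = true := by decide +kernel
theorem wu1275 : ∀ i, i < 16588 → fw i = true := below_step fw 16575 13 16588 wu1274 wc1275 rfl
theorem wc1276 : allBelow (fun k => fw (Nat.add 16588 k)) 13 = true := by decide +kernel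
theorem wu1276 : ∀ i, i < 16601 → fw i = true := below_step fw 16588 13 16601 wu1275 wc1276 rfl
theorem wc1277 : allBelow (fun k => fw (Nat.add 16601 k)) 13 = true := by decide +kernel
theorem wu1277 : ∀ i, i < 16614 → fw i = true := below_step fw 16601 13 16614 wu1276 wc1277 rfl
theorem wc1278 : allBelow (fun k => fw (Nat.add 16614 k)) 13 = true := by decide +kernel
theorem wu1278 : ∀ i, i < 16627 → fw i = true := below_step fw 16614 13 16627 wu1277 wc1278 rfl
theorem wc1279 : allBelow (fun k => fw (Nat.add 16627 k)) 13 = true := by decide +kernel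
theorem wu1279 : ∀ i, i < 16640 → fw i = true := below_step fw 16627 13 16640 wu1278 wc1279 rfl
theorem wc1280 : allBelow (fun k => fw (Nat.add 16640 k)) 13 = true := by decide +kernel
theorem wu1280 : ∀ i, i < 16653 → fw i = true := below_step fw 16640 13 16653 wu1279 wc1280 rfl
theorem wc1281 : allBelow (fun k => fw (Nat.add 16653 k)) 13 = true := by decide +kernel
theorem wu1281 : ∀ i, i < 16666 → fw i = true := below_step fw 16653 13 16666 wu1280 wc1281 rfl
theorem wc1282 : allBelow (fun k => fw (Nat.add 16666 k)) 13 = true := by decide +kernel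
theorem wu1282 : ∀ i, i < 16679 → fw i = true := below_step fw 16666 13 16679 wu1281 wc1282 rfl
theorem wc1283 : allBelow (fun k => fw (Nat.add 16679 k)) 13 = true := by decide +kernel
theorem wu1283 : ∀ i, i < 16692 → fw i = true := below_step fw 16679 13 16692 wu1282 wc1283 rfl
theorem wc1284 : allBelow (fun k => fw (Nat.add 16692 k)) 13 = true := by decide +kernel
theorem wu1284 : ∀ i, i < 16705 → fw i = true := below_step fw 16692 13 16705 wu1283 wc1284 rfl
theorem wc1285 : allBelow (fun k => fw (Nat.add 16705 k)) 13 = true := by decide +kernel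
theorem wu1285 : ∀ i, i < 16718 → fw i = true := below_step fw 16705 13 16718 wu1284 wc1285 rfl
theorem wc1286 : allBelow (fun k => fw (Nat.add 16718 k)) 13 = true := by decide +kernel
theorem wu1286 : ∀ i, i < 16731 → fw i = true := below_step fw 16718 13 16731 wu1285 wc1286 rfl
theorem wc1287 : allBelow (fun k => fw (Nat.add 16731 k)) 13 = true := by decide +kernel
theorem wu1287 : ∀ i, i < 16744 → fw i = true := below_step fw 16731 13 16744 wu1286 wc1287 rfl
theorem wc1288 : allBelow (fun k => fw (Nat.add 16744 k)) 13 = true := by decide +kernel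
theorem wu1288 : ∀ i, i < 16757 → fw i = true := below_step fw 16744 13 16757 wu1287 wc1288 rfl
theorem wc1289 : allBelow (fun k => fw (Nat.add 16757 k)) 13 = true := by decide +kernel
theorem wu1289 : ∀ i, i < 16770 → fw i = true := below_step fw 16757 13 16770 wu1288 wc1289 rfl
theorem wc1290 : allBelow (fun k => fw (Nat.add 16770 k)) 13 = true := by decide +kernel
theorem wu1290 : ∀ i, i < 16783 → fw i = true := below_step fw 16770 13 16783 wu1289 wc1290 rfl
theorem wc1291 : allBelow (fun k => fw (Nat.add 16783 k)) 13 = true := by decide +kernel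
theorem wu1291 : ∀ i, i < 16796 → fw i = true := below_step fw 16783 13 16796 wu1290 wc1291 rfl
theorem wc1292 : allBelow (fun k => fw (Nat.add 16796 k)) 13 = true := by decide +kernel
theorem wu1292 : ∀ i, i < 16809 → fw i = true := below_step fw 16796 13 16809 wu1291 wc1292 rfl
theorem wc1293 : allBelow (fun k => fw (Nat.add 16809 k)) 13 = true := by decide +kernel
theorem wu1293 : ∀ i, i < 16822 → fw i = true := below_step fw 16809 13 16822 wu1292 wc1293 rfl
theorem wc1294 : allBelow (fun k => fw (Nat.add 16822 k)) 13 = true := by decide +kernel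
theorem wu1294 : ∀ i, i < 16835 → fw i = true := below_step fw 16822 13 16835 wu1293 wc1294 rfl
theorem wc1295 : allBelow (fun k => fw (Nat.add 16835 k)) 13 = true := by decide +kernel
theorem wu1295 : ∀ i, i < 16848 → fw i = true := below_step fw 16835 13 16848 wu1294 wc1295 rfl
theorem wc1296 : allBelow (fun k => fw (Nat.add 16848 k)) 13 = true := by decide +kernel
theorem wu1296 : ∀ i, i < 16861 → fw i = true := below_step fw 16848 13 16861 wu1295 wc1296 rfl
theorem wc1297 : allBelow (fun k => fw (Nat.add 16861 k)) 13 = true := by decide +kernel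
theorem wu1297 : ∀ i, i < 16874 → fw i = true := below_step fw 16861 13 16874 wu1296 wc1297 rfl
theorem wc1298 : allBelow (fun k => fw (Nat.add 16874 k)) 13 = true := by decide +kernel
theorem wu1298 : ∀ i, i < 16887 → fw i = true := below_step fw 16874 13 16887 wu1297 wc1298 rfl
theorem wc1299 : allBelow (fun k => fw (Nat.add 16887 k)) 13 = true := by decide +kernel
theorem wu1299 : ∀ i, i < 16900 → fw i = true := below_step fw 16887 13 16900 wu1298 wc1299 rfl
theorem wc1300 : allBelow (fun k => fw (Nat.add 16900 k)) 13 = true := by decide +kernel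
theorem wu1300 : ∀ i, i < 16913 → fw i = true := below_step fw 16900 13 16913 wu1299 wc1300 rfl
theorem wc1301 : allBelow (fun k => fw (Nat.add 16913 k)) 13 = true := by decide +kernel
theorem wu1301 : ∀ i, i < 16926 → fw i = true := below_step fw 16913 13 16926 wu1300 wc1301 rfl
theorem wc1302 : allBelow (fun k => fw (Nat.add 16926 k)) 13 = true := by decide +kernel
theorem wu1302 : ∀ i, i < 16939 → fw i = true := below_step fw 16926 13 16939 wu1301 wc1302 rfl
theorem wc1303 : allBelow (fun k => fw (Nat.add 16939 k)) 13 = true := by decide +kernel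
theorem wu1303 : ∀ i, i < 16952 → fw i = true := below_step fw 16939 13 16952 wu1302 wc1303 rfl
theorem wc1304 : allBelow (fun k => fw (Nat.add 16952 k)) 13 = true := by decide +kernel
theorem wu1304 : ∀ i, i < 16965 → fw i = true := below_step fw 16952 13 16965 wu1303 wc1304 rfl
theorem wc1305 : allBelow (fun k => fw (Nat.add 16965 k)) 13 = true := by decide +kernel
theorem wu1305 : ∀ i, i < 16978 → fw i = true := below_step fw 16965 13 16978 wu1304 wc1305 rfl
theorem wc1306 : allBelow (fun k => fw (Nat.add 16978 k)) 13 = true := by decide +kernel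
theorem wu1306 : ∀ i, i < 16991 → fw i = true := below_step fw 16978 13 16991 wu1305 wc1306 rfl
theorem wc1307 : allBelow (fun k => fw (Nat.add 16991 k)) 13 = true := by decide +kernel
theorem wu1307 : ∀ i, i < 17004 → fw i = true := below_step fw 16991 13 17004 wu1306 wc1307 rfl
theorem wc1308 : allBelow (fun k => fw (Nat.add 17004 k)) 13 = true := by decide +kernel
theorem wu1308 : ∀ i, i < 17017 → fw i = true := below_step fw 17004 13 17017 wu1307 wc1308 rfl
theorem wc1309 : allBelow (fun k => fw (Nat.add 17017 k)) 13 = true := by decide +kernel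
theorem wu1309 : ∀ i, i < 17030 → fw i = true := below_step fw 17017 13 17030 wu1308 wc1309 rfl
theorem wc1310 : allBelow (fun k => fw (Nat.add 17030 k)) 13 = true := by decide +kernel
theorem wu1310 : ∀ i, i < 17043 → fw i = true := below_step fw 17030 13 17043 wu1309 wc1310 rfl
theorem wc1311 : allBelow (fun k => fw (Nat.add 17043 k)) 13 = true := by decide +kernel
theorem wu1311 : ∀ i, i < 17056 → fw i = true := below_step fw 17043 13 17056 wu1310 wc1311 rfl
theorem wc1312 : allBelow (fun k => fw (Nat.add 17056 k)) 13 = true := by decide +kernel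
theorem wu1312 : ∀ i, i < 17069 → fw i = true := below_step fw 17056 13 17069 wu1311 wc1312 rfl
theorem wc1313 : allBelow (fun k => fw (Nat.add 17069 k)) 13 = true := by decide +kernel
theorem wu1313 : ∀ i, i < 17082 → fw i = true := below_step fw 17069 13 17082 wu1312 wc1313 rfl
theorem wc1314 : allBelow (fun k => fw (Nat.add 17082 k)) 13 = true := by decide +kernel
theorem wu1314 : ∀ i, i < 17095 → fw i = true := below_step fw 17082 13 17095 wu1313 wc1314 rfl
theorem wc1315 : allBelow (fun k => fw (Nat.add 17095 k)) 13 = true := by decide +kernel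
theorem wu1315 : ∀ i, i < 17108 → fw i = true := below_step fw 17095 13 17108 wu1314 wc1315 rfl
theorem wc1316 : allBelow (fun k => fw (Nat.add 17108 k)) 13 = true := by decide +kernel
theorem wu1316 : ∀ i, i < 17121 → fw i = true := below_step fw 17108 13 17121 wu1315 wc1316 rfl
theorem wc1317 : allBelow (fun k => fw (Nat.add 17121 k)) 13 = true := by decide +kernel
theorem wu1317 : ∀ i, i < 17134 → fw i = true := below_step fw 17121 13 17134 wu1316 wc1317 rfl
theorem wc1318 : allBelow (fun k => fw (Nat.add 17134 k)) 13 = true := by decide +kernel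
theorem wu1318 : ∀ i, i < 17147 → fw i = true := below_step fw 17134 13 17147 wu1317 wc1318 rfl
theorem wc1319 : allBelow (fun k => fw (Nat.add 17147 k)) 13 = true := by decide +kernel
theorem wu1319 : ∀ i, i < 17160 → fw i = true := below_step fw 17147 13 17160 wu1318 wc1319 rfl
theorem wc1320 : allBelow (fun k => fw (Nat.add 17160 k)) 13 = true := by decide +kernel
theorem wu1320 : ∀ i, i < 17173 → fw i = true := below_step fw 17160 13 17173 wu1319 wc1320 rfl
theorem wc1321 : allBelow (fun k => fw (Nat.add 17173 k)) 13 = true := by decide +kernel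
theorem wu1321 : ∀ i, i < 17186 → fw i = true := below_step fw 17173 13 17186 wu1320 wc1321 rfl
theorem wc1322 : allBelow (fun k => fw (Nat.add 17186 k)) 13 = true := by decide +kernel
theorem wu1322 : ∀ i, i < 17199 → fw i = true := below_step fw 17186 13 17199 wu1321 wc1322 rfl
theorem wc1323 : allBelow (fun k => fw (Nat.add 17199 k)) 13 = true := by decide +kernel
theorem wu1323 : ∀ i, i < 17212 → fw i = true := below_step fw 17199 13 17212 wu1322 wc1323 rfl
theorem wc1324 : allBelow (fun k => fw (Nat.add 17212 k)) 13 = true := by decide +kernel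
theorem wu1324 : ∀ i, i < 17225 → fw i = true := below_step fw 17212 13 17225 wu1323 wc1324 rfl
theorem wc1325 : allBelow (fun k => fw (Nat.add 17225 k)) 13 = true := by decide +kernel
theorem wu1325 : ∀ i, i < 17238 → fw i = true := below_step fw 17225 13 17238 wu1324 wc1325 rfl
theorem wc1326 : allBelow (fun k => fw (Nat.add 17238 k)) 13 = true := by decide +kernel
theorem wu1326 : ∀ i, i < 17251 → fw i = true := below_step fw 17238 13 17251 wu1325 wc1326 rfl
theorem wc1327 : allBelow (fun k => fw (Nat.add 17251 k)) 13 = true := by decide +kernel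
theorem wu1327 : ∀ i, i < 17264 → fw i = true := below_step fw 17251 13 17264 wu1326 wc1327 rfl
theorem wc1328 : allBelow (fun k => fw (Nat.add 17264 k)) 13 = true := by decide +kernel
theorem wu1328 : ∀ i, i < 17277 → fw i = true := below_step fw 17264 13 17277 wu1327 wc1328 rfl
theorem wc1329 : allBelow (fun k => fw (Nat.add 17277 k)) 13 = true := by decide +kernel
theorem wu1329 : ∀ i, i < 17290 → fw i = true := below_step fw 17277 13 17290 wu1328 wc1329 rfl
theorem wc1330 : allBelow (fun k => fw (Nat.add 17290 k)) 13 = true := by decide +kernel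
theorem wu1330 : ∀ i, i < 17303 → fw i = true := below_step fw 17290 13 17303 wu1329 wc1330 rfl
theorem wc1331 : allBelow (fun k => fw (Nat.add 17303 k)) 13 = true := by decide +kernel
theorem wu1331 : ∀ i, i < 17316 → fw i = true := below_step fw 17303 13 17316 wu1330 wc1331 rfl
theorem wc1332 : allBelow (fun k => fw (Nat.add 17316 k)) 13 = true := by decide +kernel
theorem wu1332 : ∀ i, i < 17329 → fw i = true := below_step fw 17316 13 17329 wu1331 wc1332 rfl
theorem wc1333 : allBelow (fun k => fw (Nat.add 17329 k)) 13 = true := by decide +kernel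
theorem wu1333 : ∀ i, i < 17342 → fw i = true := below_step fw 17329 13 17342 wu1332 wc1333 rfl
theorem wc1334 : allBelow (fun k => fw (Nat.add 17342 k)) 13 = true := by decide +kernel
theorem wu1334 : ∀ i, i < 17355 → fw i = true := below_step fw 17342 13 17355 wu1333 wc1334 rfl
theorem wc1335 : allBelow (fun k => fw (Nat.add 17355 k)) 13 = true := by decide +kernel
theorem wu1335 : ∀ i, i < 17368 → fw i = true := below_step fw 17355 13 17368 wu1334 wc1335 rfl
theorem wc1336 : allBelow (fun k => fw (Nat.add 17368 k)) 13 = true := by decide +kernel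
theorem wu1336 : ∀ i, i < 17381 → fw i = true := below_step fw 17368 13 17381 wu1335 wc1336 rfl
theorem wc1337 : allBelow (fun k => fw (Nat.add 17381 k)) 13 = true := by decide +kernel
theorem wu1337 : ∀ i, i < 17394 → fw i = true := below_step fw 17381 13 17394 wu1336 wc1337 rfl
theorem wc1338 : allBelow (fun k => fw (Nat.add 17394 k)) 13 = true := by decide +kernel
theorem wu1338 : ∀ i, i < 17407 → fw i = true := below_step fw 17394 13 17407 wu1337 wc1338 rfl
theorem wc1339 : allBelow (fun k => fw (Nat.add 17407 k)) 13 = true := by decide +kernel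
theorem wu1339 : ∀ i, i < 17420 → fw i = true := below_step fw 17407 13 17420 wu1338 wc1339 rfl
theorem wc1340 : allBelow (fun k => fw (Nat.add 17420 k)) 13 = true := by decide +kernel
theorem wu1340 : ∀ i, i < 17433 → fw i = true := below_step fw 17420 13 17433 wu1339 wc1340 rfl
theorem wc1341 : allBelow (fun k => fw (Nat.add 17433 k)) 13 = true := by decide +kernel
theorem wu1341 : ∀ i, i < 17446 → fw i = true := below_step fw 17433 13 17446 wu1340 wc1341 rfl
theorem wc1342 : allBelow (fun k => fw (Nat.add 17446 k)) 13 = true := by decide +kernel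
theorem wu1342 : ∀ i, i < 17459 → fw i = true := below_step fw 17446 13 17459 wu1341 wc1342 rfl
theorem wc1343 : allBelow (fun k => fw (Nat.add 17459 k)) 13 = true := by decide +kernel
theorem wu1343 : ∀ i, i < 17472 → fw i = true := below_step fw 17459 13 17472 wu1342 wc1343 rfl
theorem wc1344 : allBelow (fun k => fw (Nat.add 17472 k)) 13 = true := by decide +kernel
theorem wu1344 : ∀ i, i < 17485 → fw i = true := below_step fw 17472 13 17485 wu1343 wc1344 rfl
theorem wc1345 : allBelow (fun k => fw (Nat.add 17485 k)) 13 = true := by decide +kernel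
theorem wu1345 : ∀ i, i < 17498 → fw i = true := below_step fw 17485 13 17498 wu1344 wc1345 rfl
theorem wc1346 : allBelow (fun k => fw (Nat.add 17498 k)) 13 = true := by decide +kernel
theorem wu1346 : ∀ i, i < 17511 → fw i = true := below_step fw 17498 13 17511 wu1345 wc1346 rfl
theorem wc1347 : allBelow (fun k => fw (Nat.add 17511 k)) 13 = true := by decide +kernel
theorem wu1347 : ∀ i, i < 17524 → fw i = true := below_step fw 17511 13 17524 wu1346 wc1347 rfl
theorem wc1348 : allBelow (fun k => fw (Nat.add 17524 k)) 13 = true := by decide +kernel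
theorem wu1348 : ∀ i, i < 17537 → fw i = true := below_step fw 17524 13 17537 wu1347 wc1348 rfl
theorem wc1349 : allBelow (fun k => fw (Nat.add 17537 k)) 13 = true := by decide +kernel
theorem wu1349 : ∀ i, i < 17550 → fw i = true := below_step fw 17537 13 17550 wu1348 wc1349 rfl
theorem wc1350 : allBelow (fun k => fw (Nat.add 17550 k)) 13 = true := by decide +kernel
theorem wu1350 : ∀ i, i < 17563 → fw i = true := below_step fw 17550 13 17563 wu1349 wc1350 rfl
theorem wc1351 : allBelow (fun k => fw (Nat.add 17563 k)) 13 = true := by decide +kernel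
theorem wu1351 : ∀ i, i < 17576 → fw i = true := below_step fw 17563 13 17576 wu1350 wc1351 rfl
theorem wc1352 : allBelow (fun k => fw (Nat.add 17576 k)) 13 = true := by decide +kernel
theorem wu1352 : ∀ i, i < 17589 → fw i = true := below_step fw 17576 13 17589 wu1351 wc1352 rfl
theorem wc1353 : allBelow (fun k => fw (Nat.add 17589 k)) 13 = true := by decide +kernel
theorem wu1353 : ∀ i, i < 17602 → fw i = true := below_step fw 17589 13 17602 wu1352 wc1353 rfl
theorem wc1354 : allBelow (fun k => fw (Nat.add 17602 k)) 13 = true := by decide +kernel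
theorem wu1354 : ∀ i, i < 17615 → fw i = true := below_step fw 17602 13 17615 wu1353 wc1354 rfl
theorem wc1355 : allBelow (fun k => fw (Nat.add 17615 k)) 13 = true := by decide +kernel
theorem wu1355 : ∀ i, i < 17628 → fw i = true := below_step fw 17615 13 17628 wu1354 wc1355 rfl
theorem wc1356 : allBelow (fun k => fw (Nat.add 17628 k)) 13 = true := by decide +kernel
theorem wu1356 : ∀ i, i < 17641 → fw i = true := below_step fw 17628 13 17641 wu1355 wc1356 rfl
theorem wc1357 : allBelow (fun k => fw (Nat.add 17641 k)) 13 = true := by decide +kernel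
theorem wu1357 : ∀ i, i < 17654 → fw i = true := below_step fw 17641 13 17654 wu1356 wc1357 rfl
theorem wc1358 : allBelow (fun k => fw (Nat.add 17654 k)) 13 = true := by decide +kernel
theorem wu1358 : ∀ i, i < 17667 → fw i = true := below_step fw 17654 13 17667 wu1357 wc1358 rfl
theorem wc1359 : allBelow (fun k => fw (Nat.add 17667 k)) 13 = true := by decide +kernel
theorem wu1359 : ∀ i, i < 17680 → fw i = true := below_step fw 17667 13 17680 wu1358 wc1359 rfl
theorem wc1360 : allBelow (fun k => fw (Nat.add 17680 k)) 13 = true := by decide +kernel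
theorem wu1360 : ∀ i, i < 17693 → fw i = true := below_step fw 17680 13 17693 wu1359 wc1360 rfl
theorem wc1361 : allBelow (fun k => fw (Nat.add 17693 k)) 13 = true := by decide +kernel
theorem wu1361 : ∀ i, i < 17706 → fw i = true := below_step fw 17693 13 17706 wu1360 wc1361 rfl
theorem wc1362 : allBelow (fun k => fw (Nat.add 17706 k)) 13 = true := by decide +kernel
theorem wu1362 : ∀ i, i < 17719 → fw i = true := below_step fw 17706 13 17719 wu1361 wc1362 rfl
theorem wc1363 : allBelow (fun k => fw (Nat.add 17719 k)) 13 = true := by decide +kernel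
theorem wu1363 : ∀ i, i < 17732 → fw i = true := below_step fw 17719 13 17732 wu1362 wc1363 rfl
theorem wc1364 : allBelow (fun k => fw (Nat.add 17732 k)) 13 = true := by decide +kernel
theorem wu1364 : ∀ i, i < 17745 → fw i = true := below_step fw 17732 13 17745 wu1363 wc1364 rfl
theorem wc1365 : allBelow (fun k => fw (Nat.add 17745 k)) 13 = true := by decide +kernel
theorem wu1365 : ∀ i, i < 17758 → fw i = true := below_step fw 17745 13 17758 wu1364 wc1365 rfl
theorem wc1366 : allBelow (fun k => fw (Nat.add 17758 k)) 13 = true := by decide +kernel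
theorem wu1366 : ∀ i, i < 17771 → fw i = true := below_step fw 17758 13 17771 wu1365 wc1366 rfl
theorem wc1367 : allBelow (fun k => fw (Nat.add 17771 k)) 13 = true := by decide +kernel
theorem wu1367 : ∀ i, i < 17784 → fw i = true := below_step fw 17771 13 17784 wu1366 wc1367 rfl
theorem wc1368 : allBelow (fun k => fw (Nat.add 17784 k)) 13 = true := by decide +kernel
theorem wu1368 : ∀ i, i < 17797 → fw i = true := below_step fw 17784 13 17797 wu1367 wc1368 rfl
theorem wc1369 : allBelow (fun k => fw (Nat.add 17797 k)) 13 = true := by decide +kernel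
theorem wu1369 : ∀ i, i < 17810 → fw i = true := below_step fw 17797 13 17810 wu1368 wc1369 rfl
theorem wc1370 : allBelow (fun k => fw (Nat.add 17810 k)) 13 = true := by decide +kernel
theorem wu1370 : ∀ i, i < 17823 → fw i = true := below_step fw 17810 13 17823 wu1369 wc1370 rfl
theorem wc1371 : allBelow (fun k => fw (Nat.add 17823 k)) 13 = true := by decide +kernel
theorem wu1371 : ∀ i, i < 17836 → fw i = true := below_step fw 17823 13 17836 wu1370 wc1371 rfl
theorem wc1372 : allBelow (fun k => fw (Nat.add 17836 k)) 13 = true := by decide +kernel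
theorem wu1372 : ∀ i, i < 17849 → fw i = true := below_step fw 17836 13 17849 wu1371 wc1372 rfl
theorem wc1373 : allBelow (fun k => fw (Nat.add 17849 k)) 13 = true := by decide +kernel
theorem wu1373 : ∀ i, i < 17862 → fw i = true := below_step fw 17849 13 17862 wu1372 wc1373 rfl
theorem wc1374 : allBelow (fun k => fw (Nat.add 17862 k)) 13 = true := by decide +kernel
theorem wu1374 : ∀ i, i < 17875 → fw i = true := below_step fw 17862 13 17875 wu1373 wc1374 rfl
theorem wc1375 : allBelow (fun k => fw (Nat.add 17875 k)) 13 = true := by decide +kernel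
theorem wu1375 : ∀ i, i < 17888 → fw i = true := below_step fw 17875 13 17888 wu1374 wc1375 rfl
theorem wc1376 : allBelow (fun k => fw (Nat.add 17888 k)) 13 = true := by decide +kernel
theorem wu1376 : ∀ i, i < 17901 → fw i = true := below_step fw 17888 13 17901 wu1375 wc1376 rfl
theorem wc1377 : allBelow (fun k => fw (Nat.add 17901 k)) 13 = true := by decide +kernel
theorem wu1377 : ∀ i, i < 17914 → fw i = true := below_step fw 17901 13 17914 wu1376 wc1377 rfl
theorem wc1378 : allBelow (fun k => fw (Nat.add 17914 k)) 13 = true := by decide +kernel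
theorem wu1378 : ∀ i, i < 17927 → fw i = true := below_step fw 17914 13 17927 wu1377 wc1378 rfl
theorem wc1379 : allBelow (fun k => fw (Nat.add 17927 k)) 13 = true := by decide +kernel
theorem wu1379 : ∀ i, i < 17940 → fw i = true := below_step fw 17927 13 17940 wu1378 wc1379 rfl
theorem wc1380 : allBelow (fun k => fw (Nat.add 17940 k)) 13 = true := by decide +kernel
theorem wu1380 : ∀ i, i < 17953 → fw i = true := below_step fw 17940 13 17953 wu1379 wc1380 rfl
theorem wc1381 : allBelow (fun k => fw (Nat.add 17953 k)) 13 = true := by decide +kernel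
theorem wu1381 : ∀ i, i < 17966 → fw i = true := below_step fw 17953 13 17966 wu1380 wc1381 rfl
theorem wc1382 : allBelow (fun k => fw (Nat.add 17966 k)) 13 = true := by decide +kernel
theorem wu1382 : ∀ i, i < 17979 → fw i = true := below_step fw 17966 13 17979 wu1381 wc1382 rfl
theorem wc1383 : allBelow (fun k => fw (Nat.add 17979 k)) 13 = true := by decide +kernel
theorem wu1383 : ∀ i, i < 17992 → fw i = true := below_step fw 17979 13 17992 wu1382 wc1383 rfl
theorem wc1384 : allBelow (fun k => fw (Nat.add 17992 k)) 13 = true := by decide +kernel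
theorem wu1384 : ∀ i, i < 18005 → fw i = true := below_step fw 17992 13 18005 wu1383 wc1384 rfl
theorem wc1385 : allBelow (fun k => fw (Nat.add 18005 k)) 13 = true := by decide +kernel
theorem wu1385 : ∀ i, i < 18018 → fw i = true := below_step fw 18005 13 18018 wu1384 wc1385 rfl
theorem wc1386 : allBelow (fun k => fw (Nat.add 18018 k)) 13 = true := by decide +kernel
theorem wu1386 : ∀ i, i < 18031 → fw i = true := below_step fw 18018 13 18031 wu1385 wc1386 rfl
theorem wc1387 : allBelow (fun k => fw (Nat.add 18031 k)) 13 = true := by decide +kernel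
theorem wu1387 : ∀ i, i < 18044 → fw i = true := below_step fw 18031 13 18044 wu1386 wc1387 rfl
theorem wc1388 : allBelow (fun k => fw (Nat.add 18044 k)) 13 = true := by decide +kernel
theorem wu1388 : ∀ i, i < 18057 → fw i = true := below_step fw 18044 13 18057 wu1387 wc1388 rfl
theorem wc1389 : allBelow (fun k => fw (Nat.add 18057 k)) 13 = true := by decide +kernel
theorem wu1389 : ∀ i, i < 18070 → fw i = true := below_step fw 18057 13 18070 wu1388 wc1389 rfl
theorem wc1390 : allBelow (fun k => fw (Nat.add 18070 k)) 13 = true := by decide +kernel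
theorem wu1390 : ∀ i, i < 18083 → fw i = true := below_step fw 18070 13 18083 wu1389 wc1390 rfl
theorem wc1391 : allBelow (fun k => fw (Nat.add 18083 k)) 13 = true := by decide +kernel
theorem wu1391 : ∀ i, i < 18096 → fw i = true := below_step fw 18083 13 18096 wu1390 wc1391 rfl
theorem wc1392 : allBelow (fun k => fw (Nat.add 18096 k)) 13 = true := by decide +kernel
theorem wu1392 : ∀ i, i < 18109 → fw i = true := below_step fw 18096 13 18109 wu1391 wc1392 rfl
theorem wc1393 : allBelow (fun k => fw (Nat.add 18109 k)) 13 = true := by decide +kernel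
theorem wu1393 : ∀ i, i < 18122 → fw i = true := below_step fw 18109 13 18122 wu1392 wc1393 rfl
theorem wc1394 : allBelow (fun k => fw (Nat.add 18122 k)) 13 = true := by decide +kernel
theorem wu1394 : ∀ i, i < 18135 → fw i = true := below_step fw 18122 13 18135 wu1393 wc1394 rfl
theorem wc1395 : allBelow (fun k => fw (Nat.add 18135 k)) 13 = true := by decide +kernel
theorem wu1395 : ∀ i, i < 18148 → fw i = true := below_step fw 18135 13 18148 wu1394 wc1395 rfl
theorem wc1396 : allBelow (fun k => fw (Nat.add 18148 k)) 13 = true := by decide +kernel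
theorem wu1396 : ∀ i, i < 18161 → fw i = true := below_step fw 18148 13 18161 wu1395 wc1396 rfl
theorem wc1397 : allBelow (fun k => fw (Nat.add 18161 k)) 13 = true := by decide +kernel
theorem wu1397 : ∀ i, i < 18174 → fw i = true := below_step fw 18161 13 18174 wu1396 wc1397 rfl
theorem wc1398 : allBelow (fun k => fw (Nat.add 18174 k)) 13 = true := by decide +kernel
theorem wu1398 : ∀ i, i < 18187 → fw i = true := below_step fw 18174 13 18187 wu1397 wc1398 rfl
theorem wc1399 : allBelow (fun k => fw (Nat.add 18187 k)) 13 = true := by decide +kernel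
theorem wu1399 : ∀ i, i < 18200 → fw i = true := below_step fw 18187 13 18200 wu1398 wc1399 rfl
theorem wc1400 : allBelow (fun k => fw (Nat.add 18200 k)) 13 = true := by decide +kernel
theorem wu1400 : ∀ i, i < 18213 → fw i = true := below_step fw 18200 13 18213 wu1399 wc1400 rfl

end Cfsg.Agent.Lib.Helper35.Fi23Ord.X0
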