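import Cfsg.Agent.Lib.Helper35.Fi23Ord.X0.Chk7

set_option Elab.async false

namespace Cfsg.Agent.Lib.Helper35.Fi23Ord.X0

open Cfsg.Agent.Lib.Helper35

theorem wc1401 : allBelow (fun k => fw (Nat.add 18213 k)) 13 = true := by decide +kernel
theorem wu1401 : ∀ i, i < 18226 → fw i = true := below_step fw 18213 13 18226 wu1400 wc1401 rfl
theorem wc1402 : allBelow (fun k => fw (Nat.add 18226 k)) 13 = true := by decide +kernel
theorem wu1402 : ∀ i, i < 18239 → fw i = true := below_step fw 18226 13 18239 wu1401 wc1402 rfl
theorem wc1403 : allBelow (fun k => fw (Nat.add 18239 k)) 13 = true := by decide +kernel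
theorem wu1403 : ∀ i, i < 18252 → fw i = true := below_step fw 18239 13 18252 wu1402 wc1403 rfl
theorem wc1404 : allBelow (fun k => fw (Nat.add 18252 k)) 13 = true := by decide +kernel
theorem wu1404 : ∀ i, i < 18265 → fw i = true := below_step fw 18252 13 18265 wu1403 wc1404 rfl
theorem wc1405 : allBelow (fun k => fw (Nat.add 18265 k)) 13 = true := by decide +kernel
theorem wu1405 : ∀ i, i < 18278 → fw i = true := below_step fw 18265 13 18278 wu1404 wc1405 rfl
theorem wc1406 : allBelow (fun k => fw (Nat.add 18278 k)) 13 = true := by decide +kernel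
theorem wu1406 : ∀ i, i < 18291 → fw i = true := below_step fw 18278 13 18291 wu1405 wc1406 rfl
theorem wc1407 : allBelow (fun k => fw (Nat.add 18291 k)) 13 = true := by decide +kernel
theorem wu1407 : ∀ i, i < 18304 → fw i = true := below_step fw 18291 13 18304 wu1406 wc1407 rfl
theorem wc1408 : allBelow (fun k => fw (Nat.add 18304 k)) 13 = true := by decide +kernel
theorem wu1408 : ∀ i, i < 18317 → fw i = true := below_step fw 18304 13 18317 wu1407 wc1408 rfl
theorem wc1409 : allBelow (fun k => fw (Nat.add 18317 k)) 13 = true := by decide +kernel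
theorem wu1409 : ∀ i, i < 18330 → fw i = true := below_step fw 18317 13 18330 wu1408 wc1409 rfl
theorem wc1410 : allBelow (fun k => fw (Nat.add 18330 k)) 13 = true := by decide +kernel
theorem wu1410 : ∀ i, i < 18343 → fw i = true := below_step fw 18330 13 18343 wu1409 wc1410 rfl
theorem wc1411 : allBelow (fun k => fw (Nat.add 18343 k)) 13 = true := by decide +kernel
theorem wu1411 : ∀ i, i < 18356 → fw i = true := below_step fw 18343 13 18356 wu1410 wc1411 rfl
theorem wc1412 : allBelow (fun k => fw (Nat.add 18356 k)) 13 = true := by decide +kernel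
theorem wu1412 : ∀ i, i < 18369 → fw i = true := below_step fw 18356 13 18369 wu1411 wc1412 rfl
theorem wc1413 : allBelow (fun k => fw (Nat.add 18369 k)) 13 = true := by decide +kernel
theorem wu1413 : ∀ i, i < 18382 → fw i = true := below_step fw 18369 13 18382 wu1412 wc1413 rfl
theorem wc1414 : allBelow (fun k => fw (Nat.add 18382 k)) 13 = true := by decide +kernel
theorem wu1414 : ∀ i, i < 18395 → fw i = true := below_step fw 18382 13 18395 wu1413 wc1414 rfl
theorem wc1415 : allBelow (fun k => fw (Nat.add 18395 k)) 13 = true := by decide +kernel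
theorem wu1415 : ∀ i, i < 18408 → fw i = true := below_step fw 18395 13 18408 wu1414 wc1415 rfl
theorem wc1416 : allBelow (fun k => fw (Nat.add 18408 k)) 13 = true := by decide +kernel
theorem wu1416 : ∀ i, i < 18421 → fw i = true := below_step fw 18408 13 18421 wu1415 wc1416 rfl
theorem wc1417 : allBelow (fun k => fw (Nat.add 18421 k)) 13 = true := by decide +kernel
theorem wu1417 : ∀ i, i < 18434 → fw i = true := below_step fw 18421 13 18434 wu1416 wc1417 rfl
theorem wc1418 : allBelow (fun k => fw (Nat.add 18434 k)) 13 = true := by decide +kernel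
theorem wu1418 : ∀ i, i < 18447 → fw i = true := below_step fw 18434 13 18447 wu1417 wc1418 rfl
theorem wc1419 : allBelow (fun k => fw (Nat.add 18447 k)) 13 = true := by decide +kernel
theorem wu1419 : ∀ i, i < 18460 → fw i = true := below_step fw 18447 13 18460 wu1418 wc1419 rfl
theorem wc1420 : allBelow (fun k => fw (Nat.add 18460 k)) 13 = true := by decide +kernel
theorem wu1420 : ∀ i, i < 18473 → fw i = true := below_step fw 18460 13 18473 wu1419 wc1420 rfl
theorem wc1421 : allBelow (fun k => fw (Nat.add 18473 k)) 13 = true := by decide +kernel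
theorem wu1421 : ∀ i, i < 18486 → fw i = true := below_step fw 18473 13 18486 wu1420 wc1421 rfl
theorem wc1422 : allBelow (fun k => fw (Nat.add 18486 k)) 13 = true := by decide +kernel
theorem wu1422 : ∀ i, i < 18499 → fw i = true := below_step fw 18486 13 18499 wu1421 wc1422 rfl
theorem wc1423 : allBelow (fun k => fw (Nat.add 18499 k)) 13 = true := by decide +kernel
theorem wu1423 : ∀ i, i < 18512 → fw i = true := below_step fw 18499 13 18512 wu1422 wc1423 rfl
theorem wc1424 : allBelow (fun k => fw (Nat.add 18512 k)) 13 = true := by decide +kernel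
theorem wu1424 : ∀ i, i < 18525 → fw i = true := below_step fw 18512 13 18525 wu1423 wc1424 rfl
theorem wc1425 : allBelow (fun k => fw (Nat.add 18525 k)) 13 = true := by decide +kernel
theorem wu1425 : ∀ i, i < 18538 → fw i = true := below_step fw 18525 13 18538 wu1424 wc1425 rfl
theorem wc1426 : allBelow (fun k => fw (Nat.add 18538 k)) 13 = true := by decide +kernel
theorem wu1426 : ∀ i, i < 18551 → fw i = true := below_step fw 18538 13 18551 wu1425 wc1426 rfl
theorem wc1427 : allBelow (fun k => fw (Nat.add 18551 k)) 13 = true := by decide +kernel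
theorem wu1427 : ∀ i, i < 18564 → fw i = true := below_step fw 18551 13 18564 wu1426 wc1427 rfl
theorem wc1428 : allBelow (fun k => fw (Nat.add 18564 k)) 13 = true := by decide +kernel
theorem wu1428 : ∀ i, i < 18577 → fw i = true := below_step fw 18564 13 18577 wu1427 wc1428 rfl
theorem wc1429 : allBelow (fun k => fw (Nat.add 18577 k)) 13 = true := by decide +kernel
theorem wu1429 : ∀ i, i < 18590 → fw i = true := below_step fw 18577 13 18590 wu1428 wc1429 rfl
theorem wc1430 : allBelow (fun k => fw (Nat.add 18590 k)) 13 = true := by decide +kernel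
theorem wu1430 : ∀ i, i < 18603 → fw i = true := below_step fw 18590 13 18603 wu1429 wc1430 rfl
theorem wc1431 : allBelow (fun k => fw (Nat.add 18603 k)) 13 = true := by decide +kernel
theorem wu1431 : ∀ i, i < 18616 → fw i = true := below_step fw 18603 13 18616 wu1430 wc1431 rfl
theorem wc1432 : allBelow (fun k => fw (Nat.add 18616 k)) 13 = true := by decide +kernel
theorem wu1432 : ∀ i, i < 18629 → fw i = true := below_step fw 18616 13 18629 wu1431 wc1432 rfl
theorem wc1433 : allBelow (fun k => fw (Nat.add 18629 k)) 13 = true := by decide +kernel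
theorem wu1433 : ∀ i, i < 18642 → fw i = true := below_step fw 18629 13 18642 wu1432 wc1433 rfl
theorem wc1434 : allBelow (fun k => fw (Nat.add 18642 k)) 13 = true := by decide +kernel
theorem wu1434 : ∀ i, i < 18655 → fw i = true := below_step fw 18642 13 18655 wu1433 wc1434 rfl
theorem wc1435 : allBelow (fun k => fw (Nat.add 18655 k)) 13 = true := by decide +kernel
theorem wu1435 : ∀ i, i < 18668 → fw i = true := below_step fw 18655 13 18668 wu1434 wc1435 rfl
theorem wc1436 : allBelow (fun k => fw (Nat.add 18668 k)) 13 = true := by decide +kernel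
theorem wu1436 : ∀ i, i < 18681 → fw i = true := below_step fw 18668 13 18681 wu1435 wc1436 rfl
theorem wc1437 : allBelow (fun k => fw (Nat.add 18681 k)) 13 = true := by decide +kernel
theorem wu1437 : ∀ i, i < 18694 → fw i = true := below_step fw 18681 13 18694 wu1436 wc1437 rfl
theorem wc1438 : allBelow (fun k => fw (Nat.add 18694 k)) 13 = true := by decide +kernel
theorem wu1438 : ∀ i, i < 18707 → fw i = true := below_step fw 18694 13 18707 wu1437 wc1438 rfl
theorem wc1439 : allBelow (fun k => fw (Nat.add 18707 k)) 13 = true := by decide +kernel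
theorem wu1439 : ∀ i, i < 18720 → fw i = true := below_step fw 18707 13 18720 wu1438 wc1439 rfl
theorem wc1440 : allBelow (fun k => fw (Nat.add 18720 k)) 13 = true := by decide +kernel
theorem wu1440 : ∀ i, i < 18733 → fw i = true := below_step fw 18720 13 18733 wu1439 wc1440 rfl
theorem wc1441 : allBelow (fun k => fw (Nat.add 18733 k)) 13 = true := by decide +kernel
theorem wu1441 : ∀ i, i < 18746 → fw i = true := below_step fw 18733 13 18746 wu1440 wc1441 rfl
theorem wc1442 : allBelow (fun k => fw (Nat.add 18746 k)) 13 = true := by decide +kernel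
theorem wu1442 : ∀ i, i < 18759 → fw i = true := below_step fw 18746 13 18759 wu1441 wc1442 rfl
theorem wc1443 : allBelow (fun k => fw (Nat.add 18759 k)) 13 = true := by decide +kernel
theorem wu1443 : ∀ i, i < 18772 → fw i = true := below_step fw 18759 13 18772 wu1442 wc1443 rfl
theorem wc1444 : allBelow (fun k => fw (Nat.add 18772 k)) 13 = true := by decide +kernel
theorem wu1444 : ∀ i, i < 18785 → fw i = true := below_step fw 18772 13 18785 wu1443 wc1444 rfl
theorem wc1445 : allBelow (fun k => fw (Nat.add 18785 k)) 13 = true := by decide +kernel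
theorem wu1445 : ∀ i, i < 18798 → fw i = true := below_step fw 18785 13 18798 wu1444 wc1445 rfl
theorem wc1446 : allBelow (fun k => fw (Nat.add 18798 k)) 13 = true := by decide +kernel
theorem wu1446 : ∀ i, i < 18811 → fw i = true := below_step fw 18798 13 18811 wu1445 wc1446 rfl
theorem wc1447 : allBelow (fun k => fw (Nat.add 18811 k)) 13 = true := by decide +kernel
theorem wu1447 : ∀ i, i < 18824 → fw i = true := below_step fw 18811 13 18824 wu1446 wc1447 rfl
theorem wc1448 : allBelow (fun k => fw (Nat.add 18824 k)) 13 = true := by decide +kernel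
theorem wu1448 : ∀ i, i < 18837 → fw i = true := below_step fw 18824 13 18837 wu1447 wc1448 rfl
theorem wc1449 : allBelow (fun k => fw (Nat.add 18837 k)) 13 = true := by decide +kernel
theorem wu1449 : ∀ i, i < 18850 → fw i = true := below_step fw 18837 13 18850 wu1448 wc1449 rfl
theorem wc1450 : allBelow (fun k => fw (Nat.add 18850 k)) 13 = true := by decide +kernel
theorem wu1450 : ∀ i, i < 18863 → fw i = true := below_step fw 18850 13 18863 wu1449 wc1450 rfl
theorem wc1451 : allBelow (fun k => fw (Nat.add 18863 k)) 13 = true := by decide +kernel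
theorem wu1451 : ∀ i, i < 18876 → fw i = true := below_step fw 18863 13 18876 wu1450 wc1451 rfl
theorem wc1452 : allBelow (fun k => fw (Nat.add 18876 k)) 13 = true := by decide +kernel
theorem wu1452 : ∀ i, i < 18889 → fw i = true := below_step fw 18876 13 18889 wu1451 wc1452 rfl
theorem wc1453 : allBelow (fun k => fw (Nat.add 18889 k)) 13 = true := by decide +kernel
theorem wu1453 : ∀ i, i < 18902 → fw i = true := below_step fw 18889 13 18902 wu1452 wc1453 rfl
theorem wc1454 : allBelow (fun k => fw (Nat.add 18902 k)) 13 = true := by decide +kernel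
theorem wu1454 : ∀ i, i < 18915 → fw i = true := below_step fw 18902 13 18915 wu1453 wc1454 rfl
theorem wc1455 : allBelow (fun k => fw (Nat.add 18915 k)) 13 = true := by decide +kernel
theorem wu1455 : ∀ i, i < 18928 → fw i = true := below_step fw 18915 13 18928 wu1454 wc1455 rfl
theorem wc1456 : allBelow (fun k => fw (Nat.add 18928 k)) 13 = true := by decide +kernel
theorem wu1456 : ∀ i, i < 18941 → fw i = true := below_step fw 18928 13 18941 wu1455 wc1456 rfl
theorem wc1457 : allBelow (fun k => fw (Nat.add 18941 k)) 13 = true := by decide +kernel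
theorem wu1457 : ∀ i, i < 18954 → fw i = true := below_step fw 18941 13 18954 wu1456 wc1457 rfl
theorem wc1458 : allBelow (fun k => fw (Nat.add 18954 k)) 13 = true := by decide +kernel
theorem wu1458 : ∀ i, i < 18967 → fw i = true := below_step fw 18954 13 18967 wu1457 wc1458 rfl
theorem wc1459 : allBelow (fun k => fw (Nat.add 18967 k)) 13 = true := by decide +kernel
theorem wu1459 : ∀ i, i < 18980 → fw i = true := below_step fw 18967 13 18980 wu1458 wc1459 rfl
theorem wc1460 : allBelow (fun k => fw (Nat.add 18980 k)) 13 = true := by decide +kernel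
theorem wu1460 : ∀ i, i < 18993 → fw i = true := below_step fw 18980 13 18993 wu1459 wc1460 rfl
theorem wc1461 : allBelow (fun k => fw (Nat.add 18993 k)) 13 = true := by decide +kernel
theorem wu1461 : ∀ i, i < 19006 → fw i = true := below_step fw 18993 13 19006 wu1460 wc1461 rfl
theorem wc1462 : allBelow (fun k => fw (Nat.add 19006 k)) 13 = true := by decide +kernel
theorem wu1462 : ∀ i, i < 19019 → fw i = true := below_step fw 19006 13 19019 wu1461 wc1462 rfl
theorem wc1463 : allBelow (fun k => fw (Nat.add 19019 k)) 13 = true := by decide +kernel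
theorem wu1463 : ∀ i, i < 19032 → fw i = true := below_step fw 19019 13 19032 wu1462 wc1463 rfl
theorem wc1464 : allBelow (fun k => fw (Nat.add 19032 k)) 13 = true := by decide +kernel
theorem wu1464 : ∀ i, i < 19045 → fw i = true := below_step fw 19032 13 19045 wu1463 wc1464 rfl
theorem wc1465 : allBelow (fun k => fw (Nat.add 19045 k)) 13 = true := by decide +kernel
theorem wu1465 : ∀ i, i < 19058 → fw i = true := below_step fw 19045 13 19058 wu1464 wc1465 rfl
theorem wc1466 : allBelow (fun k => fw (Nat.add 19058 k)) 13 = true := by decide +kernel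
theorem wu1466 : ∀ i, i < 19071 → fw i = true := below_step fw 19058 13 19071 wu1465 wc1466 rfl
theorem wc1467 : allBelow (fun k => fw (Nat.add 19071 k)) 13 = true := by decide +kernel
theorem wu1467 : ∀ i, i < 19084 → fw i = true := below_step fw 19071 13 19084 wu1466 wc1467 rfl
theorem wc1468 : allBelow (fun k => fw (Nat.add 19084 k)) 13 = true := by decide +kernel
theorem wu1468 : ∀ i, i < 19097 → fw i = true := below_step fw 19084 13 19097 wu1467 wc1468 rfl
theorem wc1469 : allBelow (fun k => fw (Nat.add 19097 k)) 13 = true := by decide +kernel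
theorem wu1469 : ∀ i, i < 19110 → fw i = true := below_step fw 19097 13 19110 wu1468 wc1469 rfl
theorem wc1470 : allBelow (fun k => fw (Nat.add 19110 k)) 13 = true := by decide +kernel
theorem wu1470 : ∀ i, i < 19123 → fw i = true := below_step fw 19110 13 19123 wu1469 wc1470 rfl
theorem wc1471 : allBelow (fun k => fw (Nat.add 19123 k)) 13 = true := by decide +kernel
theorem wu1471 : ∀ i, i < 19136 → fw i = true := below_step fw 19123 13 19136 wu1470 wc1471 rfl
theorem wc1472 : allBelow (fun k => fw (Nat.add 19136 k)) 13 = true := by decide +kernel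
theorem wu1472 : ∀ i, i < 19149 → fw i = true := below_step fw 19136 13 19149 wu1471 wc1472 rfl
theorem wc1473 : allBelow (fun k => fw (Nat.add 19149 k)) 13 = true := by decide +kernel
theorem wu1473 : ∀ i, i < 19162 → fw i = true := below_step fw 19149 13 19162 wu1472 wc1473 rfl
theorem wc1474 : allBelow (fun k => fw (Nat.add 19162 k)) 13 = true := by decide +kernel
theorem wu1474 : ∀ i, i < 19175 → fw i = true := below_step fw 19162 13 19175 wu1473 wc1474 rfl
theorem wc1475 : allBelow (fun k => fw (Nat.add 19175 k)) 13 = true := by decide +kernel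
theorem wu1475 : ∀ i, i < 19188 → fw i = true := below_step fw 19175 13 19188 wu1474 wc1475 rfl
theorem wc1476 : allBelow (fun k => fw (Nat.add 19188 k)) 13 = true := by decide +kernel
theorem wu1476 : ∀ i, i < 19201 → fw i = true := below_step fw 19188 13 19201 wu1475 wc1476 rfl
theorem wc1477 : allBelow (fun k => fw (Nat.add 19201 k)) 13 = true := by decide +kernel
theorem wu1477 : ∀ i, i < 19214 → fw i = true := below_step fw 19201 13 19214 wu1476 wc1477 rfl
theorem wc1478 : allBelow (fun k => fw (Nat.add 19214 k)) 13 = true := by decide +kernel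
theorem wu1478 : ∀ i, i < 19227 → fw i = true := below_step fw 19214 13 19227 wu1477 wc1478 rfl
theorem wc1479 : allBelow (fun k => fw (Nat.add 19227 k)) 13 = true := by decide +kernel
theorem wu1479 : ∀ i, i < 19240 → fw i = true := below_step fw 19227 13 19240 wu1478 wc1479 rfl
theorem wc1480 : allBelow (fun k => fw (Nat.add 19240 k)) 13 = true := by decide +kernel
theorem wu1480 : ∀ i, i < 19253 → fw i = true := below_step fw 19240 13 19253 wu1479 wc1480 rfl
theorem wc1481 : allBelow (fun k => fw (Nat.add 19253 k)) 13 = true := by decide +kernel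
theorem wu1481 : ∀ i, i < 19266 → fw i = true := below_step fw 19253 13 19266 wu1480 wc1481 rfl
theorem wc1482 : allBelow (fun k => fw (Nat.add 19266 k)) 13 = true := by decide +kernel
theorem wu1482 : ∀ i, i < 19279 → fw i = true := below_step fw 19266 13 19279 wu1481 wc1482 rfl
theorem wc1483 : allBelow (fun k => fw (Nat.add 19279 k)) 13 = true := by decide +kernel
theorem wu1483 : ∀ i, i < 19292 → fw i = true := below_step fw 19279 13 19292 wu1482 wc1483 rfl
theorem wc1484 : allBelow (fun k => fw (Nat.add 19292 k)) 13 = true := by decide +kernel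
theorem wu1484 : ∀ i, i < 19305 → fw i = true := below_step fw 19292 13 19305 wu1483 wc1484 rfl
theorem wc1485 : allBelow (fun k => fw (Nat.add 19305 k)) 13 = true := by decide +kernel
theorem wu1485 : ∀ i, i < 19318 → fw i = true := below_step fw 19305 13 19318 wu1484 wc1485 rfl
theorem wc1486 : allBelow (fun k => fw (Nat.add 19318 k)) 13 = true := by decide +kernel
theorem wu1486 : ∀ i, i < 19331 → fw i = true := below_step fw 19318 13 19331 wu1485 wc1486 rfl
theorem wc1487 : allBelow (fun k => fw (Nat.add 19331 k)) 13 = true := by decide +kernel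
theorem wu1487 : ∀ i, i < 19344 → fw i = true := below_step fw 19331 13 19344 wu1486 wc1487 rfl
theorem wc1488 : allBelow (fun k => fw (Nat.add 19344 k)) 13 = true := by decide +kernel
theorem wu1488 : ∀ i, i < 19357 → fw i = true := below_step fw 19344 13 19357 wu1487 wc1488 rfl
theorem wc1489 : allBelow (fun k => fw (Nat.add 19357 k)) 13 = true := by decide +kernel
theorem wu1489 : ∀ i, i < 19370 → fw i = true := below_step fw 19357 13 19370 wu1488 wc1489 rfl
theorem wc1490 : allBelow (fun k => fw (Nat.add 19370 k)) 13 = true := by decide +kernel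
theorem wu1490 : ∀ i, i < 19383 → fw i = true := below_step fw 19370 13 19383 wu1489 wc1490 rfl
theorem wc1491 : allBelow (fun k => fw (Nat.add 19383 k)) 13 = true := by decide +kernel
theorem wu1491 : ∀ i, i < 19396 → fw i = true := below_step fw 19383 13 19396 wu1490 wc1491 rfl
theorem wc1492 : allBelow (fun k => fw (Nat.add 19396 k)) 13 = true := by decide +kernel
theorem wu1492 : ∀ i, i < 19409 → fw i = true := below_step fw 19396 13 19409 wu1491 wc1492 rfl
theorem wc1493 : allBelow (fun k => fw (Nat.add 19409 k)) 13 = true := by decide +kernel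
theorem wu1493 : ∀ i, i < 19422 → fw i = true := below_step fw 19409 13 19422 wu1492 wc1493 rfl
theorem wc1494 : allBelow (fun k => fw (Nat.add 19422 k)) 13 = true := by decide +kernel
theorem wu1494 : ∀ i, i < 19435 → fw i = true := below_step fw 19422 13 19435 wu1493 wc1494 rfl
theorem wc1495 : allBelow (fun k => fw (Nat.add 19435 k)) 13 = true := by decide +kernel
theorem wu1495 : ∀ i, i < 19448 → fw i = true := below_step fw 19435 13 19448 wu1494 wc1495 rfl
theorem wc1496 : allBelow (fun k => fw (Nat.add 19448 k)) 13 = true := by decide +kernel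
theorem wu1496 : ∀ i, i < 19461 → fw i = true := below_step fw 19448 13 19461 wu1495 wc1496 rfl
theorem wc1497 : allBelow (fun k => fw (Nat.add 19461 k)) 13 = true := by decide +kernel
theorem wu1497 : ∀ i, i < 19474 → fw i = true := below_step fw 19461 13 19474 wu1496 wc1497 rfl
theorem wc1498 : allBelow (fun k => fw (Nat.add 19474 k)) 13 = true := by decide +kernel
theorem wu1498 : ∀ i, i < 19487 → fw i = true := below_step fw 19474 13 19487 wu1497 wc1498 rfl
theorem wc1499 : allBelow (fun k => fw (Nat.add 19487 k)) 13 = true := by decide +kernel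
theorem wu1499 : ∀ i, i < 19500 → fw i = true := below_step fw 19487 13 19500 wu1498 wc1499 rfl
theorem wc1500 : allBelow (fun k => fw (Nat.add 19500 k)) 13 = true := by decide +kernel
theorem wu1500 : ∀ i, i < 19513 → fw i = true := below_step fw 19500 13 19513 wu1499 wc1500 rfl
theorem wc1501 : allBelow (fun k => fw (Nat.add 19513 k)) 13 = true := by decide +kernel
theorem wu1501 : ∀ i, i < 19526 → fw i = true := below_step fw 19513 13 19526 wu1500 wc1501 rfl
theorem wc1502 : allBelow (fun k => fw (Nat.add 19526 k)) 13 = true := by decide +kernel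
theorem wu1502 : ∀ i, i < 19539 → fw i = true := below_step fw 19526 13 19539 wu1501 wc1502 rfl
theorem wc1503 : allBelow (fun k => fw (Nat.add 19539 k)) 13 = true := by decide +kernel
theorem wu1503 : ∀ i, i < 19552 → fw i = true := below_step fw 19539 13 19552 wu1502 wc1503 rfl
theorem wc1504 : allBelow (fun k => fw (Nat.add 19552 k)) 13 = true := by decide +kernel
theorem wu1504 : ∀ i, i < 19565 → fw i = true := below_step fw 19552 13 19565 wu1503 wc1504 rfl
theorem wc1505 : allBelow (fun k => fw (Nat.add 19565 k)) 13 = true := by decide +kernel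
theorem wu1505 : ∀ i, i < 19578 → fw i = true := below_step fw 19565 13 19578 wu1504 wc1505 rfl
theorem wc1506 : allBelow (fun k => fw (Nat.add 19578 k)) 13 = true := by decide +kernel
theorem wu1506 : ∀ i, i < 19591 → fw i = true := below_step fw 19578 13 19591 wu1505 wc1506 rfl
theorem wc1507 : allBelow (fun k => fw (Nat.add 19591 k)) 13 = true := by decide +kernel
theorem wu1507 : ∀ i, i < 19604 → fw i = true := below_step fw 19591 13 19604 wu1506 wc1507 rfl
theorem wc1508 : allBelow (fun k => fw (Nat.add 19604 k)) 13 = true := by decide +kernel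
theorem wu1508 : ∀ i, i < 19617 → fw i = true := below_step fw 19604 13 19617 wu1507 wc1508 rfl
theorem wc1509 : allBelow (fun k => fw (Nat.add 19617 k)) 13 = true := by decide +kernel
theorem wu1509 : ∀ i, i < 19630 → fw i = true := below_step fw 19617 13 19630 wu1508 wc1509 rfl
theorem wc1510 : allBelow (fun k => fw (Nat.add 19630 k)) 13 = true := by decide +kernel
theorem wu1510 : ∀ i, i < 19643 → fw i = true := below_step fw 19630 13 19643 wu1509 wc1510 rfl
theorem wc1511 : allBelow (fun k => fw (Nat.add 19643 k)) 13 = true := by decide +kernel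
theorem wu1511 : ∀ i, i < 19656 → fw i = true := below_step fw 19643 13 19656 wu1510 wc1511 rfl
theorem wc1512 : allBelow (fun k => fw (Nat.add 19656 k)) 13 = true := by decide +kernel
theorem wu1512 : ∀ i, i < 19669 → fw i = true := below_step fw 19656 13 19669 wu1511 wc1512 rfl
theorem wc1513 : allBelow (fun k => fw (Nat.add 19669 k)) 13 = true := by decide +kernel
theorem wu1513 : ∀ i, i < 19682 → fw i = true := below_step fw 19669 13 19682 wu1512 wc1513 rfl
theorem wc1514 : allBelow (fun k => fw (Nat.add 19682 k)) 13 = true := by decide +kernel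
theorem wu1514 : ∀ i, i < 19695 → fw i = true := below_step fw 19682 13 19695 wu1513 wc1514 rfl
theorem wc1515 : allBelow (fun k => fw (Nat.add 19695 k)) 13 = true := by decide +kernel
theorem wu1515 : ∀ i, i < 19708 → fw i = true := below_step fw 19695 13 19708 wu1514 wc1515 rfl
theorem wc1516 : allBelow (fun k => fw (Nat.add 19708 k)) 13 = true := by decide +kernel
theorem wu1516 : ∀ i, i < 19721 → fw i = true := below_step fw 19708 13 19721 wu1515 wc1516 rfl
theorem wc1517 : allBelow (fun k => fw (Nat.add 19721 k)) 13 = true := by decide +kernel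
theorem wu1517 : ∀ i, i < 19734 → fw i = true := below_step fw 19721 13 19734 wu1516 wc1517 rfl
theorem wc1518 : allBelow (fun k => fw (Nat.add 19734 k)) 13 = true := by decide +kernel
theorem wu1518 : ∀ i, i < 19747 → fw i = true := below_step fw 19734 13 19747 wu1517 wc1518 rfl
theorem wc1519 : allBelow (fun k => fw (Nat.add 19747 k)) 13 = true := by decide +kernel
theorem wu1519 : ∀ i, i < 19760 → fw i = true := below_step fw 19747 13 19760 wu1518 wc1519 rfl
theorem wc1520 : allBelow (fun k => fw (Nat.add 19760 k)) 13 = true := by decide +kernel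
theorem wu1520 : ∀ i, i < 19773 → fw i = true := below_step fw 19760 13 19773 wu1519 wc1520 rfl
theorem wc1521 : allBelow (fun k => fw (Nat.add 19773 k)) 13 = true := by decide +kernel
theorem wu1521 : ∀ i, i < 19786 → fw i = true := below_step fw 19773 13 19786 wu1520 wc1521 rfl
theorem wc1522 : allBelow (fun k => fw (Nat.add 19786 k)) 13 = true := by decide +kernel
theorem wu1522 : ∀ i, i < 19799 → fw i = true := below_step fw 19786 13 19799 wu1521 wc1522 rfl
theorem wc1523 : allBelow (fun k => fw (Nat.add 19799 k)) 13 = true := by decide +kernel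
theorem wu1523 : ∀ i, i < 19812 → fw i = true := below_step fw 19799 13 19812 wu1522 wc1523 rfl
theorem wc1524 : allBelow (fun k => fw (Nat.add 19812 k)) 13 = true := by decide +kernel
theorem wu1524 : ∀ i, i < 19825 → fw i = true := below_step fw 19812 13 19825 wu1523 wc1524 rfl
theorem wc1525 : allBelow (fun k => fw (Nat.add 19825 k)) 13 = true := by decide +kernel
theorem wu1525 : ∀ i, i < 19838 → fw i = true := below_step fw 19825 13 19838 wu1524 wc1525 rfl
theorem wc1526 : allBelow (fun k => fw (Nat.add 19838 k)) 13 = true := by decide +kernel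
theorem wu1526 : ∀ i, i < 19851 → fw i = true := below_step fw 19838 13 19851 wu1525 wc1526 rfl
theorem wc1527 : allBelow (fun k => fw (Nat.add 19851 k)) 13 = true := by decide +kernel
theorem wu1527 : ∀ i, i < 19864 → fw i = true := below_step fw 19851 13 19864 wu1526 wc1527 rfl
theorem wc1528 : allBelow (fun k => fw (Nat.add 19864 k)) 13 = true := by decide +kernel
theorem wu1528 : ∀ i, i < 19877 → fw i = true := below_step fw 19864 13 19877 wu1527 wc1528 rfl
theorem wc1529 : allBelow (fun k => fw (Nat.add 19877 k)) 13 = true := by decide +kernel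
theorem wu1529 : ∀ i, i < 19890 → fw i = true := below_step fw 19877 13 19890 wu1528 wc1529 rfl
theorem wc1530 : allBelow (fun k => fw (Nat.add 19890 k)) 13 = true := by decide +kernel
theorem wu1530 : ∀ i, i < 19903 → fw i = true := below_step fw 19890 13 19903 wu1529 wc1530 rfl
theorem wc1531 : allBelow (fun k => fw (Nat.add 19903 k)) 13 = true := by decide +kernel
theorem wu1531 : ∀ i, i < 19916 → fw i = true := below_step fw 19903 13 19916 wu1530 wc1531 rfl
theorem wc1532 : allBelow (fun k => fw (Nat.add 19916 k)) 13 = true := by decide +kernel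
theorem wu1532 : ∀ i, i < 19929 → fw i = true := below_step fw 19916 13 19929 wu1531 wc1532 rfl
theorem wc1533 : allBelow (fun k => fw (Nat.add 19929 k)) 13 = true := by decide +kernel
theorem wu1533 : ∀ i, i < 19942 → fw i = true := below_step fw 19929 13 19942 wu1532 wc1533 rfl
theorem wc1534 : allBelow (fun k => fw (Nat.add 19942 k)) 13 = true := by decide +kernel
theorem wu1534 : ∀ i, i < 19955 → fw i = true := below_step fw 19942 13 19955 wu1533 wc1534 rfl
theorem wc1535 : allBelow (fun k => fw (Nat.add 19955 k)) 13 = true := by decide +kernel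
theorem wu1535 : ∀ i, i < 19968 → fw i = true := below_step fw 19955 13 19968 wu1534 wc1535 rfl
theorem wc1536 : allBelow (fun k => fw (Nat.add 19968 k)) 13 = true := by decide +kernel
theorem wu1536 : ∀ i, i < 19981 → fw i = true := below_step fw 19968 13 19981 wu1535 wc1536 rfl
theorem wc1537 : allBelow (fun k => fw (Nat.add 19981 k)) 13 = true := by decide +kernel
theorem wu1537 : ∀ i, i < 19994 → fw i = true := below_step fw 19981 13 19994 wu1536 wc1537 rfl
theorem wc1538 : allBelow (fun k => fw (Nat.add 19994 k)) 13 = true := by decide +kernel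
theorem wu1538 : ∀ i, i < 20007 → fw i = true := below_step fw 19994 13 20007 wu1537 wc1538 rfl
theorem wc1539 : allBelow (fun k => fw (Nat.add 20007 k)) 13 = true := by decide +kernel
theorem wu1539 : ∀ i, i < 20020 → fw i = true := below_step fw 20007 13 20020 wu1538 wc1539 rfl
theorem wc1540 : allBelow (fun k => fw (Nat.add 20020 k)) 13 = true := by decide +kernel
theorem wu1540 : ∀ i, i < 20033 → fw i = true := below_step fw 20020 13 20033 wu1539 wc1540 rfl
theorem wc1541 : allBelow (fun k => fw (Nat.add 20033 k)) 13 = true := by decide +kernel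
theorem wu1541 : ∀ i, i < 20046 → fw i = true := below_step fw 20033 13 20046 wu1540 wc1541 rfl
theorem wc1542 : allBelow (fun k => fw (Nat.add 20046 k)) 13 = true := by decide +kernel
theorem wu1542 : ∀ i, i < 20059 → fw i = true := below_step fw 20046 13 20059 wu1541 wc1542 rfl
theorem wc1543 : allBelow (fun k => fw (Nat.add 20059 k)) 13 = true := by decide +kernel
theorem wu1543 : ∀ i, i < 20072 → fw i = true := below_step fw 20059 13 20072 wu1542 wc1543 rfl
theorem wc1544 : allBelow (fun k => fw (Nat.add 20072 k)) 13 = true := by decide +kernel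
theorem wu1544 : ∀ i, i < 20085 → fw i = true := below_step fw 20072 13 20085 wu1543 wc1544 rfl
theorem wc1545 : allBelow (fun k => fw (Nat.add 20085 k)) 13 = true := by decide +kernel
theorem wu1545 : ∀ i, i < 20098 → fw i = true := below_step fw 20085 13 20098 wu1544 wc1545 rfl
theorem wc1546 : allBelow (fun k => fw (Nat.add 20098 k)) 13 = true := by decide +kernel
theorem wu1546 : ∀ i, i < 20111 → fw i = true := below_step fw 20098 13 20111 wu1545 wc1546 rfl
theorem wc1547 : allBelow (fun k => fw (Nat.add 20111 k)) 13 = true := by decide +kernel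
theorem wu1547 : ∀ i, i < 20124 → fw i = true := below_step fw 20111 13 20124 wu1546 wc1547 rfl
theorem wc1548 : allBelow (fun k => fw (Nat.add 20124 k)) 13 = true := by decide +kernel
theorem wu1548 : ∀ i, i < 20137 → fw i = true := below_step fw 20124 13 20137 wu1547 wc1548 rfl
theorem wc1549 : allBelow (fun k => fw (Nat.add 20137 k)) 13 = true := by decide +kernel
theorem wu1549 : ∀ i, i < 20150 → fw i = true := below_step fw 20137 13 20150 wu1548 wc1549 rfl
theorem wc1550 : allBelow (fun k => fw (Nat.add 20150 k)) 13 = true := by decide +kernel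
theorem wu1550 : ∀ i, i < 20163 → fw i = true := below_step fw 20150 13 20163 wu1549 wc1550 rfl
theorem wc1551 : allBelow (fun k => fw (Nat.add 20163 k)) 13 = true := by decide +kernel
theorem wu1551 : ∀ i, i < 20176 → fw i = true := below_step fw 20163 13 20176 wu1550 wc1551 rfl
theorem wc1552 : allBelow (fun k => fw (Nat.add 20176 k)) 13 = true := by decide +kernel
theorem wu1552 : ∀ i, i < 20189 → fw i = true := below_step fw 20176 13 20189 wu1551 wc1552 rfl
theorem wc1553 : allBelow (fun k => fw (Nat.add 20189 k)) 13 = true := by decide +kernel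
theorem wu1553 : ∀ i, i < 20202 → fw i = true := below_step fw 20189 13 20202 wu1552 wc1553 rfl
theorem wc1554 : allBelow (fun k => fw (Nat.add 20202 k)) 13 = true := by decide +kernel
theorem wu1554 : ∀ i, i < 20215 → fw i = true := below_step fw 20202 13 20215 wu1553 wc1554 rfl
theorem wc1555 : allBelow (fun k => fw (Nat.add 20215 k)) 13 = true := by decide +kernel
theorem wu1555 : ∀ i, i < 20228 → fw i = true := below_step fw 20215 13 20228 wu1554 wc1555 rfl
theorem wc1556 : allBelow (fun k => fw (Nat.add 20228 k)) 13 = true := by decide +kernel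
theorem wu1556 : ∀ i, i < 20241 → fw i = true := below_step fw 20228 13 20241 wu1555 wc1556 rfl
theorem wc1557 : allBelow (fun k => fw (Nat.add 20241 k)) 13 = true := by decide +kernel
theorem wu1557 : ∀ i, i < 20254 → fw i = true := below_step fw 20241 13 20254 wu1556 wc1557 rfl
theorem wc1558 : allBelow (fun k => fw (Nat.add 20254 k)) 13 = true := by decide +kernel
theorem wu1558 : ∀ i, i < 20267 → fw i = true := below_step fw 20254 13 20267 wu1557 wc1558 rfl
theorem wc1559 : allBelow (fun k => fw (Nat.add 20267 k)) 13 = true := by decide +kernel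
theorem wu1559 : ∀ i, i < 20280 → fw i = true := below_step fw 20267 13 20280 wu1558 wc1559 rfl
theorem wc1560 : allBelow (fun k => fw (Nat.add 20280 k)) 13 = true := by decide +kernel
theorem wu1560 : ∀ i, i < 20293 → fw i = true := below_step fw 20280 13 20293 wu1559 wc1560 rfl
theorem wc1561 : allBelow (fun k => fw (Nat.add 20293 k)) 13 = true := by decide +kernel
theorem wu1561 : ∀ i, i < 20306 → fw i = true := below_step fw 20293 13 20306 wu1560 wc1561 rfl
theorem wc1562 : allBelow (fun k => fw (Nat.add 20306 k)) 13 = true := by decide +kernel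
theorem wu1562 : ∀ i, i < 20319 → fw i = true := below_step fw 20306 13 20319 wu1561 wc1562 rfl
theorem wc1563 : allBelow (fun k => fw (Nat.add 20319 k)) 13 = true := by decide +kernel
theorem wu1563 : ∀ i, i < 20332 → fw i = true := below_step fw 20319 13 20332 wu1562 wc1563 rfl
theorem wc1564 : allBelow (fun k => fw (Nat.add 20332 k)) 13 = true := by decide +kernel
theorem wu1564 : ∀ i, i < 20345 → fw i = true := below_step fw 20332 13 20345 wu1563 wc1564 rfl
theorem wc1565 : allBelow (fun k => fw (Nat.add 20345 k)) 13 = true := by decide +kernel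
theorem wu1565 : ∀ i, i < 20358 → fw i = true := below_step fw 20345 13 20358 wu1564 wc1565 rfl
theorem wc1566 : allBelow (fun k => fw (Nat.add 20358 k)) 13 = true := by decide +kernel
theorem wu1566 : ∀ i, i < 20371 → fw i = true := below_step fw 20358 13 20371 wu1565 wc1566 rfl
theorem wc1567 : allBelow (fun k => fw (Nat.add 20371 k)) 13 = true := by decide +kernel
theorem wu1567 : ∀ i, i < 20384 → fw i = true := below_step fw 20371 13 20384 wu1566 wc1567 rfl
theorem wc1568 : allBelow (fun k => fw (Nat.add 20384 k)) 13 = true := by decide +kernel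
theorem wu1568 : ∀ i, i < 20397 → fw i = true := below_step fw 20384 13 20397 wu1567 wc1568 rfl
theorem wc1569 : allBelow (fun k => fw (Nat.add 20397 k)) 13 = true := by decide +kernel
theorem wu1569 : ∀ i, i < 20410 → fw i = true := below_step fw 20397 13 20410 wu1568 wc1569 rfl
theorem wc1570 : allBelow (fun k => fw (Nat.add 20410 k)) 13 = true := by decide +kernel
theorem wu1570 : ∀ i, i < 20423 → fw i = true := below_step fw 20410 13 20423 wu1569 wc1570 rfl
theorem wc1571 : allBelow (fun k => fw (Nat.add 20423 k)) 13 = true := by decide +kernel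
theorem wu1571 : ∀ i, i < 20436 → fw i = true := below_step fw 20423 13 20436 wu1570 wc1571 rfl
theorem wc1572 : allBelow (fun k => fw (Nat.add 20436 k)) 13 = true := by decide +kernel
theorem wu1572 : ∀ i, i < 20449 → fw i = true := below_step fw 20436 13 20449 wu1571 wc1572 rfl
theorem wc1573 : allBelow (fun k => fw (Nat.add 20449 k)) 13 = true := by decide +kernel
theorem wu1573 : ∀ i, i < 20462 → fw i = true := below_step fw 20449 13 20462 wu1572 wc1573 rfl
theorem wc1574 : allBelow (fun k => fw (Nat.add 20462 k)) 13 = true := by decide +kernel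
theorem wu1574 : ∀ i, i < 20475 → fw i = true := below_step fw 20462 13 20475 wu1573 wc1574 rfl
theorem wc1575 : allBelow (fun k => fw (Nat.add 20475 k)) 13 = true := by decide +kernel
theorem wu1575 : ∀ i, i < 20488 → fw i = true := below_step fw 20475 13 20488 wu1574 wc1575 rfl
theorem wc1576 : allBelow (fun k => fw (Nat.add 20488 k)) 13 = true := by decide +kernel
theorem wu1576 : ∀ i, i < 20501 → fw i = true := below_step fw 20488 13 20501 wu1575 wc1576 rfl
theorem wc1577 : allBelow (fun k => fw (Nat.add 20501 k)) 13 = true := by decide +kernel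
theorem wu1577 : ∀ i, i < 20514 → fw i = true := below_step fw 20501 13 20514 wu1576 wc1577 rfl
theorem wc1578 : allBelow (fun k => fw (Nat.add 20514 k)) 13 = true := by decide +kernel
theorem wu1578 : ∀ i, i < 20527 → fw i = true := below_step fw 20514 13 20527 wu1577 wc1578 rfl
theorem wc1579 : allBelow (fun k => fw (Nat.add 20527 k)) 13 = true := by decide +kernel
theorem wu1579 : ∀ i, i < 20540 → fw i = true := below_step fw 20527 13 20540 wu1578 wc1579 rfl
theorem wc1580 : allBelow (fun k => fw (Nat.add 20540 k)) 13 = true := by decide +kernel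
theorem wu1580 : ∀ i, i < 20553 → fw i = true := below_step fw 20540 13 20553 wu1579 wc1580 rfl
theorem wc1581 : allBelow (fun k => fw (Nat.add 20553 k)) 13 = true := by decide +kernel
theorem wu1581 : ∀ i, i < 20566 → fw i = true := below_step fw 20553 13 20566 wu1580 wc1581 rfl
theorem wc1582 : allBelow (fun k => fw (Nat.add 20566 k)) 13 = true := by decide +kernel
theorem wu1582 : ∀ i, i < 20579 → fw i = true := below_step fw 20566 13 20579 wu1581 wc1582 rfl
theorem wc1583 : allBelow (fun k => fw (Nat.add 20579 k)) 13 = true := by decide +kernel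
theorem wu1583 : ∀ i, i < 20592 → fw i = true := below_step fw 20579 13 20592 wu1582 wc1583 rfl
theorem wc1584 : allBelow (fun k => fw (Nat.add 20592 k)) 13 = true := by decide +kernel
theorem wu1584 : ∀ i, i < 20605 → fw i = true := below_step fw 20592 13 20605 wu1583 wc1584 rfl
theorem wc1585 : allBelow (fun k => fw (Nat.add 20605 k)) 13 = true := by decide +kernel
theorem wu1585 : ∀ i, i < 20618 → fw i = true := below_step fw 20605 13 20618 wu1584 wc1585 rfl
theorem wc1586 : allBelow (fun k => fw (Nat.add 20618 k)) 13 = true := by decide +kernel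
theorem wu1586 : ∀ i, i < 20631 → fw i = true := below_step fw 20618 13 20631 wu1585 wc1586 rfl
theorem wc1587 : allBelow (fun k => fw (Nat.add 20631 k)) 13 = true := by decide +kernel
theorem wu1587 : ∀ i, i < 20644 → fw i = true := below_step fw 20631 13 20644 wu1586 wc1587 rfl
theorem wc1588 : allBelow (fun k => fw (Nat.add 20644 k)) 13 = true := by decide +kernel
theorem wu1588 : ∀ i, i < 20657 → fw i = true := below_step fw 20644 13 20657 wu1587 wc1588 rfl
theorem wc1589 : allBelow (fun k => fw (Nat.add 20657 k)) 13 = true := by decide +kernel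
theorem wu1589 : ∀ i, i < 20670 → fw i = true := below_step fw 20657 13 20670 wu1588 wc1589 rfl
theorem wc1590 : allBelow (fun k => fw (Nat.add 20670 k)) 13 = true := by decide +kernel
theorem wu1590 : ∀ i, i < 20683 → fw i = true := below_step fw 20670 13 20683 wu1589 wc1590 rfl
theorem wc1591 : allBelow (fun k => fw (Nat.add 20683 k)) 13 = true := by decide +kernel
theorem wu1591 : ∀ i, i < 20696 → fw i = true := below_step fw 20683 13 20696 wu1590 wc1591 rfl
theorem wc1592 : allBelow (fun k => fw (Nat.add 20696 k)) 13 = true := by decide +kernel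
theorem wu1592 : ∀ i, i < 20709 → fw i = true := below_step fw 20696 13 20709 wu1591 wc1592 rfl
theorem wc1593 : allBelow (fun k => fw (Nat.add 20709 k)) 13 = true := by decide +kernel
theorem wu1593 : ∀ i, i < 20722 → fw i = true := below_step fw 20709 13 20722 wu1592 wc1593 rfl
theorem wc1594 : allBelow (fun k => fw (Nat.add 20722 k)) 13 = true := by decide +kernel
theorem wu1594 : ∀ i, i < 20735 → fw i = true := below_step fw 20722 13 20735 wu1593 wc1594 rfl
theorem wc1595 : allBelow (fun k => fw (Nat.add 20735 k)) 13 = true := by decide +kernel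
theorem wu1595 : ∀ i, i < 20748 → fw i = true := below_step fw 20735 13 20748 wu1594 wc1595 rfl
theorem wc1596 : allBelow (fun k => fw (Nat.add 20748 k)) 13 = true := by decide +kernel
theorem wu1596 : ∀ i, i < 20761 → fw i = true := below_step fw 20748 13 20761 wu1595 wc1596 rfl
theorem wc1597 : allBelow (fun k => fw (Nat.add 20761 k)) 13 = true := by decide +kernel
theorem wu1597 : ∀ i, i < 20774 → fw i = true := below_step fw 20761 13 20774 wu1596 wc1597 rfl
theorem wc1598 : allBelow (fun k => fw (Nat.add 20774 k)) 13 = true := by decide +kernel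
theorem wu1598 : ∀ i, i < 20787 → fw i = true := below_step fw 20774 13 20787 wu1597 wc1598 rfl
theorem wc1599 : allBelow (fun k => fw (Nat.add 20787 k)) 13 = true := by decide +kernel
theorem wu1599 : ∀ i, i < 20800 → fw i = true := below_step fw 20787 13 20800 wu1598 wc1599 rfl
theorem wc1600 : allBelow (fun k => fw (Nat.add 20800 k)) 13 = true := by decide +kernel
theorem wu1600 : ∀ i, i < 20813 → fw i = true := below_step fw 20800 13 20813 wu1599 wc1600 rfl
theorem wc1601 : allBelow (fun k => fw (Nat.add 20813 k)) 13 = true := by decide +kernel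
theorem wu1601 : ∀ i, i < 20826 → fw i = true := below_step fw 20813 13 20826 wu1600 wc1601 rfl
theorem wc1602 : allBelow (fun k => fw (Nat.add 20826 k)) 13 = true := by decide +kernel
theorem wu1602 : ∀ i, i < 20839 → fw i = true := below_step fw 20826 13 20839 wu1601 wc1602 rfl
theorem wc1603 : allBelow (fun k => fw (Nat.add 20839 k)) 13 = true := by decide +kernel
theorem wu1603 : ∀ i, i < 20852 → fw i = true := below_step fw 20839 13 20852 wu1602 wc1603 rfl
theorem wc1604 : allBelow (fun k => fw (Nat.add 20852 k)) 13 = true := by decide +kernel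
theorem wu1604 : ∀ i, i < 20865 → fw i = true := below_step fw 20852 13 20865 wu1603 wc1604 rfl
theorem wc1605 : allBelow (fun k => fw (Nat.add 20865 k)) 13 = true := by decide +kernel
theorem wu1605 : ∀ i, i < 20878 → fw i = true := below_step fw 20865 13 20878 wu1604 wc1605 rfl
theorem wc1606 : allBelow (fun k => fw (Nat.add 20878 k)) 13 = true := by decide +kernel
theorem wu1606 : ∀ i, i < 20891 → fw i = true := below_step fw 20878 13 20891 wu1605 wc1606 rfl
theorem wc1607 : allBelow (fun k => fw (Nat.add 20891 k)) 13 = true := by decide +kernel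
theorem wu1607 : ∀ i, i < 20904 → fw i = true := below_step fw 20891 13 20904 wu1606 wc1607 rfl
theorem wc1608 : allBelow (fun k => fw (Nat.add 20904 k)) 13 = true := by decide +kernel
theorem wu1608 : ∀ i, i < 20917 → fw i = true := below_step fw 20904 13 20917 wu1607 wc1608 rfl
theorem wc1609 : allBelow (fun k => fw (Nat.add 20917 k)) 13 = true := by decide +kernel
theorem wu1609 : ∀ i, i < 20930 → fw i = true := below_step fw 20917 13 20930 wu1608 wc1609 rfl
theorem wc1610 : allBelow (fun k => fw (Nat.add 20930 k)) 13 = true := by decide +kernel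
theorem wu1610 : ∀ i, i < 20943 → fw i = true := below_step fw 20930 13 20943 wu1609 wc1610 rfl
theorem wc1611 : allBelow (fun k => fw (Nat.add 20943 k)) 13 = true := by decide +kernel
theorem wu1611 : ∀ i, i < 20956 → fw i = true := below_step fw 20943 13 20956 wu1610 wc1611 rfl
theorem wc1612 : allBelow (fun k => fw (Nat.add 20956 k)) 13 = true := by decide +kernel
theorem wu1612 : ∀ i, i < 20969 → fw i = true := below_step fw 20956 13 20969 wu1611 wc1612 rfl
theorem wc1613 : allBelow (fun k => fw (Nat.add 20969 k)) 13 = true := by decide +kernel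
theorem wu1613 : ∀ i, i < 20982 → fw i = true := below_step fw 20969 13 20982 wu1612 wc1613 rfl
theorem wc1614 : allBelow (fun k => fw (Nat.add 20982 k)) 13 = true := by decide +kernel
theorem wu1614 : ∀ i, i < 20995 → fw i = true := below_step fw 20982 13 20995 wu1613 wc1614 rfl
theorem wc1615 : allBelow (fun k => fw (Nat.add 20995 k)) 13 = true := by decide +kernel
theorem wu1615 : ∀ i, i < 21008 → fw i = true := below_step fw 20995 13 21008 wu1614 wc1615 rfl
theorem wc1616 : allBelow (fun k => fw (Nat.add 21008 k)) 13 = true := by decide +kernel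
theorem wu1616 : ∀ i, i < 21021 → fw i = true := below_step fw 21008 13 21021 wu1615 wc1616 rfl
theorem wc1617 : allBelow (fun k => fw (Nat.add 21021 k)) 13 = true := by decide +kernel
theorem wu1617 : ∀ i, i < 21034 → fw i = true := below_step fw 21021 13 21034 wu1616 wc1617 rfl
theorem wc1618 : allBelow (fun k => fw (Nat.add 21034 k)) 13 = true := by decide +kernel
theorem wu1618 : ∀ i, i < 21047 → fw i = true := below_step fw 21034 13 21047 wu1617 wc1618 rfl
theorem wc1619 : allBelow (fun k => fw (Nat.add 21047 k)) 13 = true := by decide +kernel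
theorem wu1619 : ∀ i, i < 21060 → fw i = true := below_step fw 21047 13 21060 wu1618 wc1619 rfl
theorem wc1620 : allBelow (fun k => fw (Nat.add 21060 k)) 13 = true := by decide +kernel
theorem wu1620 : ∀ i, i < 21073 → fw i = true := below_step fw 21060 13 21073 wu1619 wc1620 rfl
theorem wc1621 : allBelow (fun k => fw (Nat.add 21073 k)) 13 = true := by decide +kernel
theorem wu1621 : ∀ i, i < 21086 → fw i = true := below_step fw 21073 13 21086 wu1620 wc1621 rfl
theorem wc1622 : allBelow (fun k => fw (Nat.add 21086 k)) 13 = true := by decide +kernel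
theorem wu1622 : ∀ i, i < 21099 → fw i = true := below_step fw 21086 13 21099 wu1621 wc1622 rfl
theorem wc1623 : allBelow (fun k => fw (Nat.add 21099 k)) 13 = true := by decide +kernel
theorem wu1623 : ∀ i, i < 21112 → fw i = true := below_step fw 21099 13 21112 wu1622 wc1623 rfl
theorem wc1624 : allBelow (fun k => fw (Nat.add 21112 k)) 13 = true := by decide +kernel
theorem wu1624 : ∀ i, i < 21125 → fw i = true := below_step fw 21112 13 21125 wu1623 wc1624 rfl
theorem wc1625 : allBelow (fun k => fw (Nat.add 21125 k)) 13 = true := by decide +kernel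
theorem wu1625 : ∀ i, i < 21138 → fw i = true := below_step fw 21125 13 21138 wu1624 wc1625 rfl
theorem wc1626 : allBelow (fun k => fw (Nat.add 21138 k)) 13 = true := by decide +kernel
theorem wu1626 : ∀ i, i < 21151 → fw i = true := below_step fw 21138 13 21151 wu1625 wc1626 rfl
theorem wc1627 : allBelow (fun k => fw (Nat.add 21151 k)) 13 = true := by decide +kernel
theorem wu1627 : ∀ i, i < 21164 → fw i = true := below_step fw 21151 13 21164 wu1626 wc1627 rfl
theorem wc1628 : allBelow (fun k => fw (Nat.add 21164 k)) 13 = true := by decide +kernel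
theorem wu1628 : ∀ i, i < 21177 → fw i = true := below_step fw 21164 13 21177 wu1627 wc1628 rfl
theorem wc1629 : allBelow (fun k => fw (Nat.add 21177 k)) 13 = true := by decide +kernel
theorem wu1629 : ∀ i, i < 21190 → fw i = true := below_step fw 21177 13 21190 wu1628 wc1629 rfl
theorem wc1630 : allBelow (fun k => fw (Nat.add 21190 k)) 13 = true := by decide +kernel
theorem wu1630 : ∀ i, i < 21203 → fw i = true := below_step fw 21190 13 21203 wu1629 wc1630 rfl
theorem wc1631 : allBelow (fun k => fw (Nat.add 21203 k)) 13 = true := by decide +kernel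
theorem wu1631 : ∀ i, i < 21216 → fw i = true := below_step fw 21203 13 21216 wu1630 wc1631 rfl
theorem wc1632 : allBelow (fun k => fw (Nat.add 21216 k)) 13 = true := by decide +kernel
theorem wu1632 : ∀ i, i < 21229 → fw i = true := below_step fw 21216 13 21229 wu1631 wc1632 rfl
theorem wc1633 : allBelow (fun k => fw (Nat.add 21229 k)) 13 = true := by decide +kernel
theorem wu1633 : ∀ i, i < 21242 → fw i = true := below_step fw 21229 13 21242 wu1632 wc1633 rfl
theorem wc1634 : allBelow (fun k => fw (Nat.add 21242 k)) 13 = true := by decide +kernel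
theorem wu1634 : ∀ i, i < 21255 → fw i = true := below_step fw 21242 13 21255 wu1633 wc1634 rfl
theorem wc1635 : allBelow (fun k => fw (Nat.add 21255 k)) 13 = true := by decide +kernel
theorem wu1635 : ∀ i, i < 21268 → fw i = true := below_step fw 21255 13 21268 wu1634 wc1635 rfl
theorem wc1636 : allBelow (fun k => fw (Nat.add 21268 k)) 13 = true := by decide +kernel
theorem wu1636 : ∀ i, i < 21281 → fw i = true := below_step fw 21268 13 21281 wu1635 wc1636 rfl
theorem wc1637 : allBelow (fun k => fw (Nat.add 21281 k)) 13 = true := by decide +kernel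
theorem wu1637 : ∀ i, i < 21294 → fw i = true := below_step fw 21281 13 21294 wu1636 wc1637 rfl
theorem wc1638 : allBelow (fun k => fw (Nat.add 21294 k)) 13 = true := by decide +kernel
theorem wu1638 : ∀ i, i < 21307 → fw i = true := below_step fw 21294 13 21307 wu1637 wc1638 rfl
theorem wc1639 : allBelow (fun k => fw (Nat.add 21307 k)) 13 = true := by decide +kernel
theorem wu1639 : ∀ i, i < 21320 → fw i = true := below_step fw 21307 13 21320 wu1638 wc1639 rfl
theorem wc1640 : allBelow (fun k => fw (Nat.add 21320 k)) 13 = true := by decide +kernel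
theorem wu1640 : ∀ i, i < 21333 → fw i = true := below_step fw 21320 13 21333 wu1639 wc1640 rfl
theorem wc1641 : allBelow (fun k => fw (Nat.add 21333 k)) 13 = true := by decide +kernel
theorem wu1641 : ∀ i, i < 21346 → fw i = true := below_step fw 21333 13 21346 wu1640 wc1641 rfl

end Cfsg.Agent.Lib.Helper35.Fi23Ord.X0
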