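import Cfsg.Agent.Lib.Helper35.Fi23Ord.X0.Chk8

set_option Elab.async false

namespace Cfsg.Agent.Lib.Helper35.Fi23Ord.X0

open Cfsg.Agent.Lib.Helper35

theorem wc1642 : allBelow (fun k => fw (Nat.add 21346 k)) 13 = true := by decide +kernel
theorem wu1642 : ∀ i, i < 21359 → fw i = true := below_step fw 21346 13 21359 wu1641 wc1642 rfl
theorem wc1643 : allBelow (fun k => fw (Nat.add 21359 k)) 13 = true := by decide +kernel
theorem wu1643 : ∀ i, i < 21372 → fw i = true := below_step fw 21359 13 21372 wu1642 wc1643 rfl
theorem wc1644 : allBelow (fun k => fw (Nat.add 21372 k)) 13 = true := by decide +kernel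
theorem wu1644 : ∀ i, i < 21385 → fw i = true := below_step fw 21372 13 21385 wu1643 wc1644 rfl
theorem wc1645 : allBelow (fun k => fw (Nat.add 21385 k)) 13 = true := by decide +kernel
theorem wu1645 : ∀ i, i < 21398 → fw i = true := below_step fw 21385 13 21398 wu1644 wc1645 rfl
theorem wc1646 : allBelow (fun k => fw (Nat.add 21398 k)) 13 = true := by decide +kernel
theorem wu1646 : ∀ i, i < 21411 → fw i = true := below_step fw 21398 13 21411 wu1645 wc1646 rfl
theorem wc1647 : allBelow (fun k => fw (Nat.add 21411 k)) 13 = true := by decide +kernel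
theorem wu1647 : ∀ i, i < 21424 → fw i = true := below_step fw 21411 13 21424 wu1646 wc1647 rfl
theorem wc1648 : allBelow (fun k => fw (Nat.add 21424 k)) 13 = true := by decide +kernel
theorem wu1648 : ∀ i, i < 21437 → fw i = true := below_step fw 21424 13 21437 wu1647 wc1648 rfl
theorem wc1649 : allBelow (fun k => fw (Nat.add 21437 k)) 13 = true := by decide +kernel
theorem wu1649 : ∀ i, i < 21450 → fw i = true := below_step fw 21437 13 21450 wu1648 wc1649 rfl
theorem wc1650 : allBelow (fun k => fw (Nat.add 21450 k)) 13 = true := by decide +kernel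
theorem wu1650 : ∀ i, i < 21463 → fw i = true := below_step fw 21450 13 21463 wu1649 wc1650 rfl
theorem wc1651 : allBelow (fun k => fw (Nat.add 21463 k)) 13 = true := by decide +kernel
theorem wu1651 : ∀ i, i < 21476 → fw i = true := below_step fw 21463 13 21476 wu1650 wc1651 rfl
theorem wc1652 : allBelow (fun k => fw (Nat.add 21476 k)) 13 = true := by decide +kernel
theorem wu1652 : ∀ i, i < 21489 → fw i = true := below_step fw 21476 13 21489 wu1651 wc1652 rfl
theorem wc1653 : allBelow (fun k => fw (Nat.add 21489 k)) 13 = true := by decide +kernel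
theorem wu1653 : ∀ i, i < 21502 → fw i = true := below_step fw 21489 13 21502 wu1652 wc1653 rfl
theorem wc1654 : allBelow (fun k => fw (Nat.add 21502 k)) 13 = true := by decide +kernel
theorem wu1654 : ∀ i, i < 21515 → fw i = true := below_step fw 21502 13 21515 wu1653 wc1654 rfl
theorem wc1655 : allBelow (fun k => fw (Nat.add 21515 k)) 13 = true := by decide +kernel
theorem wu1655 : ∀ i, i < 21528 → fw i = true := below_step fw 21515 13 21528 wu1654 wc1655 rfl
theorem wc1656 : allBelow (fun k => fw (Nat.add 21528 k)) 13 = true := by decide +kernel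
theorem wu1656 : ∀ i, i < 21541 → fw i = true := below_step fw 21528 13 21541 wu1655 wc1656 rfl
theorem wc1657 : allBelow (fun k => fw (Nat.add 21541 k)) 13 = true := by decide +kernel
theorem wu1657 : ∀ i, i < 21554 → fw i = true := below_step fw 21541 13 21554 wu1656 wc1657 rfl
theorem wc1658 : allBelow (fun k => fw (Nat.add 21554 k)) 13 = true := by decide +kernel
theorem wu1658 : ∀ i, i < 21567 → fw i = true := below_step fw 21554 13 21567 wu1657 wc1658 rfl
theorem wc1659 : allBelow (fun k => fw (Nat.add 21567 k)) 13 = true := by decide +kernel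
theorem wu1659 : ∀ i, i < 21580 → fw i = true := below_step fw 21567 13 21580 wu1658 wc1659 rfl
theorem wc1660 : allBelow (fun k => fw (Nat.add 21580 k)) 13 = true := by decide +kernel
theorem wu1660 : ∀ i, i < 21593 → fw i = true := below_step fw 21580 13 21593 wu1659 wc1660 rfl
theorem wc1661 : allBelow (fun k => fw (Nat.add 21593 k)) 13 = true := by decide +kernel
theorem wu1661 : ∀ i, i < 21606 → fw i = true := below_step fw 21593 13 21606 wu1660 wc1661 rfl
theorem wc1662 : allBelow (fun k => fw (Nat.add 21606 k)) 13 = true := by decide +kernel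
theorem wu1662 : ∀ i, i < 21619 → fw i = true := below_step fw 21606 13 21619 wu1661 wc1662 rfl
theorem wc1663 : allBelow (fun k => fw (Nat.add 21619 k)) 13 = true := by decide +kernel
theorem wu1663 : ∀ i, i < 21632 → fw i = true := below_step fw 21619 13 21632 wu1662 wc1663 rfl
theorem wc1664 : allBelow (fun k => fw (Nat.add 21632 k)) 13 = true := by decide +kernel
theorem wu1664 : ∀ i, i < 21645 → fw i = true := below_step fw 21632 13 21645 wu1663 wc1664 rfl
theorem wc1665 : allBelow (fun k => fw (Nat.add 21645 k)) 13 = true := by decide +kernel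
theorem wu1665 : ∀ i, i < 21658 → fw i = true := below_step fw 21645 13 21658 wu1664 wc1665 rfl
theorem wc1666 : allBelow (fun k => fw (Nat.add 21658 k)) 13 = true := by decide +kernel
theorem wu1666 : ∀ i, i < 21671 → fw i = true := below_step fw 21658 13 21671 wu1665 wc1666 rfl
theorem wc1667 : allBelow (fun k => fw (Nat.add 21671 k)) 13 = true := by decide +kernel
theorem wu1667 : ∀ i, i < 21684 → fw i = true := below_step fw 21671 13 21684 wu1666 wc1667 rfl
theorem wc1668 : allBelow (fun k => fw (Nat.add 21684 k)) 13 = true := by decide +kernel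
theorem wu1668 : ∀ i, i < 21697 → fw i = true := below_step fw 21684 13 21697 wu1667 wc1668 rfl
theorem wc1669 : allBelow (fun k => fw (Nat.add 21697 k)) 13 = true := by decide +kernel
theorem wu1669 : ∀ i, i < 21710 → fw i = true := below_step fw 21697 13 21710 wu1668 wc1669 rfl
theorem wc1670 : allBelow (fun k => fw (Nat.add 21710 k)) 13 = true := by decide +kernel
theorem wu1670 : ∀ i, i < 21723 → fw i = true := below_step fw 21710 13 21723 wu1669 wc1670 rfl
theorem wc1671 : allBelow (fun k => fw (Nat.add 21723 k)) 13 = true := by decide +kernel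
theorem wu1671 : ∀ i, i < 21736 → fw i = true := below_step fw 21723 13 21736 wu1670 wc1671 rfl
theorem wc1672 : allBelow (fun k => fw (Nat.add 21736 k)) 13 = true := by decide +kernel
theorem wu1672 : ∀ i, i < 21749 → fw i = true := below_step fw 21736 13 21749 wu1671 wc1672 rfl
theorem wc1673 : allBelow (fun k => fw (Nat.add 21749 k)) 13 = true := by decide +kernel
theorem wu1673 : ∀ i, i < 21762 → fw i = true := below_step fw 21749 13 21762 wu1672 wc1673 rfl
theorem wc1674 : allBelow (fun k => fw (Nat.add 21762 k)) 13 = true := by decide +kernel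
theorem wu1674 : ∀ i, i < 21775 → fw i = true := below_step fw 21762 13 21775 wu1673 wc1674 rfl
theorem wc1675 : allBelow (fun k => fw (Nat.add 21775 k)) 13 = true := by decide +kernel
theorem wu1675 : ∀ i, i < 21788 → fw i = true := below_step fw 21775 13 21788 wu1674 wc1675 rfl
theorem wc1676 : allBelow (fun k => fw (Nat.add 21788 k)) 13 = true := by decide +kernel
theorem wu1676 : ∀ i, i < 21801 → fw i = true := below_step fw 21788 13 21801 wu1675 wc1676 rfl
theorem wc1677 : allBelow (fun k => fw (Nat.add 21801 k)) 13 = true := by decide +kernel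
theorem wu1677 : ∀ i, i < 21814 → fw i = true := below_step fw 21801 13 21814 wu1676 wc1677 rfl
theorem wc1678 : allBelow (fun k => fw (Nat.add 21814 k)) 13 = true := by decide +kernel
theorem wu1678 : ∀ i, i < 21827 → fw i = true := below_step fw 21814 13 21827 wu1677 wc1678 rfl
theorem wc1679 : allBelow (fun k => fw (Nat.add 21827 k)) 13 = true := by decide +kernel
theorem wu1679 : ∀ i, i < 21840 → fw i = true := below_step fw 21827 13 21840 wu1678 wc1679 rfl
theorem wc1680 : allBelow (fun k => fw (Nat.add 21840 k)) 13 = true := by decide +kernel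
theorem wu1680 : ∀ i, i < 21853 → fw i = true := below_step fw 21840 13 21853 wu1679 wc1680 rfl
theorem wc1681 : allBelow (fun k => fw (Nat.add 21853 k)) 13 = true := by decide +kernel
theorem wu1681 : ∀ i, i < 21866 → fw i = true := below_step fw 21853 13 21866 wu1680 wc1681 rfl
theorem wc1682 : allBelow (fun k => fw (Nat.add 21866 k)) 13 = true := by decide +kernel
theorem wu1682 : ∀ i, i < 21879 → fw i = true := below_step fw 21866 13 21879 wu1681 wc1682 rfl
theorem wc1683 : allBelow (fun k => fw (Nat.add 21879 k)) 13 = true := by decide +kernel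
theorem wu1683 : ∀ i, i < 21892 → fw i = true := below_step fw 21879 13 21892 wu1682 wc1683 rfl
theorem wc1684 : allBelow (fun k => fw (Nat.add 21892 k)) 13 = true := by decide +kernel
theorem wu1684 : ∀ i, i < 21905 → fw i = true := below_step fw 21892 13 21905 wu1683 wc1684 rfl
theorem wc1685 : allBelow (fun k => fw (Nat.add 21905 k)) 13 = true := by decide +kernel
theorem wu1685 : ∀ i, i < 21918 → fw i = true := below_step fw 21905 13 21918 wu1684 wc1685 rfl
theorem wc1686 : allBelow (fun k => fw (Nat.add 21918 k)) 13 = true := by decide +kernel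
theorem wu1686 : ∀ i, i < 21931 → fw i = true := below_step fw 21918 13 21931 wu1685 wc1686 rfl
theorem wc1687 : allBelow (fun k => fw (Nat.add 21931 k)) 13 = true := by decide +kernel
theorem wu1687 : ∀ i, i < 21944 → fw i = true := below_step fw 21931 13 21944 wu1686 wc1687 rfl
theorem wc1688 : allBelow (fun k => fw (Nat.add 21944 k)) 13 = true := by decide +kernel
theorem wu1688 : ∀ i, i < 21957 → fw i = true := below_step fw 21944 13 21957 wu1687 wc1688 rfl
theorem wc1689 : allBelow (fun k => fw (Nat.add 21957 k)) 13 = true := by decide +kernel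
theorem wu1689 : ∀ i, i < 21970 → fw i = true := below_step fw 21957 13 21970 wu1688 wc1689 rfl
theorem wc1690 : allBelow (fun k => fw (Nat.add 21970 k)) 13 = true := by decide +kernel
theorem wu1690 : ∀ i, i < 21983 → fw i = true := below_step fw 21970 13 21983 wu1689 wc1690 rfl
theorem wc1691 : allBelow (fun k => fw (Nat.add 21983 k)) 13 = true := by decide +kernel
theorem wu1691 : ∀ i, i < 21996 → fw i = true := below_step fw 21983 13 21996 wu1690 wc1691 rfl
theorem wc1692 : allBelow (fun k => fw (Nat.add 21996 k)) 13 = true := by decide +kernel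
theorem wu1692 : ∀ i, i < 22009 → fw i = true := below_step fw 21996 13 22009 wu1691 wc1692 rfl
theorem wc1693 : allBelow (fun k => fw (Nat.add 22009 k)) 13 = true := by decide +kernel
theorem wu1693 : ∀ i, i < 22022 → fw i = true := below_step fw 22009 13 22022 wu1692 wc1693 rfl
theorem wc1694 : allBelow (fun k => fw (Nat.add 22022 k)) 13 = true := by decide +kernel
theorem wu1694 : ∀ i, i < 22035 → fw i = true := below_step fw 22022 13 22035 wu1693 wc1694 rfl
theorem wc1695 : allBelow (fun k => fw (Nat.add 22035 k)) 13 = true := by decide +kernel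
theorem wu1695 : ∀ i, i < 22048 → fw i = true := below_step fw 22035 13 22048 wu1694 wc1695 rfl
theorem wc1696 : allBelow (fun k => fw (Nat.add 22048 k)) 13 = true := by decide +kernel
theorem wu1696 : ∀ i, i < 22061 → fw i = true := below_step fw 22048 13 22061 wu1695 wc1696 rfl
theorem wc1697 : allBelow (fun k => fw (Nat.add 22061 k)) 13 = true := by decide +kernel
theorem wu1697 : ∀ i, i < 22074 → fw i = true := below_step fw 22061 13 22074 wu1696 wc1697 rfl
theorem wc1698 : allBelow (fun k => fw (Nat.add 22074 k)) 13 = true := by decide +kernel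
theorem wu1698 : ∀ i, i < 22087 → fw i = true := below_step fw 22074 13 22087 wu1697 wc1698 rfl
theorem wc1699 : allBelow (fun k => fw (Nat.add 22087 k)) 13 = true := by decide +kernel
theorem wu1699 : ∀ i, i < 22100 → fw i = true := below_step fw 22087 13 22100 wu1698 wc1699 rfl
theorem wc1700 : allBelow (fun k => fw (Nat.add 22100 k)) 13 = true := by decide +kernel
theorem wu1700 : ∀ i, i < 22113 → fw i = true := below_step fw 22100 13 22113 wu1699 wc1700 rfl
theorem wc1701 : allBelow (fun k => fw (Nat.add 22113 k)) 13 = true := by decide +kernel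
theorem wu1701 : ∀ i, i < 22126 → fw i = true := below_step fw 22113 13 22126 wu1700 wc1701 rfl
theorem wc1702 : allBelow (fun k => fw (Nat.add 22126 k)) 13 = true := by decide +kernel
theorem wu1702 : ∀ i, i < 22139 → fw i = true := below_step fw 22126 13 22139 wu1701 wc1702 rfl
theorem wc1703 : allBelow (fun k => fw (Nat.add 22139 k)) 13 = true := by decide +kernel
theorem wu1703 : ∀ i, i < 22152 → fw i = true := below_step fw 22139 13 22152 wu1702 wc1703 rfl
theorem wc1704 : allBelow (fun k => fw (Nat.add 22152 k)) 13 = true := by decide +kernel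
theorem wu1704 : ∀ i, i < 22165 → fw i = true := below_step fw 22152 13 22165 wu1703 wc1704 rfl
theorem wc1705 : allBelow (fun k => fw (Nat.add 22165 k)) 13 = true := by decide +kernel
theorem wu1705 : ∀ i, i < 22178 → fw i = true := below_step fw 22165 13 22178 wu1704 wc1705 rfl
theorem wc1706 : allBelow (fun k => fw (Nat.add 22178 k)) 13 = true := by decide +kernel
theorem wu1706 : ∀ i, i < 22191 → fw i = true := below_step fw 22178 13 22191 wu1705 wc1706 rfl
theorem wc1707 : allBelow (fun k => fw (Nat.add 22191 k)) 13 = true := by decide +kernel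
theorem wu1707 : ∀ i, i < 22204 → fw i = true := below_step fw 22191 13 22204 wu1706 wc1707 rfl
theorem wc1708 : allBelow (fun k => fw (Nat.add 22204 k)) 13 = true := by decide +kernel
theorem wu1708 : ∀ i, i < 22217 → fw i = true := below_step fw 22204 13 22217 wu1707 wc1708 rfl
theorem wc1709 : allBelow (fun k => fw (Nat.add 22217 k)) 13 = true := by decide +kernel
theorem wu1709 : ∀ i, i < 22230 → fw i = true := below_step fw 22217 13 22230 wu1708 wc1709 rfl
theorem wc1710 : allBelow (fun k => fw (Nat.add 22230 k)) 13 = true := by decide +kernel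
theorem wu1710 : ∀ i, i < 22243 → fw i = true := below_step fw 22230 13 22243 wu1709 wc1710 rfl
theorem wc1711 : allBelow (fun k => fw (Nat.add 22243 k)) 13 = true := by decide +kernel
theorem wu1711 : ∀ i, i < 22256 → fw i = true := below_step fw 22243 13 22256 wu1710 wc1711 rfl
theorem wc1712 : allBelow (fun k => fw (Nat.add 22256 k)) 13 = true := by decide +kernel
theorem wu1712 : ∀ i, i < 22269 → fw i = true := below_step fw 22256 13 22269 wu1711 wc1712 rfl
theorem wc1713 : allBelow (fun k => fw (Nat.add 22269 k)) 13 = true := by decide +kernel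
theorem wu1713 : ∀ i, i < 22282 → fw i = true := below_step fw 22269 13 22282 wu1712 wc1713 rfl
theorem wc1714 : allBelow (fun k => fw (Nat.add 22282 k)) 13 = true := by decide +kernel
theorem wu1714 : ∀ i, i < 22295 → fw i = true := below_step fw 22282 13 22295 wu1713 wc1714 rfl
theorem wc1715 : allBelow (fun k => fw (Nat.add 22295 k)) 13 = true := by decide +kernel
theorem wu1715 : ∀ i, i < 22308 → fw i = true := below_step fw 22295 13 22308 wu1714 wc1715 rfl
theorem wc1716 : allBelow (fun k => fw (Nat.add 22308 k)) 13 = true := by decide +kernel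
theorem wu1716 : ∀ i, i < 22321 → fw i = true := below_step fw 22308 13 22321 wu1715 wc1716 rfl
theorem wc1717 : allBelow (fun k => fw (Nat.add 22321 k)) 13 = true := by decide +kernel
theorem wu1717 : ∀ i, i < 22334 → fw i = true := below_step fw 22321 13 22334 wu1716 wc1717 rfl
theorem wc1718 : allBelow (fun k => fw (Nat.add 22334 k)) 13 = true := by decide +kernel
theorem wu1718 : ∀ i, i < 22347 → fw i = true := below_step fw 22334 13 22347 wu1717 wc1718 rfl
theorem wc1719 : allBelow (fun k => fw (Nat.add 22347 k)) 13 = true := by decide +kernel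
theorem wu1719 : ∀ i, i < 22360 → fw i = true := below_step fw 22347 13 22360 wu1718 wc1719 rfl
theorem wc1720 : allBelow (fun k => fw (Nat.add 22360 k)) 13 = true := by decide +kernel
theorem wu1720 : ∀ i, i < 22373 → fw i = true := below_step fw 22360 13 22373 wu1719 wc1720 rfl
theorem wc1721 : allBelow (fun k => fw (Nat.add 22373 k)) 13 = true := by decide +kernel
theorem wu1721 : ∀ i, i < 22386 → fw i = true := below_step fw 22373 13 22386 wu1720 wc1721 rfl
theorem wc1722 : allBelow (fun k => fw (Nat.add 22386 k)) 13 = true := by decide +kernel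
theorem wu1722 : ∀ i, i < 22399 → fw i = true := below_step fw 22386 13 22399 wu1721 wc1722 rfl
theorem wc1723 : allBelow (fun k => fw (Nat.add 22399 k)) 13 = true := by decide +kernel
theorem wu1723 : ∀ i, i < 22412 → fw i = true := below_step fw 22399 13 22412 wu1722 wc1723 rfl
theorem wc1724 : allBelow (fun k => fw (Nat.add 22412 k)) 13 = true := by decide +kernel
theorem wu1724 : ∀ i, i < 22425 → fw i = true := below_step fw 22412 13 22425 wu1723 wc1724 rfl
theorem wc1725 : allBelow (fun k => fw (Nat.add 22425 k)) 13 = true := by decide +kernel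
theorem wu1725 : ∀ i, i < 22438 → fw i = true := below_step fw 22425 13 22438 wu1724 wc1725 rfl
theorem wc1726 : allBelow (fun k => fw (Nat.add 22438 k)) 13 = true := by decide +kernel
theorem wu1726 : ∀ i, i < 22451 → fw i = true := below_step fw 22438 13 22451 wu1725 wc1726 rfl
theorem wc1727 : allBelow (fun k => fw (Nat.add 22451 k)) 13 = true := by decide +kernel
theorem wu1727 : ∀ i, i < 22464 → fw i = true := below_step fw 22451 13 22464 wu1726 wc1727 rfl
theorem wc1728 : allBelow (fun k => fw (Nat.add 22464 k)) 13 = true := by decide +kernel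
theorem wu1728 : ∀ i, i < 22477 → fw i = true := below_step fw 22464 13 22477 wu1727 wc1728 rfl
theorem wc1729 : allBelow (fun k => fw (Nat.add 22477 k)) 13 = true := by decide +kernel
theorem wu1729 : ∀ i, i < 22490 → fw i = true := below_step fw 22477 13 22490 wu1728 wc1729 rfl
theorem wc1730 : allBelow (fun k => fw (Nat.add 22490 k)) 13 = true := by decide +kernel
theorem wu1730 : ∀ i, i < 22503 → fw i = true := below_step fw 22490 13 22503 wu1729 wc1730 rfl
theorem wc1731 : allBelow (fun k => fw (Nat.add 22503 k)) 13 = true := by decide +kernel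
theorem wu1731 : ∀ i, i < 22516 → fw i = true := below_step fw 22503 13 22516 wu1730 wc1731 rfl
theorem wc1732 : allBelow (fun k => fw (Nat.add 22516 k)) 13 = true := by decide +kernel
theorem wu1732 : ∀ i, i < 22529 → fw i = true := below_step fw 22516 13 22529 wu1731 wc1732 rfl
theorem wc1733 : allBelow (fun k => fw (Nat.add 22529 k)) 13 = true := by decide +kernel
theorem wu1733 : ∀ i, i < 22542 → fw i = true := below_step fw 22529 13 22542 wu1732 wc1733 rfl
theorem wc1734 : allBelow (fun k => fw (Nat.add 22542 k)) 13 = true := by decide +kernel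
theorem wu1734 : ∀ i, i < 22555 → fw i = true := below_step fw 22542 13 22555 wu1733 wc1734 rfl
theorem wc1735 : allBelow (fun k => fw (Nat.add 22555 k)) 13 = true := by decide +kernel
theorem wu1735 : ∀ i, i < 22568 → fw i = true := below_step fw 22555 13 22568 wu1734 wc1735 rfl
theorem wc1736 : allBelow (fun k => fw (Nat.add 22568 k)) 13 = true := by decide +kernel
theorem wu1736 : ∀ i, i < 22581 → fw i = true := below_step fw 22568 13 22581 wu1735 wc1736 rfl
theorem wc1737 : allBelow (fun k => fw (Nat.add 22581 k)) 13 = true := by decide +kernel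
theorem wu1737 : ∀ i, i < 22594 → fw i = true := below_step fw 22581 13 22594 wu1736 wc1737 rfl
theorem wc1738 : allBelow (fun k => fw (Nat.add 22594 k)) 13 = true := by decide +kernel
theorem wu1738 : ∀ i, i < 22607 → fw i = true := below_step fw 22594 13 22607 wu1737 wc1738 rfl
theorem wc1739 : allBelow (fun k => fw (Nat.add 22607 k)) 13 = true := by decide +kernel
theorem wu1739 : ∀ i, i < 22620 → fw i = true := below_step fw 22607 13 22620 wu1738 wc1739 rfl
theorem wc1740 : allBelow (fun k => fw (Nat.add 22620 k)) 13 = true := by decide +kernel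
theorem wu1740 : ∀ i, i < 22633 → fw i = true := below_step fw 22620 13 22633 wu1739 wc1740 rfl
theorem wc1741 : allBelow (fun k => fw (Nat.add 22633 k)) 13 = true := by decide +kernel
theorem wu1741 : ∀ i, i < 22646 → fw i = true := below_step fw 22633 13 22646 wu1740 wc1741 rfl
theorem wc1742 : allBelow (fun k => fw (Nat.add 22646 k)) 13 = true := by decide +kernel
theorem wu1742 : ∀ i, i < 22659 → fw i = true := below_step fw 22646 13 22659 wu1741 wc1742 rfl
theorem wc1743 : allBelow (fun k => fw (Nat.add 22659 k)) 13 = true := by decide +kernel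
theorem wu1743 : ∀ i, i < 22672 → fw i = true := below_step fw 22659 13 22672 wu1742 wc1743 rfl
theorem wc1744 : allBelow (fun k => fw (Nat.add 22672 k)) 13 = true := by decide +kernel
theorem wu1744 : ∀ i, i < 22685 → fw i = true := below_step fw 22672 13 22685 wu1743 wc1744 rfl
theorem wc1745 : allBelow (fun k => fw (Nat.add 22685 k)) 13 = true := by decide +kernel
theorem wu1745 : ∀ i, i < 22698 → fw i = true := below_step fw 22685 13 22698 wu1744 wc1745 rfl
theorem wc1746 : allBelow (fun k => fw (Nat.add 22698 k)) 13 = true := by decide +kernel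
theorem wu1746 : ∀ i, i < 22711 → fw i = true := below_step fw 22698 13 22711 wu1745 wc1746 rfl
theorem wc1747 : allBelow (fun k => fw (Nat.add 22711 k)) 13 = true := by decide +kernel
theorem wu1747 : ∀ i, i < 22724 → fw i = true := below_step fw 22711 13 22724 wu1746 wc1747 rfl
theorem wc1748 : allBelow (fun k => fw (Nat.add 22724 k)) 13 = true := by decide +kernel
theorem wu1748 : ∀ i, i < 22737 → fw i = true := below_step fw 22724 13 22737 wu1747 wc1748 rfl
theorem wc1749 : allBelow (fun k => fw (Nat.add 22737 k)) 13 = true := by decide +kernel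
theorem wu1749 : ∀ i, i < 22750 → fw i = true := below_step fw 22737 13 22750 wu1748 wc1749 rfl
theorem wc1750 : allBelow (fun k => fw (Nat.add 22750 k)) 13 = true := by decide +kernel
theorem wu1750 : ∀ i, i < 22763 → fw i = true := below_step fw 22750 13 22763 wu1749 wc1750 rfl
theorem wc1751 : allBelow (fun k => fw (Nat.add 22763 k)) 13 = true := by decide +kernel
theorem wu1751 : ∀ i, i < 22776 → fw i = true := below_step fw 22763 13 22776 wu1750 wc1751 rfl
theorem wc1752 : allBelow (fun k => fw (Nat.add 22776 k)) 13 = true := by decide +kernel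
theorem wu1752 : ∀ i, i < 22789 → fw i = true := below_step fw 22776 13 22789 wu1751 wc1752 rfl
theorem wc1753 : allBelow (fun k => fw (Nat.add 22789 k)) 13 = true := by decide +kernel
theorem wu1753 : ∀ i, i < 22802 → fw i = true := below_step fw 22789 13 22802 wu1752 wc1753 rfl
theorem wc1754 : allBelow (fun k => fw (Nat.add 22802 k)) 13 = true := by decide +kernel
theorem wu1754 : ∀ i, i < 22815 → fw i = true := below_step fw 22802 13 22815 wu1753 wc1754 rfl
theorem wc1755 : allBelow (fun k => fw (Nat.add 22815 k)) 13 = true := by decide +kernel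
theorem wu1755 : ∀ i, i < 22828 → fw i = true := below_step fw 22815 13 22828 wu1754 wc1755 rfl
theorem wc1756 : allBelow (fun k => fw (Nat.add 22828 k)) 13 = true := by decide +kernel
theorem wu1756 : ∀ i, i < 22841 → fw i = true := below_step fw 22828 13 22841 wu1755 wc1756 rfl
theorem wc1757 : allBelow (fun k => fw (Nat.add 22841 k)) 13 = true := by decide +kernel
theorem wu1757 : ∀ i, i < 22854 → fw i = true := below_step fw 22841 13 22854 wu1756 wc1757 rfl
theorem wc1758 : allBelow (fun k => fw (Nat.add 22854 k)) 13 = true := by decide +kernel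
theorem wu1758 : ∀ i, i < 22867 → fw i = true := below_step fw 22854 13 22867 wu1757 wc1758 rfl
theorem wc1759 : allBelow (fun k => fw (Nat.add 22867 k)) 13 = true := by decide +kernel
theorem wu1759 : ∀ i, i < 22880 → fw i = true := below_step fw 22867 13 22880 wu1758 wc1759 rfl
theorem wc1760 : allBelow (fun k => fw (Nat.add 22880 k)) 13 = true := by decide +kernel
theorem wu1760 : ∀ i, i < 22893 → fw i = true := below_step fw 22880 13 22893 wu1759 wc1760 rfl
theorem wc1761 : allBelow (fun k => fw (Nat.add 22893 k)) 13 = true := by decide +kernel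
theorem wu1761 : ∀ i, i < 22906 → fw i = true := below_step fw 22893 13 22906 wu1760 wc1761 rfl
theorem wc1762 : allBelow (fun k => fw (Nat.add 22906 k)) 13 = true := by decide +kernel
theorem wu1762 : ∀ i, i < 22919 → fw i = true := below_step fw 22906 13 22919 wu1761 wc1762 rfl
theorem wc1763 : allBelow (fun k => fw (Nat.add 22919 k)) 13 = true := by decide +kernel
theorem wu1763 : ∀ i, i < 22932 → fw i = true := below_step fw 22919 13 22932 wu1762 wc1763 rfl
theorem wc1764 : allBelow (fun k => fw (Nat.add 22932 k)) 13 = true := by decide +kernel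
theorem wu1764 : ∀ i, i < 22945 → fw i = true := below_step fw 22932 13 22945 wu1763 wc1764 rfl
theorem wc1765 : allBelow (fun k => fw (Nat.add 22945 k)) 13 = true := by decide +kernel
theorem wu1765 : ∀ i, i < 22958 → fw i = true := below_step fw 22945 13 22958 wu1764 wc1765 rfl
theorem wc1766 : allBelow (fun k => fw (Nat.add 22958 k)) 13 = true := by decide +kernel
theorem wu1766 : ∀ i, i < 22971 → fw i = true := below_step fw 22958 13 22971 wu1765 wc1766 rfl
theorem wc1767 : allBelow (fun k => fw (Nat.add 22971 k)) 13 = true := by decide +kernel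
theorem wu1767 : ∀ i, i < 22984 → fw i = true := below_step fw 22971 13 22984 wu1766 wc1767 rfl
theorem wc1768 : allBelow (fun k => fw (Nat.add 22984 k)) 13 = true := by decide +kernel
theorem wu1768 : ∀ i, i < 22997 → fw i = true := below_step fw 22984 13 22997 wu1767 wc1768 rfl
theorem wc1769 : allBelow (fun k => fw (Nat.add 22997 k)) 13 = true := by decide +kernel
theorem wu1769 : ∀ i, i < 23010 → fw i = true := below_step fw 22997 13 23010 wu1768 wc1769 rfl
theorem wc1770 : allBelow (fun k => fw (Nat.add 23010 k)) 13 = true := by decide +kernel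
theorem wu1770 : ∀ i, i < 23023 → fw i = true := below_step fw 23010 13 23023 wu1769 wc1770 rfl
theorem wc1771 : allBelow (fun k => fw (Nat.add 23023 k)) 13 = true := by decide +kernel
theorem wu1771 : ∀ i, i < 23036 → fw i = true := below_step fw 23023 13 23036 wu1770 wc1771 rfl
theorem wc1772 : allBelow (fun k => fw (Nat.add 23036 k)) 13 = true := by decide +kernel
theorem wu1772 : ∀ i, i < 23049 → fw i = true := below_step fw 23036 13 23049 wu1771 wc1772 rfl
theorem wc1773 : allBelow (fun k => fw (Nat.add 23049 k)) 13 = true := by decide +kernel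
theorem wu1773 : ∀ i, i < 23062 → fw i = true := below_step fw 23049 13 23062 wu1772 wc1773 rfl
theorem wc1774 : allBelow (fun k => fw (Nat.add 23062 k)) 13 = true := by decide +kernel
theorem wu1774 : ∀ i, i < 23075 → fw i = true := below_step fw 23062 13 23075 wu1773 wc1774 rfl
theorem wc1775 : allBelow (fun k => fw (Nat.add 23075 k)) 13 = true := by decide +kernel
theorem wu1775 : ∀ i, i < 23088 → fw i = true := below_step fw 23075 13 23088 wu1774 wc1775 rfl
theorem wc1776 : allBelow (fun k => fw (Nat.add 23088 k)) 13 = true := by decide +kernel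
theorem wu1776 : ∀ i, i < 23101 → fw i = true := below_step fw 23088 13 23101 wu1775 wc1776 rfl
theorem wc1777 : allBelow (fun k => fw (Nat.add 23101 k)) 13 = true := by decide +kernel
theorem wu1777 : ∀ i, i < 23114 → fw i = true := below_step fw 23101 13 23114 wu1776 wc1777 rfl
theorem wc1778 : allBelow (fun k => fw (Nat.add 23114 k)) 13 = true := by decide +kernel
theorem wu1778 : ∀ i, i < 23127 → fw i = true := below_step fw 23114 13 23127 wu1777 wc1778 rfl
theorem wc1779 : allBelow (fun k => fw (Nat.add 23127 k)) 13 = true := by decide +kernel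
theorem wu1779 : ∀ i, i < 23140 → fw i = true := below_step fw 23127 13 23140 wu1778 wc1779 rfl
theorem wc1780 : allBelow (fun k => fw (Nat.add 23140 k)) 13 = true := by decide +kernel
theorem wu1780 : ∀ i, i < 23153 → fw i = true := below_step fw 23140 13 23153 wu1779 wc1780 rfl
theorem wc1781 : allBelow (fun k => fw (Nat.add 23153 k)) 13 = true := by decide +kernel
theorem wu1781 : ∀ i, i < 23166 → fw i = true := below_step fw 23153 13 23166 wu1780 wc1781 rfl
theorem wc1782 : allBelow (fun k => fw (Nat.add 23166 k)) 13 = true := by decide +kernel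
theorem wu1782 : ∀ i, i < 23179 → fw i = true := below_step fw 23166 13 23179 wu1781 wc1782 rfl
theorem wc1783 : allBelow (fun k => fw (Nat.add 23179 k)) 13 = true := by decide +kernel
theorem wu1783 : ∀ i, i < 23192 → fw i = true := below_step fw 23179 13 23192 wu1782 wc1783 rfl
theorem wc1784 : allBelow (fun k => fw (Nat.add 23192 k)) 13 = true := by decide +kernel
theorem wu1784 : ∀ i, i < 23205 → fw i = true := below_step fw 23192 13 23205 wu1783 wc1784 rfl
theorem wc1785 : allBelow (fun k => fw (Nat.add 23205 k)) 13 = true := by decide +kernel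
theorem wu1785 : ∀ i, i < 23218 → fw i = true := below_step fw 23205 13 23218 wu1784 wc1785 rfl
theorem wc1786 : allBelow (fun k => fw (Nat.add 23218 k)) 13 = true := by decide +kernel
theorem wu1786 : ∀ i, i < 23231 → fw i = true := below_step fw 23218 13 23231 wu1785 wc1786 rfl
theorem wc1787 : allBelow (fun k => fw (Nat.add 23231 k)) 13 = true := by decide +kernel
theorem wu1787 : ∀ i, i < 23244 → fw i = true := below_step fw 23231 13 23244 wu1786 wc1787 rfl
theorem wc1788 : allBelow (fun k => fw (Nat.add 23244 k)) 13 = true := by decide +kernel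
theorem wu1788 : ∀ i, i < 23257 → fw i = true := below_step fw 23244 13 23257 wu1787 wc1788 rfl
theorem wc1789 : allBelow (fun k => fw (Nat.add 23257 k)) 13 = true := by decide +kernel
theorem wu1789 : ∀ i, i < 23270 → fw i = true := below_step fw 23257 13 23270 wu1788 wc1789 rfl
theorem wc1790 : allBelow (fun k => fw (Nat.add 23270 k)) 13 = true := by decide +kernel
theorem wu1790 : ∀ i, i < 23283 → fw i = true := below_step fw 23270 13 23283 wu1789 wc1790 rfl
theorem wc1791 : allBelow (fun k => fw (Nat.add 23283 k)) 13 = true := by decide +kernel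
theorem wu1791 : ∀ i, i < 23296 → fw i = true := below_step fw 23283 13 23296 wu1790 wc1791 rfl
theorem wc1792 : allBelow (fun k => fw (Nat.add 23296 k)) 13 = true := by decide +kernel
theorem wu1792 : ∀ i, i < 23309 → fw i = true := below_step fw 23296 13 23309 wu1791 wc1792 rfl
theorem wc1793 : allBelow (fun k => fw (Nat.add 23309 k)) 13 = true := by decide +kernel
theorem wu1793 : ∀ i, i < 23322 → fw i = true := below_step fw 23309 13 23322 wu1792 wc1793 rfl
theorem wc1794 : allBelow (fun k => fw (Nat.add 23322 k)) 13 = true := by decide +kernel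
theorem wu1794 : ∀ i, i < 23335 → fw i = true := below_step fw 23322 13 23335 wu1793 wc1794 rfl
theorem wc1795 : allBelow (fun k => fw (Nat.add 23335 k)) 13 = true := by decide +kernel
theorem wu1795 : ∀ i, i < 23348 → fw i = true := below_step fw 23335 13 23348 wu1794 wc1795 rfl
theorem wc1796 : allBelow (fun k => fw (Nat.add 23348 k)) 13 = true := by decide +kernel
theorem wu1796 : ∀ i, i < 23361 → fw i = true := below_step fw 23348 13 23361 wu1795 wc1796 rfl
theorem wc1797 : allBelow (fun k => fw (Nat.add 23361 k)) 13 = true := by decide +kernel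
theorem wu1797 : ∀ i, i < 23374 → fw i = true := below_step fw 23361 13 23374 wu1796 wc1797 rfl
theorem wc1798 : allBelow (fun k => fw (Nat.add 23374 k)) 13 = true := by decide +kernel
theorem wu1798 : ∀ i, i < 23387 → fw i = true := below_step fw 23374 13 23387 wu1797 wc1798 rfl
theorem wc1799 : allBelow (fun k => fw (Nat.add 23387 k)) 13 = true := by decide +kernel
theorem wu1799 : ∀ i, i < 23400 → fw i = true := below_step fw 23387 13 23400 wu1798 wc1799 rfl
theorem wc1800 : allBelow (fun k => fw (Nat.add 23400 k)) 13 = true := by decide +kernel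
theorem wu1800 : ∀ i, i < 23413 → fw i = true := below_step fw 23400 13 23413 wu1799 wc1800 rfl
theorem wc1801 : allBelow (fun k => fw (Nat.add 23413 k)) 13 = true := by decide +kernel
theorem wu1801 : ∀ i, i < 23426 → fw i = true := below_step fw 23413 13 23426 wu1800 wc1801 rfl
theorem wc1802 : allBelow (fun k => fw (Nat.add 23426 k)) 13 = true := by decide +kernel
theorem wu1802 : ∀ i, i < 23439 → fw i = true := below_step fw 23426 13 23439 wu1801 wc1802 rfl
theorem wc1803 : allBelow (fun k => fw (Nat.add 23439 k)) 13 = true := by decide +kernel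
theorem wu1803 : ∀ i, i < 23452 → fw i = true := below_step fw 23439 13 23452 wu1802 wc1803 rfl
theorem wc1804 : allBelow (fun k => fw (Nat.add 23452 k)) 13 = true := by decide +kernel
theorem wu1804 : ∀ i, i < 23465 → fw i = true := below_step fw 23452 13 23465 wu1803 wc1804 rfl
theorem wc1805 : allBelow (fun k => fw (Nat.add 23465 k)) 13 = true := by decide +kernel
theorem wu1805 : ∀ i, i < 23478 → fw i = true := below_step fw 23465 13 23478 wu1804 wc1805 rfl
theorem wc1806 : allBelow (fun k => fw (Nat.add 23478 k)) 13 = true := by decide +kernel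
theorem wu1806 : ∀ i, i < 23491 → fw i = true := below_step fw 23478 13 23491 wu1805 wc1806 rfl
theorem wc1807 : allBelow (fun k => fw (Nat.add 23491 k)) 13 = true := by decide +kernel
theorem wu1807 : ∀ i, i < 23504 → fw i = true := below_step fw 23491 13 23504 wu1806 wc1807 rfl
theorem wc1808 : allBelow (fun k => fw (Nat.add 23504 k)) 13 = true := by decide +kernel
theorem wu1808 : ∀ i, i < 23517 → fw i = true := below_step fw 23504 13 23517 wu1807 wc1808 rfl
theorem wc1809 : allBelow (fun k => fw (Nat.add 23517 k)) 13 = true := by decide +kernel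
theorem wu1809 : ∀ i, i < 23530 → fw i = true := below_step fw 23517 13 23530 wu1808 wc1809 rfl
theorem wc1810 : allBelow (fun k => fw (Nat.add 23530 k)) 13 = true := by decide +kernel
theorem wu1810 : ∀ i, i < 23543 → fw i = true := below_step fw 23530 13 23543 wu1809 wc1810 rfl
theorem wc1811 : allBelow (fun k => fw (Nat.add 23543 k)) 13 = true := by decide +kernel
theorem wu1811 : ∀ i, i < 23556 → fw i = true := below_step fw 23543 13 23556 wu1810 wc1811 rfl
theorem wc1812 : allBelow (fun k => fw (Nat.add 23556 k)) 13 = true := by decide +kernel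
theorem wu1812 : ∀ i, i < 23569 → fw i = true := below_step fw 23556 13 23569 wu1811 wc1812 rfl
theorem wc1813 : allBelow (fun k => fw (Nat.add 23569 k)) 13 = true := by decide +kernel
theorem wu1813 : ∀ i, i < 23582 → fw i = true := below_step fw 23569 13 23582 wu1812 wc1813 rfl
theorem wc1814 : allBelow (fun k => fw (Nat.add 23582 k)) 13 = true := by decide +kernel
theorem wu1814 : ∀ i, i < 23595 → fw i = true := below_step fw 23582 13 23595 wu1813 wc1814 rfl
theorem wc1815 : allBelow (fun k => fw (Nat.add 23595 k)) 13 = true := by decide +kernel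
theorem wu1815 : ∀ i, i < 23608 → fw i = true := below_step fw 23595 13 23608 wu1814 wc1815 rfl
theorem wc1816 : allBelow (fun k => fw (Nat.add 23608 k)) 13 = true := by decide +kernel
theorem wu1816 : ∀ i, i < 23621 → fw i = true := below_step fw 23608 13 23621 wu1815 wc1816 rfl
theorem wc1817 : allBelow (fun k => fw (Nat.add 23621 k)) 13 = true := by decide +kernel
theorem wu1817 : ∀ i, i < 23634 → fw i = true := below_step fw 23621 13 23634 wu1816 wc1817 rfl
theorem wc1818 : allBelow (fun k => fw (Nat.add 23634 k)) 13 = true := by decide +kernel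
theorem wu1818 : ∀ i, i < 23647 → fw i = true := below_step fw 23634 13 23647 wu1817 wc1818 rfl
theorem wc1819 : allBelow (fun k => fw (Nat.add 23647 k)) 13 = true := by decide +kernel
theorem wu1819 : ∀ i, i < 23660 → fw i = true := below_step fw 23647 13 23660 wu1818 wc1819 rfl
theorem wc1820 : allBelow (fun k => fw (Nat.add 23660 k)) 13 = true := by decide +kernel
theorem wu1820 : ∀ i, i < 23673 → fw i = true := below_step fw 23660 13 23673 wu1819 wc1820 rfl
theorem wc1821 : allBelow (fun k => fw (Nat.add 23673 k)) 13 = true := by decide +kernel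
theorem wu1821 : ∀ i, i < 23686 → fw i = true := below_step fw 23673 13 23686 wu1820 wc1821 rfl
theorem wc1822 : allBelow (fun k => fw (Nat.add 23686 k)) 13 = true := by decide +kernel
theorem wu1822 : ∀ i, i < 23699 → fw i = true := below_step fw 23686 13 23699 wu1821 wc1822 rfl
theorem wc1823 : allBelow (fun k => fw (Nat.add 23699 k)) 13 = true := by decide +kernel
theorem wu1823 : ∀ i, i < 23712 → fw i = true := below_step fw 23699 13 23712 wu1822 wc1823 rfl
theorem wc1824 : allBelow (fun k => fw (Nat.add 23712 k)) 13 = true := by decide +kernel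
theorem wu1824 : ∀ i, i < 23725 → fw i = true := below_step fw 23712 13 23725 wu1823 wc1824 rfl
theorem wc1825 : allBelow (fun k => fw (Nat.add 23725 k)) 13 = true := by decide +kernel
theorem wu1825 : ∀ i, i < 23738 → fw i = true := below_step fw 23725 13 23738 wu1824 wc1825 rfl
theorem wc1826 : allBelow (fun k => fw (Nat.add 23738 k)) 13 = true := by decide +kernel
theorem wu1826 : ∀ i, i < 23751 → fw i = true := below_step fw 23738 13 23751 wu1825 wc1826 rfl
theorem wc1827 : allBelow (fun k => fw (Nat.add 23751 k)) 13 = true := by decide +kernel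
theorem wu1827 : ∀ i, i < 23764 → fw i = true := below_step fw 23751 13 23764 wu1826 wc1827 rfl
theorem wc1828 : allBelow (fun k => fw (Nat.add 23764 k)) 13 = true := by decide +kernel
theorem wu1828 : ∀ i, i < 23777 → fw i = true := below_step fw 23764 13 23777 wu1827 wc1828 rfl
theorem wc1829 : allBelow (fun k => fw (Nat.add 23777 k)) 13 = true := by decide +kernel
theorem wu1829 : ∀ i, i < 23790 → fw i = true := below_step fw 23777 13 23790 wu1828 wc1829 rfl
theorem wc1830 : allBelow (fun k => fw (Nat.add 23790 k)) 13 = true := by decide +kernel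
theorem wu1830 : ∀ i, i < 23803 → fw i = true := below_step fw 23790 13 23803 wu1829 wc1830 rfl
theorem wc1831 : allBelow (fun k => fw (Nat.add 23803 k)) 13 = true := by decide +kernel
theorem wu1831 : ∀ i, i < 23816 → fw i = true := below_step fw 23803 13 23816 wu1830 wc1831 rfl
theorem wc1832 : allBelow (fun k => fw (Nat.add 23816 k)) 13 = true := by decide +kernel
theorem wu1832 : ∀ i, i < 23829 → fw i = true := below_step fw 23816 13 23829 wu1831 wc1832 rfl
theorem wc1833 : allBelow (fun k => fw (Nat.add 23829 k)) 13 = true := by decide +kernel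
theorem wu1833 : ∀ i, i < 23842 → fw i = true := below_step fw 23829 13 23842 wu1832 wc1833 rfl
theorem wc1834 : allBelow (fun k => fw (Nat.add 23842 k)) 13 = true := by decide +kernel
theorem wu1834 : ∀ i, i < 23855 → fw i = true := below_step fw 23842 13 23855 wu1833 wc1834 rfl
theorem wc1835 : allBelow (fun k => fw (Nat.add 23855 k)) 13 = true := by decide +kernel
theorem wu1835 : ∀ i, i < 23868 → fw i = true := below_step fw 23855 13 23868 wu1834 wc1835 rfl
theorem wc1836 : allBelow (fun k => fw (Nat.add 23868 k)) 13 = true := by decide +kernel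
theorem wu1836 : ∀ i, i < 23881 → fw i = true := below_step fw 23868 13 23881 wu1835 wc1836 rfl
theorem wc1837 : allBelow (fun k => fw (Nat.add 23881 k)) 13 = true := by decide +kernel
theorem wu1837 : ∀ i, i < 23894 → fw i = true := below_step fw 23881 13 23894 wu1836 wc1837 rfl
theorem wc1838 : allBelow (fun k => fw (Nat.add 23894 k)) 13 = true := by decide +kernel
theorem wu1838 : ∀ i, i < 23907 → fw i = true := below_step fw 23894 13 23907 wu1837 wc1838 rfl
theorem wc1839 : allBelow (fun k => fw (Nat.add 23907 k)) 13 = true := by decide +kernel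
theorem wu1839 : ∀ i, i < 23920 → fw i = true := below_step fw 23907 13 23920 wu1838 wc1839 rfl
theorem wc1840 : allBelow (fun k => fw (Nat.add 23920 k)) 13 = true := by decide +kernel
theorem wu1840 : ∀ i, i < 23933 → fw i = true := below_step fw 23920 13 23933 wu1839 wc1840 rfl
theorem wc1841 : allBelow (fun k => fw (Nat.add 23933 k)) 13 = true := by decide +kernel
theorem wu1841 : ∀ i, i < 23946 → fw i = true := below_step fw 23933 13 23946 wu1840 wc1841 rfl
theorem wc1842 : allBelow (fun k => fw (Nat.add 23946 k)) 13 = true := by decide +kernel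
theorem wu1842 : ∀ i, i < 23959 → fw i = true := below_step fw 23946 13 23959 wu1841 wc1842 rfl
theorem wc1843 : allBelow (fun k => fw (Nat.add 23959 k)) 13 = true := by decide +kernel
theorem wu1843 : ∀ i, i < 23972 → fw i = true := below_step fw 23959 13 23972 wu1842 wc1843 rfl
theorem wc1844 : allBelow (fun k => fw (Nat.add 23972 k)) 13 = true := by decide +kernel
theorem wu1844 : ∀ i, i < 23985 → fw i = true := below_step fw 23972 13 23985 wu1843 wc1844 rfl
theorem wc1845 : allBelow (fun k => fw (Nat.add 23985 k)) 13 = true := by decide +kernel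
theorem wu1845 : ∀ i, i < 23998 → fw i = true := below_step fw 23985 13 23998 wu1844 wc1845 rfl
theorem wc1846 : allBelow (fun k => fw (Nat.add 23998 k)) 13 = true := by decide +kernel
theorem wu1846 : ∀ i, i < 24011 → fw i = true := below_step fw 23998 13 24011 wu1845 wc1846 rfl
theorem wc1847 : allBelow (fun k => fw (Nat.add 24011 k)) 13 = true := by decide +kernel
theorem wu1847 : ∀ i, i < 24024 → fw i = true := below_step fw 24011 13 24024 wu1846 wc1847 rfl
theorem wc1848 : allBelow (fun k => fw (Nat.add 24024 k)) 13 = true := by decide +kernel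
theorem wu1848 : ∀ i, i < 24037 → fw i = true := below_step fw 24024 13 24037 wu1847 wc1848 rfl
theorem wc1849 : allBelow (fun k => fw (Nat.add 24037 k)) 13 = true := by decide +kernel
theorem wu1849 : ∀ i, i < 24050 → fw i = true := below_step fw 24037 13 24050 wu1848 wc1849 rfl
theorem wc1850 : allBelow (fun k => fw (Nat.add 24050 k)) 13 = true := by decide +kernel
theorem wu1850 : ∀ i, i < 24063 → fw i = true := below_step fw 24050 13 24063 wu1849 wc1850 rfl
theorem wc1851 : allBelow (fun k => fw (Nat.add 24063 k)) 13 = true := by decide +kernel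
theorem wu1851 : ∀ i, i < 24076 → fw i = true := below_step fw 24063 13 24076 wu1850 wc1851 rfl
theorem wc1852 : allBelow (fun k => fw (Nat.add 24076 k)) 13 = true := by decide +kernel
theorem wu1852 : ∀ i, i < 24089 → fw i = true := below_step fw 24076 13 24089 wu1851 wc1852 rfl
theorem wc1853 : allBelow (fun k => fw (Nat.add 24089 k)) 13 = true := by decide +kernel
theorem wu1853 : ∀ i, i < 24102 → fw i = true := below_step fw 24089 13 24102 wu1852 wc1853 rfl
theorem wc1854 : allBelow (fun k => fw (Nat.add 24102 k)) 13 = true := by decide +kernel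
theorem wu1854 : ∀ i, i < 24115 → fw i = true := below_step fw 24102 13 24115 wu1853 wc1854 rfl
theorem wc1855 : allBelow (fun k => fw (Nat.add 24115 k)) 13 = true := by decide +kernel
theorem wu1855 : ∀ i, i < 24128 → fw i = true := below_step fw 24115 13 24128 wu1854 wc1855 rfl
theorem wc1856 : allBelow (fun k => fw (Nat.add 24128 k)) 13 = true := by decide +kernel
theorem wu1856 : ∀ i, i < 24141 → fw i = true := below_step fw 24128 13 24141 wu1855 wc1856 rfl
theorem wc1857 : allBelow (fun k => fw (Nat.add 24141 k)) 13 = true := by decide +kernel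
theorem wu1857 : ∀ i, i < 24154 → fw i = true := below_step fw 24141 13 24154 wu1856 wc1857 rfl
theorem wc1858 : allBelow (fun k => fw (Nat.add 24154 k)) 13 = true := by decide +kernel
theorem wu1858 : ∀ i, i < 24167 → fw i = true := below_step fw 24154 13 24167 wu1857 wc1858 rfl
theorem wc1859 : allBelow (fun k => fw (Nat.add 24167 k)) 13 = true := by decide +kernel
theorem wu1859 : ∀ i, i < 24180 → fw i = true := below_step fw 24167 13 24180 wu1858 wc1859 rfl
theorem wc1860 : allBelow (fun k => fw (Nat.add 24180 k)) 13 = true := by decide +kernel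
theorem wu1860 : ∀ i, i < 24193 → fw i = true := below_step fw 24180 13 24193 wu1859 wc1860 rfl
theorem wc1861 : allBelow (fun k => fw (Nat.add 24193 k)) 13 = true := by decide +kernel
theorem wu1861 : ∀ i, i < 24206 → fw i = true := below_step fw 24193 13 24206 wu1860 wc1861 rfl
theorem wc1862 : allBelow (fun k => fw (Nat.add 24206 k)) 13 = true := by decide +kernel
theorem wu1862 : ∀ i, i < 24219 → fw i = true := below_step fw 24206 13 24219 wu1861 wc1862 rfl
theorem wc1863 : allBelow (fun k => fw (Nat.add 24219 k)) 13 = true := by decide +kernel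
theorem wu1863 : ∀ i, i < 24232 → fw i = true := below_step fw 24219 13 24232 wu1862 wc1863 rfl
theorem wc1864 : allBelow (fun k => fw (Nat.add 24232 k)) 13 = true := by decide +kernel
theorem wu1864 : ∀ i, i < 24245 → fw i = true := below_step fw 24232 13 24245 wu1863 wc1864 rfl
theorem wc1865 : allBelow (fun k => fw (Nat.add 24245 k)) 13 = true := by decide +kernel
theorem wu1865 : ∀ i, i < 24258 → fw i = true := below_step fw 24245 13 24258 wu1864 wc1865 rfl
theorem wc1866 : allBelow (fun k => fw (Nat.add 24258 k)) 13 = true := by decide +kernel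
theorem wu1866 : ∀ i, i < 24271 → fw i = true := below_step fw 24258 13 24271 wu1865 wc1866 rfl
theorem wc1867 : allBelow (fun k => fw (Nat.add 24271 k)) 13 = true := by decide +kernel
theorem wu1867 : ∀ i, i < 24284 → fw i = true := below_step fw 24271 13 24284 wu1866 wc1867 rfl
theorem wc1868 : allBelow (fun k => fw (Nat.add 24284 k)) 13 = true := by decide +kernel
theorem wu1868 : ∀ i, i < 24297 → fw i = true := below_step fw 24284 13 24297 wu1867 wc1868 rfl
theorem wc1869 : allBelow (fun k => fw (Nat.add 24297 k)) 13 = true := by decide +kernel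
theorem wu1869 : ∀ i, i < 24310 → fw i = true := below_step fw 24297 13 24310 wu1868 wc1869 rfl
theorem wc1870 : allBelow (fun k => fw (Nat.add 24310 k)) 13 = true := by decide +kernel
theorem wu1870 : ∀ i, i < 24323 → fw i = true := below_step fw 24310 13 24323 wu1869 wc1870 rfl
theorem wc1871 : allBelow (fun k => fw (Nat.add 24323 k)) 13 = true := by decide +kernel
theorem wu1871 : ∀ i, i < 24336 → fw i = true := below_step fw 24323 13 24336 wu1870 wc1871 rfl
theorem wc1872 : allBelow (fun k => fw (Nat.add 24336 k)) 13 = true := by decide +kernel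
theorem wu1872 : ∀ i, i < 24349 → fw i = true := below_step fw 24336 13 24349 wu1871 wc1872 rfl
theorem wc1873 : allBelow (fun k => fw (Nat.add 24349 k)) 13 = true := by decide +kernel
theorem wu1873 : ∀ i, i < 24362 → fw i = true := below_step fw 24349 13 24362 wu1872 wc1873 rfl
theorem wc1874 : allBelow (fun k => fw (Nat.add 24362 k)) 13 = true := by decide +kernel
theorem wu1874 : ∀ i, i < 24375 → fw i = true := below_step fw 24362 13 24375 wu1873 wc1874 rfl
theorem wc1875 : allBelow (fun k => fw (Nat.add 24375 k)) 13 = true := by decide +kernel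
theorem wu1875 : ∀ i, i < 24388 → fw i = true := below_step fw 24375 13 24388 wu1874 wc1875 rfl
theorem wc1876 : allBelow (fun k => fw (Nat.add 24388 k)) 13 = true := by decide +kernel
theorem wu1876 : ∀ i, i < 24401 → fw i = true := below_step fw 24388 13 24401 wu1875 wc1876 rfl
theorem wc1877 : allBelow (fun k => fw (Nat.add 24401 k)) 13 = true := by decide +kernel
theorem wu1877 : ∀ i, i < 24414 → fw i = true := below_step fw 24401 13 24414 wu1876 wc1877 rfl
theorem wc1878 : allBelow (fun k => fw (Nat.add 24414 k)) 13 = true := by decide +kernel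
theorem wu1878 : ∀ i, i < 24427 → fw i = true := below_step fw 24414 13 24427 wu1877 wc1878 rfl
theorem wc1879 : allBelow (fun k => fw (Nat.add 24427 k)) 13 = true := by decide +kernel
theorem wu1879 : ∀ i, i < 24440 → fw i = true := below_step fw 24427 13 24440 wu1878 wc1879 rfl
theorem wc1880 : allBelow (fun k => fw (Nat.add 24440 k)) 13 = true := by decide +kernel
theorem wu1880 : ∀ i, i < 24453 → fw i = true := below_step fw 24440 13 24453 wu1879 wc1880 rfl
theorem wc1881 : allBelow (fun k => fw (Nat.add 24453 k)) 13 = true := by decide +kernel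
theorem wu1881 : ∀ i, i < 24466 → fw i = true := below_step fw 24453 13 24466 wu1880 wc1881 rfl
theorem wc1882 : allBelow (fun k => fw (Nat.add 24466 k)) 13 = true := by decide +kernel
theorem wu1882 : ∀ i, i < 24479 → fw i = true := below_step fw 24466 13 24479 wu1881 wc1882 rfl

end Cfsg.Agent.Lib.Helper35.Fi23Ord.X0
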